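import Cfsg.Agent.Omega.NO3S.EThree.ExactA

/-!
# THEOREM INT (helper15, #20259): the core

`N` elementary abelian, `Z₂ ≤ N`; `(NO)` for the elementary abelian subgroups `B ≤ O` acting on `N`, and the lifting
property of the exact ones; an exact `A` swaps `x`, `y ∈ N` and `i ∈ N` satisfies `[i, R] ≤ ⟨x⟩ Z₂` for an
`A`-invariant `R ≥ C_A(x)` which centralises `x`, `y`.  Then `[i, R] ≤ Z₂`.
-/

set_option autoImplicit false

namespace Cfsg.Agent.Omega.OM.PG.Int

open Subgroup Cfsg Cfsg.Agent.ZN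
open Cfsg.Agent.Omega.NO3S.EThree.ExactA (eab_iff eab_mono)

universe u

variable {G : Type u} [Group G]

theorem rix_ne [Finite G] (H K : Subgroup G) : H.relIndex K ≠ 0 := by
  change (H.subgroupOf K).index ≠ 0
  exact index_ne_zero_of_finite

theorem index_two_mul {H K : Subgroup G} (_hHK : H ≤ K) (h : H.relIndex K ≤ 2) [Finite G] {a b : G} (ha : a ∈ K)
    (hb : b ∈ K) (haH : a ∉ H) (hbH : b ∉ H) : a * b ∈ H := by
  have h1 : H.relIndex K ≠ 1 := fun h1 => haH ((relIndex_eq_one.1 h1) ha)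
  have h0 : H.relIndex K ≠ 0 := rix_ne H K
  have h2 : (H.subgroupOf K).index = 2 := by
    change H.relIndex K = 2
    omega
  have h3 := (mul_mem_iff_of_index_two h2 (a := (⟨a, ha⟩ : K)) (b := ⟨b, hb⟩)).2
    (by simp only [mem_subgroupOf]; exact ⟨fun h => absurd h haH, fun h => absurd h hbH⟩)
  simpa [mem_subgroupOf] using h3

/-- the pairs `(B, N)` with `|B : C_B(N)| = |N : C_N(B)|` -/
def Ex (B N : Subgroup G) : Prop :=
  (centralizer (N : Set G)).relIndex B = (centralizer (B : Set G)).relIndex N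

section

variable [Finite G] {N O Z₂ : Subgroup G}

/-- Halving: `A₁ ≤ A` of index `2`, `C_A(N) ≤ A₁`, `A₁` has more fixed points than `A`. -/
theorem half {A A₁ : Subgroup G} (hAA : A₁ ≤ A) (h2 : A₁.relIndex A = 2)
    (hC : A ⊓ centralizer (N : Set G) ≤ A₁) (hA : Ex A N)
    (hno : (centralizer (N : Set G)).relIndex A₁ ≤ (centralizer (A₁ : Set G)).relIndex N)
    {n : G} (hn : n ∈ N) (hn1 : n ∈ centralizer (A₁ : Set G)) (hn2 : n ∉ centralizer (A : Set G)) :
    Ex A₁ N ∧ (N ⊓ centralizer (A : Set G)).relIndex (N ⊓ centralizer (A₁ : Set G)) = 2 := by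
  -- `|A : C_A(N)| = 2 |A₁ : C_{A₁}(N)|`
  have e1 : (centralizer (N : Set G)).relIndex A₁ * 2 = (centralizer (N : Set G)).relIndex A := by
    have h3 : (A ⊓ centralizer (N : Set G)).relIndex A₁ * A₁.relIndex A =
        (A ⊓ centralizer (N : Set G)).relIndex A := relIndex_mul_relIndex _ _ _ hC hAA
    rw [h2] at h3
    have h4 : (A ⊓ centralizer (N : Set G)).relIndex A = (centralizer (N : Set G)).relIndex A := by
      rw [inf_comm]; exact inf_relIndex_right _ _
    have h5 : (A ⊓ centralizer (N : Set G)).relIndex A₁ = (centralizer (N : Set G)).relIndex A₁ := by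
      have h6 : A ⊓ centralizer (N : Set G) = (centralizer (N : Set G)) ⊓ A₁ := by
        refine le_antisymm (le_inf inf_le_right hC) (le_inf (inf_le_right.trans hAA) inf_le_left)
      rw [h6]; exact inf_relIndex_right _ _
    rw [h4, h5] at h3
    exact h3
  have hle : N ⊓ centralizer (A : Set G) ≤ N ⊓ centralizer (A₁ : Set G) :=
    inf_le_inf_left _ (centralizer_le hAA)
  have e2 : (N ⊓ centralizer (A : Set G)).relIndex (N ⊓ centralizer (A₁ : Set G)) *
      (centralizer (A₁ : Set G)).relIndex N = (centralizer (A : Set G)).relIndex N := by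
    have h3 := relIndex_mul_relIndex _ _ _ hle (inf_le_left : N ⊓ centralizer (A₁ : Set G) ≤ N)
    have h4 : (N ⊓ centralizer (A₁ : Set G)).relIndex N = (centralizer (A₁ : Set G)).relIndex N := by
      rw [inf_comm]; exact inf_relIndex_right _ _
    have h5 : (N ⊓ centralizer (A : Set G)).relIndex N = (centralizer (A : Set G)).relIndex N := by
      rw [inf_comm]; exact inf_relIndex_right _ _
    rw [h4, h5] at h3
    exact h3
  set r := (N ⊓ centralizer (A : Set G)).relIndex (N ⊓ centralizer (A₁ : Set G)) with hr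
  have hr0 : r ≠ 0 := rix_ne _ _
  have hr1 : r ≠ 1 := fun h => hn2 ((relIndex_eq_one.1 h) ⟨hn, hn1⟩).2
  have hr2 : 2 ≤ r := by omega
  have hA' : (centralizer (N : Set G)).relIndex A = (centralizer (A : Set G)).relIndex N := hA
  have g0 : (centralizer (A₁ : Set G)).relIndex N ≠ 0 := rix_ne _ _
  have e3 : r * (centralizer (A₁ : Set G)).relIndex N = (centralizer (N : Set G)).relIndex A₁ * 2 := by
    rw [e2, e1, hA']
  have h7 : 2 * (centralizer (A₁ : Set G)).relIndex N ≤ r * (centralizer (A₁ : Set G)).relIndex N :=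
    Nat.mul_le_mul_right _ hr2
  have h8 : (centralizer (N : Set G)).relIndex A₁ = (centralizer (A₁ : Set G)).relIndex N := by omega
  refine ⟨h8, ?_⟩
  rw [h8] at e3
  have h9 : r * (centralizer (A₁ : Set G)).relIndex N = 2 * (centralizer (A₁ : Set G)).relIndex N := by
    rw [e3]; ring
  exact Nat.eq_of_mul_eq_mul_right (Nat.pos_of_ne_zero g0) h9

/-- **THEOREM INT, (2).** -/
theorem core (hN : IsElementaryAbelian 2 N) (hZN : Z₂ ≤ N)
    (hNO : ∀ B : Subgroup G, IsElementaryAbelian 2 B → B ≤ O →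
      (centralizer (N : Set G)).relIndex B ≤ (centralizer (B : Set G)).relIndex N)
    (hLift : ∀ B : Subgroup G, IsElementaryAbelian 2 B → B ≤ O → Ex B N → ∀ n ∈ N,
      (∀ b ∈ B, n * b * n⁻¹ * b⁻¹ ∈ Z₂) → n ∈ centralizer (B : Set G))
    {A R : Subgroup G} (hA : IsElementaryAbelian 2 A) (hAO : A ≤ O) (hAe : Ex A N)
    {x y i a : G} (hx : x ∈ N) (hy : y ∈ N) (hi : i ∈ N) (haA : a ∈ A) (hxy : a * x * a⁻¹ = y)
    (hAx : ∀ b ∈ A, b * x * b⁻¹ = x ∨ b * x * b⁻¹ = y)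
    (hAN : ∀ b ∈ A, ∀ n ∈ N, b * n * b⁻¹ ∈ N)
    (hAZ : ∀ b ∈ A, ∀ z ∈ Z₂, b * z = z * b)
    (hxyZ : x * y ∉ Z₂)
    (hAR : ∀ b ∈ A, b * x = x * b → b ∈ R) (haR : ∀ b ∈ R, a⁻¹ * b * a ∈ R)
    (hRx : ∀ b ∈ R, b * x = x * b) (hRy : ∀ b ∈ R, b * y = y * b)
    (hiR : ∀ b ∈ R, i * b * i⁻¹ * b⁻¹ ∈ Z₂ ∨ x * (i * b * i⁻¹ * b⁻¹) ∈ Z₂) :
    ∀ b ∈ R, i * b * i⁻¹ * b⁻¹ ∈ Z₂ := by
  obtain ⟨hNc, hNs⟩ := eab_iff.1 hN
  obtain ⟨hAc, hAs⟩ := eab_iff.1 hA
  have cN : ∀ p ∈ N, ∀ q ∈ N, p * q = q * p := fun p hp q hq => (mem_centralizer_iff.1 (hNc hq) p hp)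
  have sN : ∀ p ∈ N, p * p = 1 := fun p hp => by rw [← pow_two]; exact hNs p hp
  have iN : ∀ p ∈ N, p⁻¹ = p := fun p hp => inv_eq_of_mul_eq_one_right (sN p hp)
  have cA : ∀ p ∈ A, ∀ q ∈ A, p * q = q * p := fun p hp q hq => (mem_centralizer_iff.1 (hAc hq) p hp)
  have sA : ∀ p ∈ A, p * p = 1 := fun p hp => by rw [← pow_two]; exact hAs p hp
  have hne : x * y ≠ 1 := fun h => hxyZ (h ▸ one_mem _)
  have hxny : x ≠ y := fun h => hne (by rw [← h, sN x hx])
  -- `a` swaps `x` and `y`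
  have hyx : a * y * a⁻¹ = x := by
    rw [← hxy]
    calc a * (a * x * a⁻¹) * a⁻¹ = (a * a) * x * (a * a)⁻¹ := by group
      _ = x := by rw [sA a haA]; group
  have hAy : ∀ b ∈ A, b * x = x * b → b * y = y * b := by
    intro b hb hbx
    rw [← hxy]
    calc b * (a * x * a⁻¹) = (b * a) * x * a⁻¹ := by group
      _ = a * (b * x) * a⁻¹ := by rw [cA b hb a haA]; group
      _ = a * x * (b * a⁻¹) := by rw [hbx]; group
      _ = a * x * (a⁻¹ * b) := by rw [cA b hb a⁻¹ (inv_mem haA)]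
      _ = a * x * a⁻¹ * b := by group
  set A₀ : Subgroup G := A ⊓ centralizer {x} with hA₀
  have mA₀ : ∀ b, b ∈ A₀ ↔ b ∈ A ∧ b * x = x * b := by
    intro b
    rw [hA₀, mem_inf, mem_centralizer_singleton_iff]
  have hA₀A : A₀ ≤ A := inf_le_left
  have hA₀e : IsElementaryAbelian 2 A₀ := eab_mono hA hA₀A
  have h2 : A₀.relIndex A = 2 := by
    change (A₀.subgroupOf A).index = 2
    refine index_eq_two_iff.2 ⟨⟨a, haA⟩, fun b => ?_⟩
    obtain ⟨b, hb⟩ := b
    simp only [mem_subgroupOf, MulMemClass.mk_mul_mk, mA₀]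
    by_cases hbx : b * x = x * b
    · right
      refine ⟨⟨hb, hbx⟩, fun h => hxny ?_⟩
      have h3 : (b * a) * x * (b * a)⁻¹ = x := by rw [h.2, mul_inv_cancel_right]
      have h4 : (b * a) * x * (b * a)⁻¹ = y := by
        calc (b * a) * x * (b * a)⁻¹ = b * (a * x * a⁻¹) * b⁻¹ := by group
          _ = y := by rw [hxy, hAy b hb hbx, mul_inv_cancel_right]
      rw [← h3, h4]
    · left
      refine ⟨⟨mul_mem hb haA, ?_⟩, fun h => hbx h.2⟩
      have h3 : b * x * b⁻¹ = y := (hAx b hb).resolve_left fun h => hbx (by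
        calc b * x = b * x * b⁻¹ * b := by group
          _ = x * b := by rw [h])
      have h4 : (b * a) * x * (b * a)⁻¹ = x := by
        rw [cA b hb a haA]
        calc (a * b) * x * (a * b)⁻¹ = a * (b * x * b⁻¹) * a⁻¹ := by group
          _ = x := by rw [h3, hyx]
      calc (b * a) * x = (b * a) * x * (b * a)⁻¹ * (b * a) := by group
        _ = x * (b * a) := by rw [h4]
  have hCA : A ⊓ centralizer (N : Set G) ≤ A₀ := by
    intro b hb
    exact (mA₀ b).2 ⟨hb.1, (mem_centralizer_iff.1 hb.2 x hx).symm⟩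
  have hxA₀ : x ∈ centralizer (A₀ : Set G) :=
    mem_centralizer_iff.2 fun b hb => ((mA₀ b).1 hb).2
  have hxA : x ∉ centralizer (A : Set G) := by
    intro h
    have h3 := mem_centralizer_iff.1 h a haA
    apply hxny
    rw [← hxy, h3, mul_inv_cancel_right]
  obtain ⟨hA₀x, hidx⟩ := half hA₀A h2 hCA hAe (hNO A₀ hA₀e (hA₀A.trans hAO)) hx hxA₀ hxA
  -- commutators
  set i' := a * i * a⁻¹ with hi'
  have hi'N : i' ∈ N := hAN a haA i hi
  have hA₀R : ∀ b ∈ A₀, b ∈ R := fun b hb => hAR b ((mA₀ b).1 hb).1 ((mA₀ b).1 hb).2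
  have cmem : ∀ b ∈ R, i * b * i⁻¹ * b⁻¹ ∈ N := by
    intro b hb
    rcases hiR b hb with h | h
    · exact hZN h
    · have h3 := mul_mem hx (hZN h)
      rwa [← mul_assoc, sN x hx, one_mul] at h3
  have c' : ∀ b : G, i' * b * i'⁻¹ * b⁻¹ = a * (i * (a⁻¹ * b * a) * i⁻¹ * (a⁻¹ * b * a)⁻¹) * a⁻¹ := by
    intro b; rw [hi']; group
  have hiR' : ∀ b ∈ R, i' * b * i'⁻¹ * b⁻¹ ∈ Z₂ ∨ y * (i' * b * i'⁻¹ * b⁻¹) ∈ Z₂ := by
    intro b hb
    rw [c']
    rcases hiR _ (haR b hb) with h | h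
    · left
      rw [hAZ a haA _ h, mul_inv_cancel_right]
      exact h
    · right
      have h3 : y * (a * (i * (a⁻¹ * b * a) * i⁻¹ * (a⁻¹ * b * a)⁻¹) * a⁻¹) =
          a * (x * (i * (a⁻¹ * b * a) * i⁻¹ * (a⁻¹ * b * a)⁻¹)) * a⁻¹ := by
        rw [← hxy]; group
      rw [h3, hAZ a haA _ h, mul_inv_cancel_right]
      exact h
  by_cases hp : ∀ b ∈ A₀, i * b * i⁻¹ * b⁻¹ ∈ Z₂
  · -- case (a)
    have h3 : i ∈ centralizer (A₀ : Set G) := hLift A₀ hA₀e (hA₀A.trans hAO) hA₀x i hi hp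
    have h4 : ∀ b ∈ R, i' * b * i'⁻¹ * b⁻¹ = i * b * i⁻¹ * b⁻¹ := by
      by_cases hiA : i ∈ centralizer (A : Set G)
      · have h5 : i' = i := by
          rw [hi', mem_centralizer_iff.1 hiA a haA, mul_inv_cancel_right]
        intro b _; rw [h5]
      · have h5 : x * i ∈ N ⊓ centralizer (A : Set G) :=
          index_two_mul (inf_le_inf_left _ (centralizer_le hA₀A)) hidx.le ⟨hx, hxA₀⟩ ⟨hi, h3⟩
            (fun h => hxA h.2) (fun h => hiA h.2)
        have h6 : a * (x * i) * a⁻¹ = x * i := by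
          rw [mem_centralizer_iff.1 h5.2 a haA, mul_inv_cancel_right]
        have h7 : y * i' = x * i := by
          rw [← h6, ← hxy, hi']; group
        have h8 : i' = (x * y) * i := by
          calc i' = y * (y * i') := by rw [← mul_assoc, sN y hy, one_mul]
            _ = (y * x) * i := by rw [h7, mul_assoc]
            _ = (x * y) * i := by rw [cN y hy x hx]
        intro b hb
        have h9 : b * (x * y) = (x * y) * b := by
          rw [← mul_assoc, hRx b hb, mul_assoc, hRy b hb, mul_assoc]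
        have h10 := cN (x * y) (mul_mem hx hy) _ (cmem b hb)
        rw [h8]
        calc x * y * i * b * (x * y * i)⁻¹ * b⁻¹
            = (x * y) * (i * b * i⁻¹ * b⁻¹) * (b * (x * y)⁻¹) * b⁻¹ := by group
          _ = (i * b * i⁻¹ * b⁻¹) * (x * y) * (b * (x * y)⁻¹) * b⁻¹ := by rw [h10]
          _ = (i * b * i⁻¹ * b⁻¹) * ((x * y) * b) * (x * y)⁻¹ * b⁻¹ := by group
          _ = (i * b * i⁻¹ * b⁻¹) * (b * (x * y)) * (x * y)⁻¹ * b⁻¹ := by rw [h9]
          _ = i * b * i⁻¹ * b⁻¹ := by group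
    intro b hb
    rcases hiR b hb with h | h
    · exact h
    · rcases hiR' b hb with h' | h'
      · rwa [h4 b hb] at h'
      · exfalso
        rw [h4 b hb] at h'
        apply hxyZ
        have h5 := mul_mem h h'
        have h6 := cmem b hb
        have e : x * (i * b * i⁻¹ * b⁻¹) * (y * (i * b * i⁻¹ * b⁻¹)) = x * y := by
          calc x * (i * b * i⁻¹ * b⁻¹) * (y * (i * b * i⁻¹ * b⁻¹))
              = x * ((i * b * i⁻¹ * b⁻¹) * y) * (i * b * i⁻¹ * b⁻¹) := by group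
            _ = x * (y * (i * b * i⁻¹ * b⁻¹)) * (i * b * i⁻¹ * b⁻¹) := by rw [cN _ h6 y hy]
            _ = x * y * ((i * b * i⁻¹ * b⁻¹) * (i * b * i⁻¹ * b⁻¹)) := by group
            _ = x * y := by rw [sN _ h6, mul_one]
        rwa [e] at h5
  · -- case (b)
    exfalso
    push Not at hp
    obtain ⟨b₀, hb₀, hb₀Z⟩ := hp
    set d := i * i' with hd
    have hdN : d ∈ N := mul_mem hi hi'N
    -- `[i', b]` for `b ∈ A₀`
    have cb : ∀ b ∈ A₀, i' * b * i'⁻¹ * b⁻¹ = a * (i * b * i⁻¹ * b⁻¹) * a⁻¹ := by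
      intro b hb
      have h3 : a⁻¹ * b * a = b := by
        rw [cA _ (inv_mem haA) b (hA₀A hb), inv_mul_cancel_right]
      rw [c', h3]
    have dc : ∀ b ∈ A₀, d * b * d⁻¹ * b⁻¹ = (i * b * i⁻¹ * b⁻¹) * (i' * b * i'⁻¹ * b⁻¹) := by
      intro b hb
      have h3 := cmem b (hA₀R b hb)
      have h4 : i' * b * i'⁻¹ * b⁻¹ ∈ N := by
        rw [cb b hb]; exact hAN a haA _ h3
      calc d * b * d⁻¹ * b⁻¹ = i * (i' * b * i'⁻¹ * b⁻¹) * (b * i⁻¹ * b⁻¹) := by rw [hd]; group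
        _ = (i' * b * i'⁻¹ * b⁻¹) * i * (b * i⁻¹ * b⁻¹) := by rw [cN i hi _ h4]
        _ = (i' * b * i'⁻¹ * b⁻¹) * (i * b * i⁻¹ * b⁻¹) := by group
        _ = (i * b * i⁻¹ * b⁻¹) * (i' * b * i'⁻¹ * b⁻¹) := cN _ h4 _ h3
    have dZ : ∀ b ∈ A₀, i * b * i⁻¹ * b⁻¹ ∈ Z₂ → d * b * d⁻¹ * b⁻¹ = 1 := by
      intro b hb h
      rw [dc b hb, cb b hb, hAZ a haA _ h, mul_inv_cancel_right]
      exact sN _ (hZN h)
    have dX : ∀ b ∈ A₀, i * b * i⁻¹ * b⁻¹ ∉ Z₂ → d * b * d⁻¹ * b⁻¹ = x * y := by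
      intro b hb h
      have h3 := (hiR b (hA₀R b hb)).resolve_left h
      have h4 := cmem b (hA₀R b hb)
      set c := i * b * i⁻¹ * b⁻¹ with hc
      have h5 : a * c * a⁻¹ = y * (x * c) := by
        calc a * c * a⁻¹ = a * ((x * x) * c) * a⁻¹ := by rw [sN x hx, one_mul]
          _ = (a * x * a⁻¹) * (a * (x * c) * a⁻¹) := by group
          _ = y * (x * c) := by rw [hxy, hAZ a haA _ h3, mul_inv_cancel_right]
      rw [dc b hb, cb b hb, ← hc, h5]
      calc c * (y * (x * c)) = (c * (y * x)) * c := by group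
        _ = ((y * x) * c) * c := by rw [cN c h4 (y * x) (mul_mem hy hx)]
        _ = (y * x) * (c * c) := by group
        _ = x * y := by rw [sN c h4, mul_one, cN y hy x hx]
    set B : Subgroup G := A₀ ⊓ centralizer {d} with hB
    have mB : ∀ b, b ∈ B ↔ b ∈ A₀ ∧ b * d = d * b := by
      intro b
      rw [hB, mem_inf, mem_centralizer_singleton_iff]
    have hBA₀ : B ≤ A₀ := inf_le_left
    have hBe : IsElementaryAbelian 2 B := eab_mono hA₀e hBA₀
    have mB' : ∀ b ∈ A₀, (b ∈ B ↔ i * b * i⁻¹ * b⁻¹ ∈ Z₂) := by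
      intro b hb
      constructor
      · intro h
        by_contra hcon
        have h3 := dX b hb hcon
        have h4 := ((mB b).1 h).2
        apply hne
        rw [← h3, ← h4]; group
      · intro h
        refine (mB b).2 ⟨hb, ?_⟩
        have h3 := dZ b hb h
        calc b * d = (d * b * d⁻¹ * b⁻¹)⁻¹ * (d * b) := by group
          _ = d * b := by rw [h3]; group
    have hb₀B : b₀ ∉ B := fun h => hb₀Z ((mB' b₀ hb₀).1 h)
    have hmulc : ∀ b ∈ A₀, ∀ b' ∈ A₀, d * (b * b') * d⁻¹ * (b * b')⁻¹ =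
        (d * b * d⁻¹ * b⁻¹) * (b * (d * b' * d⁻¹ * b'⁻¹) * b⁻¹) := by
      intro b _ b' _; group
    have hbxy : ∀ b ∈ A₀, b * (x * y) * b⁻¹ = x * y := by
      intro b hb
      obtain ⟨h3, h4⟩ := (mA₀ b).1 hb
      rw [← mul_assoc, h4, mul_assoc x b y, hAy b h3 h4, ← mul_assoc, mul_inv_cancel_right]
    have hB2 : B.relIndex A₀ = 2 := by
      change (B.subgroupOf A₀).index = 2
      refine index_eq_two_iff.2 ⟨⟨b₀, hb₀⟩, fun b => ?_⟩
      obtain ⟨b, hb⟩ := b
      simp only [mem_subgroupOf, MulMemClass.mk_mul_mk]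
      have comm_iff : ∀ g : G, g * d = d * g ↔ d * g * d⁻¹ * g⁻¹ = 1 := by
        intro g
        constructor
        · intro h
          rw [← h]; group
        · intro h
          calc g * d = (d * g * d⁻¹ * g⁻¹)⁻¹ * (d * g) := by group
            _ = d * g := by rw [h]; group
      by_cases hbB : b ∈ B
      · right
        refine ⟨hbB, fun h => ?_⟩
        have h3 := (comm_iff _).1 ((mB _).1 h).2
        rw [hmulc b hb b₀ hb₀, (comm_iff b).1 ((mB b).1 hbB).2, dX b₀ hb₀ hb₀Z, hbxy b hb, one_mul] at h3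
        exact hne h3
      · left
        refine ⟨(mB _).2 ⟨mul_mem hb hb₀, (comm_iff _).2 ?_⟩, hbB⟩
        rw [hmulc b hb b₀ hb₀, dX b hb (fun h => hbB ((mB' b hb).2 h)), dX b₀ hb₀ hb₀Z, hbxy b hb]
        exact sN _ (mul_mem hx hy)
    have hCB : A₀ ⊓ centralizer (N : Set G) ≤ B := by
      intro b hb
      exact (mB b).2 ⟨hb.1, (mem_centralizer_iff.1 hb.2 d hdN).symm⟩
    have hdB : d ∈ centralizer (B : Set G) := mem_centralizer_iff.2 fun b hb => ((mB b).1 hb).2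
    have hdA₀ : d ∉ centralizer (A₀ : Set G) := by
      intro h
      have h3 := mem_centralizer_iff.1 h b₀ hb₀
      exact hb₀B ((mB b₀).2 ⟨hb₀, h3⟩)
    obtain ⟨hBx, hBidx⟩ := half hBA₀ hB2 hCB hA₀x (hNO B hBe (hBA₀.trans (hA₀A.trans hAO))) hdN hdB hdA₀
    have hiB : i ∈ centralizer (B : Set G) :=
      hLift B hBe (hBA₀.trans (hA₀A.trans hAO)) hBx i hi fun b hb => (mB' b (hBA₀ hb)).1 hb
    have hi'B : i' ∈ centralizer (B : Set G) := by
      refine mem_centralizer_iff.2 fun b hb => ?_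
      have h3 := mem_centralizer_iff.1 hiB b hb
      have h4 := cA b (hA₀A (hBA₀ hb)) a haA
      have h5 := cA b (hA₀A (hBA₀ hb)) a⁻¹ (inv_mem haA)
      calc b * i' = (b * a) * i * a⁻¹ := by rw [hi']; group
        _ = a * (b * i) * a⁻¹ := by rw [h4]; group
        _ = a * i * (b * a⁻¹) := by rw [h3]; group
        _ = i' * b := by rw [h5, hi']; group
    have hiA₀ : i ∉ centralizer (A₀ : Set G) := by
      intro h
      apply hb₀Z
      have h3 := mem_centralizer_iff.1 h b₀ hb₀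
      have h4 : i * b₀ * i⁻¹ * b₀⁻¹ = 1 := by rw [← h3]; group
      rw [h4]; exact one_mem _
    have hi'A₀ : i' ∉ centralizer (A₀ : Set G) := by
      intro h
      apply hiA₀
      refine mem_centralizer_iff.2 fun b hb => ?_
      have h3 := mem_centralizer_iff.1 h b hb
      have h4 := cA b (hA₀A hb) a haA
      have h5 := cA b (hA₀A hb) a⁻¹ (inv_mem haA)
      have e : i = a⁻¹ * i' * a := by rw [hi']; group
      calc b * i = (b * a⁻¹) * i' * a := by rw [e]; group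
        _ = a⁻¹ * (b * i') * a := by rw [h5]; group
        _ = a⁻¹ * i' * (b * a) := by rw [h3]; group
        _ = i * b := by rw [h4, e]; group
    have h3 : i * i' ∈ N ⊓ centralizer (A₀ : Set G) :=
      index_two_mul (inf_le_inf_left _ (centralizer_le hBA₀)) hBidx.le ⟨hi, hiB⟩ ⟨hi'N, hi'B⟩
        (fun h => hiA₀ h.2) (fun h => hi'A₀ h.2)
    exact hdA₀ h3.2

end

end Cfsg.Agent.Omega.OM.PG.Int
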