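import Cfsg.Agent.Omega.NO3L.LemPLoc
import Cfsg.Agent.Omega.NOThreeL.Pair
import Cfsg.Agent.Omega.NoFF.LinesPlug

/-!
# Partner points and lines (helper609, TEXT R2 #16177, TEXT R3 #16982)

Points are the conjugates of a subgroup `Z 0`, lines the conjugates of `U 0`; `(Z 0, U 0)` and `(Z 1, U 1)` are
exchanged by an element of `G`; the points of `U 0` are adjacent to the points of `U 1`.

* `Adj Z a u`: `(a, u)` is conjugate to `(Z 0, Z 1)`; `NN Z a = ⟨u : u ~ a⟩`, `HH a = N_G(a)`, `QQ a = O₂(N_G(a))`,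
  `FF Z a = C_{N_G(a)}(N_a)`; `LnIn Z U a l`: `l` is a line of `N_a`; `LnOn Z U a l`: `l` is a line on `a`;
* `PP Z U` : the axioms; `PP.f3` : `a ~ u`, `E ≤ Q_u`, `[E, N_a] = 1` give `E ≤ Q_a`;
* `PP.lemP` : LEMMA P; `PP.exists_crit` : a noncommuting pair `(N_a, N_b)` at least distance if
  `⟨N_G(Z 0), N_G(Z 1)⟩` is nonlocal.
-/

set_option autoImplicit false
set_option linter.unusedSectionVars false

namespace Cfsg.Agent.Omega.OM.PG

open Subgroup Cfsg Cfsg.Agent.ZN Cfsg.Agent.Omega.MinPar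
open Cfsg.Agent.Omega.NoFF.Basic (conj_conj mem_conj conj_le_iff conj_le_centralizer comm_symm comm_mono)
open Cfsg.Agent.Omega.NOThreeL.Pair (conj_eq_of_mem)
open Cfsg.Agent.MinSimple.VModule (le_normalizer_o2 le_o2 o2_le o2_isPGroup)
open scoped Pointwise

universe u

variable {G : Type u} [Group G]

/-- `a` is a point. -/
def IsPt (Z : Fin 2 → Subgroup G) (a : Subgroup G) : Prop := ∃ k : G, a = MulAut.conj k • Z 0

/-- `a ~ u` -/
def Adj (Z : Fin 2 → Subgroup G) (a u : Subgroup G) : Prop :=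
  ∃ k : G, a = MulAut.conj k • Z 0 ∧ u = MulAut.conj k • Z 1

/-- `l` is a line on the point `a`. -/
def LnOn (Z U : Fin 2 → Subgroup G) (a l : Subgroup G) : Prop :=
  ∃ k : G, a = MulAut.conj k • Z 0 ∧ l = MulAut.conj k • U 0

/-- `l` is a line of `N_a`. -/
def LnIn (Z U : Fin 2 → Subgroup G) (a l : Subgroup G) : Prop :=
  ∃ k : G, a = MulAut.conj k • Z 0 ∧ l = MulAut.conj k • U 1

/-- `N_a = ⟨u : u ~ a⟩` -/
def NN (Z : Fin 2 → Subgroup G) (a : Subgroup G) : Subgroup G := sSup {u | Adj Z a u}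

/-- `H_a = N_G(a)` -/
abbrev HH (a : Subgroup G) : Subgroup G := normalizer (a : Set G)

/-- `Q_a = O₂(N_G(a))` -/
abbrev QQ (a : Subgroup G) : Subgroup G := o2 (HH a)

/-- `F_a = C_{N_G(a)}(N_a)` -/
abbrev FF (Z : Fin 2 → Subgroup G) (a : Subgroup G) : Subgroup G := HH a ⊓ centralizer (NN Z a : Set G)

/-- `N_a` and `N_b` commute. -/
abbrev Com (Z : Fin 2 → Subgroup G) (a b : Subgroup G) : Prop := NN Z a ≤ centralizer (NN Z b : Set G)

section conj

variable {Z U : Fin 2 → Subgroup G} {a u l : Subgroup G}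

theorem Com.symm {a b : Subgroup G} (h : Com Z a b) : Com Z b a := comm_symm h

theorem IsPt.conj (h : IsPt Z a) (g : G) : IsPt Z (MulAut.conj g • a) := by
  obtain ⟨k, rfl⟩ := h
  exact ⟨g * k, conj_conj _ _ _⟩

theorem Adj.conj (h : Adj Z a u) (g : G) : Adj Z (MulAut.conj g • a) (MulAut.conj g • u) := by
  obtain ⟨k, rfl, rfl⟩ := h
  exact ⟨g * k, conj_conj _ _ _, conj_conj _ _ _⟩

theorem LnOn.conj (h : LnOn Z U a l) (g : G) : LnOn Z U (MulAut.conj g • a) (MulAut.conj g • l) := by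
  obtain ⟨k, rfl, rfl⟩ := h
  exact ⟨g * k, conj_conj _ _ _, conj_conj _ _ _⟩

theorem LnIn.conj (h : LnIn Z U a l) (g : G) : LnIn Z U (MulAut.conj g • a) (MulAut.conj g • l) := by
  obtain ⟨k, rfl, rfl⟩ := h
  exact ⟨g * k, conj_conj _ _ _, conj_conj _ _ _⟩

theorem conj_inv_conj (g : G) (a : Subgroup G) : MulAut.conj g • (MulAut.conj g⁻¹ • a) = a := by
  rw [conj_conj, mul_inv_cancel, map_one, one_smul]

theorem inv_conj_conj (g : G) (a : Subgroup G) : MulAut.conj g⁻¹ • (MulAut.conj g • a) = a := by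
  rw [conj_conj, inv_mul_cancel, map_one, one_smul]

theorem Adj.pt (h : Adj Z a u) : IsPt Z a := by
  obtain ⟨k, rfl, -⟩ := h
  exact ⟨k, rfl⟩

theorem Adj.le_NN (h : Adj Z a u) : u ≤ NN Z a := le_sSup h

theorem NN_conj (g : G) (a : Subgroup G) : NN Z (MulAut.conj g • a) = MulAut.conj g • NN Z a := by
  have key : ∀ (g : G) (a : Subgroup G), MulAut.conj g • NN Z a ≤ NN Z (MulAut.conj g • a) := by
    intro g a
    have h1 : NN Z a ≤ MulAut.conj g⁻¹ • NN Z (MulAut.conj g • a) := by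
      refine sSup_le fun u hu => ?_
      have h2 := (Adj.conj hu g).le_NN
      have h3 := conj_le_iff (g := g⁻¹) |>.2 h2
      rwa [inv_conj_conj] at h3
    have h3 := conj_le_iff (g := g) |>.2 h1
    rwa [conj_inv_conj] at h3
  refine le_antisymm ?_ (key g a)
  have h1 := key g⁻¹ (MulAut.conj g • a)
  rw [inv_conj_conj] at h1
  have h3 := conj_le_iff (g := g) |>.2 h1
  rwa [conj_inv_conj] at h3

theorem HH_conj (g : G) (a : Subgroup G) : HH (MulAut.conj g • a) = MulAut.conj g • HH a :=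
  Cfsg.Agent.MinSimple.CosetFam.normalizer_conj g a

theorem QQ_conj (g : G) (a : Subgroup G) : QQ (MulAut.conj g • a) = MulAut.conj g • QQ a := by
  change o2 (HH (MulAut.conj g • a)) = _
  rw [HH_conj, Cfsg.Agent.MinSimple.CosetFam.o2_conj]

end conj

/-! ### The axioms -/

/-- **Partner points and partner lines.** -/
structure PP (Z U : Fin 2 → Subgroup G) : Prop where
  swap : ∃ s : G, MulAut.conj s • Z 0 = Z 1 ∧ MulAut.conj s • Z 1 = Z 0 ∧
    MulAut.conj s • U 0 = U 1 ∧ MulAut.conj s • U 1 = U 0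
  ZU : Z 0 ≤ U 0
  sq : ∀ x ∈ Z 0, x ^ 2 = 1
  ne : Z 0 ≠ ⊥
  /-- a group normalising `Z 1`, `U 0`, `U 1` is transitive on the points of `U 0` -/
  tr : ∀ k : G, MulAut.conj k • Z 0 ≤ U 0 → ∃ l : G, MulAut.conj l • Z 0 = MulAut.conj k • Z 0 ∧
    MulAut.conj l • Z 1 = Z 1 ∧ MulAut.conj l • U 0 = U 0 ∧ MulAut.conj l • U 1 = U 1
  N_le_Q : NN Z (Z 0) ≤ QQ (Z 0)
  Q_le_cent : QQ (Z 0) ≤ centralizer (NN Z (Z 0) : Set G)
  UQ : ∀ x ∈ U 0, ∀ y ∈ QQ (Z 0), x * y * x⁻¹ * y⁻¹ ∈ Z 0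
  nonLoc : NonLoc (HH (Z 0)) (HH (Z 1))

/-- Paths of length `n`. -/
inductive Pth (Z : Fin 2 → Subgroup G) : ℕ → Subgroup G → Subgroup G → Prop
  | zero {a : Subgroup G} (h : IsPt Z a) : Pth Z 0 a a
  | succ {n : ℕ} {a b c : Subgroup G} (h : Pth Z n a b) (h' : Adj Z b c) : Pth Z (n + 1) a c

namespace PP

variable {Z U : Fin 2 → Subgroup G} (P : PP Z U)

include P

theorem adj_symm {a u : Subgroup G} (h : Adj Z a u) : Adj Z u a := by
  obtain ⟨k, rfl, rfl⟩ := h
  obtain ⟨s, h0, h1, -, -⟩ := P.swap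
  exact ⟨k * s, by rw [← conj_conj, h0], by rw [← conj_conj, h1]⟩

theorem adj_pt {a u : Subgroup G} (h : Adj Z a u) : IsPt Z u := (P.adj_symm h).pt

theorem NN_le_QQ {a : Subgroup G} (h : IsPt Z a) : NN Z a ≤ QQ a := by
  obtain ⟨k, rfl⟩ := h
  rw [NN_conj, QQ_conj]
  exact conj_le_iff.2 P.N_le_Q

theorem QQ_le_cent {a : Subgroup G} (h : IsPt Z a) : QQ a ≤ centralizer (NN Z a : Set G) := by
  obtain ⟨k, rfl⟩ := h
  rw [NN_conj, QQ_conj]
  exact conj_le_centralizer P.Q_le_cent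

theorem NN_comm {a : Subgroup G} (h : IsPt Z a) : Com Z a a := (P.NN_le_QQ h).trans (P.QQ_le_cent h)

/-- `a ~ u`: `Q_u` centralises `a`. -/
theorem QQ_le_cent_of_adj {a u : Subgroup G} (h : Adj Z a u) : QQ u ≤ centralizer (a : Set G) :=
  (P.QQ_le_cent (P.adj_pt h)).trans (centralizer_le (P.adj_symm h).le_NN)

omit P in
theorem cent_le_HH (a : Subgroup G) : centralizer (a : Set G) ≤ HH a := centralizer_le_normalizer _

theorem QQ_le_HH {a u : Subgroup G} (h : Adj Z a u) : QQ u ≤ HH a :=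
  (P.QQ_le_cent_of_adj h).trans (cent_le_HH a)

theorem FF_le_HH {a u : Subgroup G} (h : Adj Z a u) : FF Z a ≤ HH u :=
  inf_le_right.trans ((centralizer_le h.le_NN).trans (cent_le_HH u))

omit P in
theorem HH_le_NN (a : Subgroup G) : HH a ≤ normalizer (NN Z a : Set G) := by
  intro g hg
  have h0 : MulAut.conj g • a = a := conj_eq_of_mem hg
  refine ChoiceBase.mem_normalizer_iff_cj.2 ?_
  change MulAut.conj g • NN Z a = NN Z a
  rw [← NN_conj, h0]

omit P in
theorem HH_le_FF (a : Subgroup G) : HH a ≤ normalizer (FF Z a : Set G) :=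
  NO3L.LemP.le_normalizer_inf le_normalizer
    ((HH_le_NN a).trans (NO3L.LemP.normalizer_le_normalizer_cent (NN Z a)))

/-- **(f3)** -/
theorem f3 {a u E : Subgroup G} (h : Adj Z a u) (hE : E ≤ QQ u) (hc : E ≤ centralizer (NN Z a : Set G)) :
    E ≤ QQ a := by
  have h1 : E ≤ QQ u ⊓ FF Z a := le_inf hE (le_inf (hE.trans (P.QQ_le_HH h)) hc)
  have h2 : QQ u ⊓ FF Z a ≤ o2 (FF Z a) := by
    refine le_o2 inf_le_right ((o2_isPGroup _).to_le inf_le_left) ?_
    refine NO3L.LemP.le_normalizer_inf ?_ le_normalizer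
    exact (P.FF_le_HH h).trans (le_normalizer_o2 _)
  have h3 : o2 (FF Z a) ≤ QQ a := by
    refine le_o2 ((o2_le _).trans inf_le_left) (o2_isPGroup _) ?_
    exact (HH_le_FF a).trans (Cfsg.Agent.Omega.normalizer_le_normalizer_o2' _)
  exact h1.trans (h2.trans h3)

/-! ### Paths -/

omit P in
theorem pth_pt {n : ℕ} {a b : Subgroup G} (h : Pth Z n a b) : IsPt Z a := by
  induction h with
  | zero h => exact h
  | succ _ _ ih => exact ih

theorem pth_pt' {n : ℕ} {a b : Subgroup G} (h : Pth Z n a b) : IsPt Z b := by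
  cases h with
  | zero h => exact h
  | succ _ h' => exact P.adj_pt h'

omit P in
theorem pth_cons {n : ℕ} {a b c : Subgroup G} (h : Adj Z a b) (h' : Pth Z n b c) : Pth Z (n + 1) a c := by
  induction h' with
  | zero _ => exact Pth.succ (Pth.zero h.pt) h
  | succ _ h1 ih => exact Pth.succ (ih h) h1

theorem pth_symm {n : ℕ} {a b : Subgroup G} (h : Pth Z n a b) : Pth Z n b a := by
  induction h with
  | zero h => exact Pth.zero h
  | succ _ h1 ih => exact pth_cons (P.adj_symm h1) ih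

omit P in
theorem pth_trans {m n : ℕ} {a b c : Subgroup G} (h : Pth Z m a b) (h' : Pth Z n b c) : Pth Z (m + n) a c := by
  induction h' with
  | zero _ => exact h
  | succ _ h1 ih => exact Pth.succ (ih h) h1

omit P in
theorem pth_one {a b : Subgroup G} (h : Adj Z a b) : Pth Z 1 a b := Pth.succ (Pth.zero h.pt) h

omit P in
theorem pth_conj {n : ℕ} {a b : Subgroup G} (h : Pth Z n a b) (g : G) :
    Pth Z n (MulAut.conj g • a) (MulAut.conj g • b) := by
  induction h with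
  | zero h => exact Pth.zero (h.conj g)
  | succ _ h1 ih => exact Pth.succ ih (h1.conj g)

/-- **LEMMA P.** -/
theorem lemP {n : ℕ} (h : ∀ m ≤ n, ∀ a b, Pth Z m a b → Com Z a b) :
    ∀ m ≤ n, ∀ x c, Pth Z m x c → NN Z x ≤ QQ c := by
  intro m
  induction m with
  | zero =>
    intro _ x c hx
    cases hx with
    | zero h0 => exact P.NN_le_QQ h0
  | succ m ih =>
    intro hm x c hx
    have h1 := h _ hm x c hx
    cases hx with
    | succ h2 h3 => exact P.f3 (P.adj_symm h3) (ih (by omega) _ _ h2) h1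

theorem ZsqConj {a : Subgroup G} (h : IsPt Z a) : ∀ x ∈ a, x ^ 2 = 1 := by
  obtain ⟨k, rfl⟩ := h
  exact NoFF.Lines.Geo.conj_sq P.sq k

variable [Finite G]

/-- There is a noncommuting pair at least distance. -/
theorem exists_crit : ∃ d a b, Pth Z (d + 1) a b ∧ ¬ Com Z a b ∧ ∀ m ≤ d, ∀ a b, Pth Z m a b → Com Z a b := by
  classical
  have hex : ∃ n a b, Pth Z n a b ∧ ¬ Com Z a b := by
    by_contra hcon
    push Not at hcon
    -- the component of `Z 0`
    let X : Set (Subgroup G) := {a | ∃ n, Pth Z n (Z 0) a}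
    have h0 : IsPt Z (Z 0) := ⟨1, by rw [map_one, one_smul]⟩
    have h01 : Adj Z (Z 0) (Z 1) := ⟨1, by rw [map_one, one_smul], by rw [map_one, one_smul]⟩
    have hX0 : Z 0 ∈ X := ⟨0, Pth.zero h0⟩
    have hX1 : Z 1 ∈ X := ⟨1, pth_one h01⟩
    have hXc : ∀ a ∈ X, ∀ b ∈ X, Com Z a b := by
      rintro a ⟨m, hm⟩ b ⟨n, hn⟩
      exact hcon _ _ _ (pth_trans (P.pth_symm hm) hn)
    let A : Subgroup G := ⨆ a : X, NN Z (a : Subgroup G)
    have hAA : A ≤ centralizer (A : Set G) := by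
      refine iSup_le fun a => comm_symm (iSup_le fun b => ?_)
      exact hXc b b.2 a a.2
    have hNle : ∀ a ∈ X, NN Z a ≤ A := fun a ha => le_iSup (fun a : X => NN Z (a : Subgroup G)) ⟨a, ha⟩
    have hle : ∀ a ∈ X, a ≤ A := by
      rintro a ⟨n, hn⟩
      have ha : IsPt Z a := P.pth_pt' hn
      obtain ⟨k, rfl⟩ := ha
      have h1 : Adj Z (MulAut.conj k • Z 0) (MulAut.conj k • Z 1) := h01.conj k
      exact (P.adj_symm h1).le_NN.trans (hNle _ ⟨n + 1, Pth.succ hn h1⟩)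
    have hsq : ∀ x ∈ A, x ^ 2 = 1 := by
      refine NoFF.Lines.Geo.sq_of_comm hAA (ι := X) (B := fun a => (a : Subgroup G)) (fun a => hle _ a.2) ?_
        fun a => P.ZsqConj (by obtain ⟨n, hn⟩ := a.2; exact P.pth_pt' hn)
      refine iSup_le fun a => sSup_le fun u hu => ?_
      obtain ⟨n, hn⟩ := a.2
      exact le_iSup (fun a : X => (a : Subgroup G)) ⟨u, ⟨n + 1, Pth.succ hn hu⟩⟩
    have hp : IsPGroup 2 A := fun x => ⟨1, Subtype.ext (hsq x x.2)⟩
    have hnorm : ∀ c ∈ X, HH c ≤ normalizer (A : Set G) := by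
      intro c hc
      have key : ∀ g ∈ HH c, MulAut.conj g • A ≤ A := by
        intro g hg
        have h0 : MulAut.conj g • c = c := conj_eq_of_mem hg
        have hXg : ∀ a ∈ X, MulAut.conj g • a ∈ X := by
          rintro a ⟨m, hm⟩
          obtain ⟨n, hn⟩ := hc
          have h1 := pth_conj (pth_trans (P.pth_symm hn) hm) g
          rw [h0] at h1
          exact ⟨_, pth_trans hn h1⟩
        have h1 : A ≤ MulAut.conj g⁻¹ • A := by
          refine iSup_le fun a => ?_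
          have h2 := conj_le_iff (g := g⁻¹) |>.2 (hNle _ (hXg _ a.2))
          rwa [NN_conj, inv_conj_conj] at h2
        have h2 := conj_le_iff (g := g) |>.2 h1
        rwa [conj_inv_conj] at h2
      intro g hg
      refine ChoiceBase.mem_normalizer_iff_cj.2 (le_antisymm (key g hg) ?_)
      change A ≤ MulAut.conj g • A
      have h2 := conj_le_iff (g := g) |>.2 (key g⁻¹ (inv_mem hg))
      rwa [conj_inv_conj] at h2
    have hbot := P.nonLoc A hp (hnorm _ hX0) (hnorm _ hX1)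
    apply P.ne
    rw [eq_bot_iff, ← hbot]
    exact hle _ hX0
  obtain ⟨n, ⟨a, b, hab, hne⟩, hmin⟩ : ∃ n, (∃ a b, Pth Z n a b ∧ ¬ Com Z a b) ∧
      ∀ m < n, ¬ ∃ a b, Pth Z m a b ∧ ¬ Com Z a b :=
    ⟨Nat.find hex, Nat.find_spec hex, fun m hm => Nat.find_min hex hm⟩
  have hn : n ≠ 0 := by
    rintro rfl
    cases hab with
    | zero h => exact hne (P.NN_comm h)
  obtain ⟨d, rfl⟩ := Nat.exists_eq_succ_of_ne_zero hn
  refine ⟨d, a, b, hab, hne, fun m hm a b h => ?_⟩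
  by_contra h1
  exact hmin m (by omega) ⟨a, b, h, h1⟩

end PP

end Cfsg.Agent.Omega.OM.PG
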