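import Cfsg.Agent.Omega.OM.PG.Ten

/-!
# THEOREM G (TEXT R5 #19750 (2))

`T ≤ D ≤ H = ⟨D, L₂⟩`, `T` a 2-group of odd index in `H`, `v₁` central in `H`, `v₂` central in `D`,
`N = ⟨v₂^H⟩ ≤ T`, `V₁N` elementary abelian, `V₁ = ⟨v₁^{L₁}⟩` a four-group, `V₂ = ⟨v₂^{L₂}⟩` a four-group,
`C_G(V₁) ≤ H`, `L₁` centralises `v₂`, normalises `V₁` and does not normalise `N`; `V₁ ≰ N`; LEMMA FIX on `N`;
`A ≤ T` elementary abelian of maximal order moves `V₂`.

* `avg` : averaging modulo a subgroup;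
* `Dat.noCompl` : `v₁` has no complement containing `v₂` in `N`;
* `Dat.normV1` : a subgroup `R ≥ T, L₂` of `H` normalising `V₁N` normalises `V₁`;
* `Dat.K_le` : the subgroup generated by the odd order elements of `KK` centralises `N`;
* `thmG` : **THEOREM G**.
-/

set_option autoImplicit false
set_option linter.unusedSectionVars false

namespace Cfsg.Agent.Omega.OM.PG.ThmG

open Subgroup
open Cfsg.Agent.Omega.OM.PG.Ten (le_norm cj cj' exists_fix mem_sup_comm ten off_of_max eq_of_card_two)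

universe u

variable {G : Type u} [Group G]

/-! ### Tools -/

theorem mem_zp {v x : G} (h : v ^ 2 = 1) : x ∈ zpowers v ↔ x = 1 ∨ x = v := by
  constructor
  · rintro ⟨n, rfl⟩
    change v ^ n = 1 ∨ v ^ n = v
    have h2 : v ^ (2 : ℤ) = 1 := by exact_mod_cast h
    rcases Int.even_or_odd' n with ⟨k, rfl | rfl⟩
    · left
      rw [zpow_mul, h2, one_zpow]
    · right
      rw [zpow_add, zpow_mul, h2, one_zpow, one_mul, zpow_one]
  · rintro (rfl | rfl)
    · exact one_mem _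
    · exact mem_zpowers _

/-- `U` as a commutative group -/
abbrev cg (U : Subgroup G) (hc : ∀ u ∈ U, ∀ w ∈ U, u * w = w * u) : CommGroup U :=
  { (inferInstance : Group U) with mul_comm := fun a b => Subtype.ext (hc a a.2 b b.2) }

/-- conjugation -/
def cU {U : Subgroup G} {x : G} (hx : x ∈ normalizer (U : Set G)) : U →* U where
  toFun u := ⟨x * u * x⁻¹, (mem_normalizer_iff.1 hx u).1 u.2⟩
  map_one' := Subtype.ext (by simp)
  map_mul' a b := Subtype.ext (by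
    change x * ((a : G) * b) * x⁻¹ = x * a * x⁻¹ * (x * b * x⁻¹)
    group)

theorem out_mul (R T : Subgroup G) (r : R) (q : R ⧸ T.subgroupOf R) :
    ∃ t ∈ T, (r : G) * (q.out : R) = ((r • q).out : R) * t := by
  refine ⟨((r • q).out : R)⁻¹ * (r * (q.out : R)), ?_, (mul_inv_cancel_left _ _).symm⟩
  have h1 : (r • q).out⁻¹ * (r * q.out) ∈ T.subgroupOf R := by
    rw [← QuotientGroup.eq, QuotientGroup.out_eq']
    conv_lhs => rw [← QuotientGroup.out_eq' q]
    rfl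
  exact mem_subgroupOf.1 h1

theorem odd_card {R T : Subgroup G} [Fintype (R ⧸ T.subgroupOf R)] (h : ¬ 2 ∣ T.relIndex R) :
    ∃ m, Fintype.card (R ⧸ T.subgroupOf R) = 2 * m + 1 := by
  have h2 : Fintype.card (R ⧸ T.subgroupOf R) = T.relIndex R := by
    rw [← Nat.card_eq_fintype_card]
    rfl
  rw [h2]
  rcases Nat.even_or_odd' (T.relIndex R) with ⟨m, h' | h'⟩
  · exact absurd ⟨m, h'⟩ h
  · exact ⟨m, h'⟩

/-- **Averaging modulo `Z`.** -/
theorem avg [Finite G] {U T R Z M : Subgroup G} {v : G}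
    (hc : ∀ u ∈ U, ∀ w ∈ U, u * w = w * u) (hRU : R ≤ normalizer (U : Set G))
    (hRZ : R ≤ normalizer (Z : Set G)) (hodd : ¬ 2 ∣ T.relIndex R)
    (hv : v ∈ U) (hv2 : v * v = 1)
    (hT : ∀ t ∈ T, t * v * t⁻¹ * v⁻¹ ∈ Z) (hM : ∀ r ∈ R, r * v * r⁻¹ * v⁻¹ ∈ M) :
    ∃ c ∈ U, c * v⁻¹ ∈ M ∧ ∀ r ∈ R, r * c * r⁻¹ * c⁻¹ ∈ Z := by
  classical
  let _ : CommGroup U := cg U hc
  let _ : Fintype (R ⧸ T.subgroupOf R) := Fintype.ofFinite _
  let f : R ⧸ T.subgroupOf R → U := fun q => ⟨(q.out : R) * v * ((q.out : R) : G)⁻¹, cj hRU q.out.2 hv⟩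
  let v' : U := ⟨v, hv⟩
  have hvv : v' * v' = 1 := Subtype.ext hv2
  obtain ⟨m, hm⟩ := odd_card (R := R) (T := T) hodd
  refine ⟨((∏ q, f q : U) : G), (∏ q, f q : U).2, ?_, ?_⟩
  · have h1 : (∏ q, f q) * v'⁻¹ = ∏ q, (f q * v'⁻¹) := by
      rw [Finset.prod_mul_distrib, Finset.prod_const, Finset.card_univ, hm, pow_add, pow_mul, pow_one, pow_two]
      have h2 : v'⁻¹ * v'⁻¹ = 1 := by rw [← mul_inv, hvv, inv_one]
      rw [h2, one_pow, one_mul]
    have h2 : (∏ q, (f q * v'⁻¹)) ∈ M.subgroupOf U := by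
      refine Subgroup.prod_mem _ fun q _ => ?_
      rw [mem_subgroupOf]
      exact hM _ q.out.2
    rw [← h1] at h2
    exact mem_subgroupOf.1 h2
  · intro r hr
    have h1 : cU (hRU hr) (∏ q, f q) * (∏ q, f q)⁻¹ =
        ∏ q, (cU (hRU hr) (f q) * (f ((⟨r, hr⟩ : R) • q))⁻¹) := by
      rw [Finset.prod_mul_distrib, map_prod, Finset.prod_inv_distrib]
      congr 2
      exact (Equiv.prod_comp (MulAction.toPerm (⟨r, hr⟩ : R)) f).symm
    have h2 : (∏ q, (cU (hRU hr) (f q) * (f ((⟨r, hr⟩ : R) • q))⁻¹)) ∈ Z.subgroupOf U := by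
      refine Subgroup.prod_mem _ fun q _ => ?_
      rw [mem_subgroupOf]
      obtain ⟨t, ht, e⟩ := out_mul R T ⟨r, hr⟩ q
      set s : R := ((⟨r, hr⟩ : R) • q).out with hs
      change (r * ((q.out : R) * v * ((q.out : R) : G)⁻¹) * r⁻¹) * (s * v * (s : G)⁻¹)⁻¹ ∈ Z
      have e1 : (r * ((q.out : R) * v * ((q.out : R) : G)⁻¹) * r⁻¹) * (s * v * (s : G)⁻¹)⁻¹ =
          s * (t * v * t⁻¹ * v⁻¹) * (s : G)⁻¹ := by
        calc (r * ((q.out : R) * v * ((q.out : R) : G)⁻¹) * r⁻¹) * (s * v * (s : G)⁻¹)⁻¹ =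
            (r * (q.out : R)) * v * (r * (q.out : R))⁻¹ * (s * v * (s : G)⁻¹)⁻¹ := by group
          _ = (s * t) * v * (s * t)⁻¹ * (s * v * (s : G)⁻¹)⁻¹ := by rw [e]
          _ = s * (t * v * t⁻¹ * v⁻¹) * (s : G)⁻¹ := by group
      rw [e1]
      exact cj hRZ s.2 (hT t ht)
    rw [← h1] at h2
    exact mem_subgroupOf.1 h2

/-- `T ∩ N` is a Sylow 2-subgroup of the normal subgroup `N`. -/
theorem not_dvd_inf [Finite G] {H T N : Subgroup G} (hTH : T ≤ H) (hTS : ¬ 2 ∣ T.relIndex H)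
    (hNH : N ≤ H) (hN : H ≤ normalizer (N : Set G)) : ¬ 2 ∣ (N ⊓ T).relIndex N := by
  have hn : (N.subgroupOf H).Normal := normal_subgroupOf_of_le_normalizer hN
  have h1 : N.relIndex (N ⊔ T) = N.relIndex T := by
    have h := Subgroup.relIndex_sup_left (K := N.subgroupOf H) (H := T.subgroupOf H)
    rw [← Subgroup.subgroupOf_sup hNH hTH, Subgroup.relIndex_subgroupOf (sup_le hNH hTH),
      Subgroup.relIndex_subgroupOf hTH] at h
    exact h
  have h2 := Subgroup.relIndex_mul_relIndex (N ⊓ T) N (N ⊔ T) inf_le_left le_sup_left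
  have h3 := Subgroup.relIndex_mul_relIndex (N ⊓ T) T (N ⊔ T) inf_le_right le_sup_right
  have h4 : (N ⊓ T).relIndex T = N.relIndex T := Subgroup.inf_relIndex_right N T
  rw [h1] at h2
  rw [h4, ← h2, mul_comm] at h3
  have h5 : T.relIndex (N ⊔ T) = (N ⊓ T).relIndex N :=
    Nat.eq_of_mul_eq_mul_right (Nat.pos_of_ne_zero (Subgroup.index_ne_zero_of_finite
      (H := N.subgroupOf T))) h3
  intro h
  have h6 := Subgroup.relIndex_mul_relIndex T (N ⊔ T) H le_sup_right (sup_le hNH hTH)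
  exact hTS (h6 ▸ (h5 ▸ h : 2 ∣ T.relIndex (N ⊔ T)).mul_right _)

theorem norm_cent {K N : Subgroup G} (h : K ≤ normalizer (N : Set G)) :
    K ≤ normalizer ((centralizer (N : Set G) : Subgroup G) : Set G) := by
  refine le_norm fun k hk x hx => mem_centralizer_iff.2 fun n hn => ?_
  have h2 := mem_centralizer_iff.1 hx _ (cj' h hk hn)
  calc n * (k * x * k⁻¹) = k * ((k⁻¹ * n * k) * x) * k⁻¹ := by group
    _ = k * (x * (k⁻¹ * n * k)) * k⁻¹ := by rw [h2]
    _ = k * x * k⁻¹ * n := by group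

/-- A normal subgroup `N` of `H` which induces a 2-group on `U = ⟨v^H⟩` centralises `U`, if `v` is
centralised by a Sylow 2-subgroup `T` of `H`. -/
theorem le_centralizer_of_ext [Finite G] {H T U N : Subgroup G} {v : G} (hTH : T ≤ H)
    (hTS : ¬ 2 ∣ T.relIndex H) (hTv : ∀ t ∈ T, t * v = v * t) (hNH : N ≤ H)
    (hN : H ≤ normalizer (N : Set G)) (hvU : v ∈ U) (hUn : H ≤ normalizer (U : Set G))
    (hU : ∀ Y : Subgroup G, v ∈ Y → H ≤ normalizer (Y : Set G) → U ≤ Y)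
    (h2 : ∀ n ∈ N, ∃ k : ℕ, n ^ 2 ^ k ∈ centralizer (U : Set G)) : N ≤ centralizer (U : Set G) := by
  -- the subgroup `M = (N ∩ C(U)) (N ∩ T)` of `N`
  set D := N ⊓ centralizer (U : Set G) with hD
  have hDn : N ≤ normalizer (D : Set G) := by
    refine le_norm fun n hn x hx => mem_inf.2 ⟨mul_mem (mul_mem hn hx.1) (inv_mem hn), ?_⟩
    exact cj (norm_cent (hNH.trans hUn)) hn hx.2
  have hM : N ≤ D ⊔ (N ⊓ T) := by
    -- the index of `D ⊔ (N ⊓ T)` in `N` is odd and a power of 2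
    have hdvd1 : (D ⊔ (N ⊓ T)).relIndex N ∣ D.relIndex N :=
      Subgroup.relIndex_dvd_of_le_left N le_sup_left
    have hpow : ∃ k, D.relIndex N = 2 ^ k := by
      have hp : Fact (Nat.Prime 2) := ⟨Nat.prime_two⟩
      have hDn' : (D.subgroupOf N).Normal := normal_subgroupOf_of_le_normalizer hDn
      have hq : IsPGroup 2 (N ⧸ D.subgroupOf N) := by
        intro x
        obtain ⟨n, rfl⟩ := QuotientGroup.mk_surjective x
        obtain ⟨k, hk⟩ := h2 n n.2
        refine ⟨k, ?_⟩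
        rw [← QuotientGroup.mk_pow, QuotientGroup.eq_one_iff]
        rw [mem_subgroupOf]
        exact ⟨by simpa using N.pow_mem n.2 (2 ^ k), by simpa using hk⟩
      obtain ⟨k, hk⟩ := IsPGroup.iff_card.1 hq
      exact ⟨k, by rw [← hk]; rfl⟩
    have hodd : ¬ 2 ∣ (D ⊔ (N ⊓ T)).relIndex N := by
      intro h
      have h3 : (D ⊔ (N ⊓ T)).relIndex N ∣ (N ⊓ T).relIndex N :=
        Subgroup.relIndex_dvd_of_le_left N le_sup_right
      exact not_dvd_inf hTH hTS hNH hN (h.trans h3)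
    rw [← Subgroup.relIndex_eq_one]
    obtain ⟨k, hk⟩ := hpow
    rw [hk] at hdvd1
    obtain ⟨j, -, hj⟩ := (Nat.dvd_prime_pow Nat.prime_two).1 hdvd1
    rcases Nat.eq_zero_or_pos j with h0 | h0
    · rw [hj, h0, pow_zero]
    · exact absurd (hj ▸ dvd_pow_self 2 h0.ne') hodd
  have hNv : v ∈ centralizer (N : Set G) := by
    have h7 : N ≤ centralizer {v} := by
      refine hM.trans (sup_le (inf_le_right.trans (centralizer_le (Set.singleton_subset_iff.2 hvU))) ?_)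
      intro t ht
      refine mem_centralizer_iff.2 fun x hx => ?_
      rw [Set.mem_singleton_iff.1 hx]
      exact (hTv t ht.2).symm
    exact mem_centralizer_iff.2 fun n hn => (mem_centralizer_iff.1 (h7 hn) v rfl).symm
  exact Subgroup.le_centralizer_iff.1 (hU _ hNv (norm_cent hN))

theorem norm_sup {K P Q : Subgroup G} (hP : K ≤ normalizer (P : Set G)) (hQ : K ≤ normalizer (Q : Set G)) :
    K ≤ normalizer ((P ⊔ Q : Subgroup G) : Set G) := by
  refine le_norm fun k hk x hx => ?_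
  have h1 : P ⊔ Q ≤ (P ⊔ Q).comap (MulAut.conj k).toMonoidHom := by
    refine sup_le (fun y hy => ?_) (fun y hy => ?_)
    · exact mem_sup_left (cj hP hk hy)
    · exact mem_sup_right (cj hQ hk hy)
  exact h1 hx

theorem br_mul {U : Subgroup G} {r a b : G} (hc : ∀ u ∈ U, ∀ w ∈ U, u * w = w * u)
    (hr : r ∈ normalizer (U : Set G)) (ha : a ∈ U) (hb : b ∈ U) :
    r * (a * b) * r⁻¹ * (a * b)⁻¹ = (r * a * r⁻¹ * a⁻¹) * (r * b * r⁻¹ * b⁻¹) := by
  have h1 : r * b * r⁻¹ * b⁻¹ ∈ U := mul_mem ((mem_normalizer_iff.1 hr b).1 hb) (inv_mem hb)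
  calc r * (a * b) * r⁻¹ * (a * b)⁻¹ = (r * a * r⁻¹) * ((r * b * r⁻¹ * b⁻¹) * a⁻¹) := by group
    _ = (r * a * r⁻¹) * (a⁻¹ * (r * b * r⁻¹ * b⁻¹)) := by rw [hc _ h1 _ (inv_mem ha)]
    _ = _ := by group

/-- the four elements of a four-group -/
theorem four [Finite G] {V : Subgroup G} {v w : G} (hV : Nat.card V = 4) (hv : v ∈ V) (hw : w ∈ V)
    (hv1 : v ≠ 1) (hw1 : w ≠ 1) (hvw : v ≠ w) (hv2 : v * v = 1) :
    ∀ x ∈ V, x = 1 ∨ x = v ∨ x = w ∨ x = v * w := by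
  intro x hx
  by_contra hcon
  push Not at hcon
  obtain ⟨h1, h2, h3, h4⟩ := hcon
  have hvw1 : v * w ≠ 1 := by
    intro h
    apply hvw
    exact (mul_left_cancel (h.trans hv2.symm)).symm
  have hs : ({x, 1, v, w, v * w} : Set G) ⊆ V := by
    intro y hy
    rcases hy with rfl | rfl | rfl | rfl | rfl
    · exact hx
    · exact one_mem _
    · exact hv
    · exact hw
    · exact mul_mem hv hw
  have hcard := Set.ncard_le_ncard hs (Set.toFinite _)
  have hV' : (V : Set G).ncard = 4 := hV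
  have h5 : ({x, 1, v, w, v * w} : Set G).ncard = 5 := by
    have n1 : w ≠ v * w := fun h => hv1 (mul_right_cancel ((one_mul w).trans h)).symm
    have n2 : v ∉ ({w, v * w} : Set G) := by
      rintro (h | h)
      · exact hvw h
      · exact hw1 (mul_left_cancel ((mul_one v).trans h)).symm
    have n3 : (1 : G) ∉ ({v, w, v * w} : Set G) := by
      rintro (h | h | h)
      · exact hv1 h.symm
      · exact hw1 h.symm
      · exact hvw1 h.symm
    have n4 : x ∉ ({1, v, w, v * w} : Set G) := by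
      rintro (h | h | h | h)
      · exact h1 h
      · exact h2 h
      · exact h3 h
      · exact h4 h
    rw [Set.ncard_insert_of_notMem n4 (Set.toFinite _), Set.ncard_insert_of_notMem n3 (Set.toFinite _),
      Set.ncard_insert_of_notMem n2 (Set.toFinite _), Set.ncard_pair n1]
  omega

/-! ### The closure of `u` under `K` -/

/-- the closure of `u` under `K` -/
def Pc (K : Subgroup G) (u : G) : Subgroup G := Subgroup.closure {x | ∃ k ∈ K, x = k * u * k⁻¹}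

theorem Pc_self {K : Subgroup G} {u : G} : u ∈ Pc K u :=
  subset_closure ⟨1, one_mem _, by group⟩

theorem Pc_le {K M : Subgroup G} {u : G} (hu : u ∈ M) (hK : K ≤ normalizer (M : Set G)) : Pc K u ≤ M := by
  refine (closure_le _).2 ?_
  rintro _ ⟨k, hk, rfl⟩
  exact cj hK hk hu

theorem Pc_conj {K : Subgroup G} {u x h : G} (hh : h ∈ normalizer (K : Set G)) (hx : x ∈ Pc K u) :
    h * x * h⁻¹ ∈ Pc K (h * u * h⁻¹) := by
  have h1 : Pc K u ≤ (Pc K (h * u * h⁻¹)).comap (MulAut.conj h).toMonoidHom := by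
    refine (closure_le _).2 ?_
    rintro _ ⟨k, hk, rfl⟩
    refine subset_closure ⟨h * k * h⁻¹, (mem_normalizer_iff.1 hh k).1 hk, ?_⟩
    change h * (k * u * k⁻¹) * h⁻¹ = _
    group
  exact h1 hx

theorem Pc_norm {K : Subgroup G} {u : G} : K ≤ normalizer (Pc K u : Set G) := by
  refine le_norm fun k hk x hx => ?_
  have h1 : Pc K (k * u * k⁻¹) ≤ Pc K u := by
    refine (closure_le _).2 ?_
    rintro _ ⟨k', hk', rfl⟩
    exact subset_closure ⟨k' * k, mul_mem hk' hk, by group⟩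
  exact h1 (Pc_conj (le_normalizer hk) hx)

/-! ### The situation -/

/-- The situation of THEOREM G: `T ≤ D ≤ H`, `H = ⟨D, L₂⟩`, `N = ⟨v₂^H⟩`. -/
structure Dat (T D H L1 L2 V1 V2 N A : Subgroup G) (v1 v2 : G) : Prop where
  pT : IsPGroup 2 T
  TD : T ≤ D
  DH : D ≤ H
  odd : ¬ 2 ∣ T.relIndex H
  L2H : L2 ≤ H
  HDL : H ≤ D ⊔ L2
  Hv1 : ∀ h ∈ H, h * v1 = v1 * h
  Dv2 : ∀ d ∈ D, d * v2 = v2 * d
  /-- `V₁N` is elementary abelian -/
  comm : ∀ x ∈ V1 ⊔ N, ∀ y ∈ V1 ⊔ N, x * y = y * x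
  sq : ∀ x ∈ V1 ⊔ N, x ^ 2 = 1
  v1V : v1 ∈ V1
  v1ne : v1 ≠ 1
  cV1 : Nat.card V1 = 4
  v2V : v2 ∈ V2
  v2ne : v2 ≠ 1
  cV2 : Nat.card V2 = 4
  v12 : v1 ∉ V2
  TV1 : T ≤ normalizer (V1 : Set G)
  TV2 : T ≤ normalizer (V2 : Set G)
  L2V1 : L2 ≤ normalizer (V1 : Set G)
  L2V2 : L2 ≤ normalizer (V2 : Set G)
  /-- `L₂` is transitive on `V₂#` -/
  tr2 : ∀ u ∈ V2, u ≠ 1 → ∃ l ∈ L2, l * v2 * l⁻¹ = u
  L1V1 : L1 ≤ normalizer (V1 : Set G)
  L1v2 : ∀ l ∈ L1, l * v2 = v2 * l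
  /-- `L₁` is transitive on `V₁#` -/
  tr1 : ∀ u ∈ V1, u ≠ 1 → ∃ l ∈ L1, l * v1 * l⁻¹ = u
  CV1 : centralizer (V1 : Set G) ≤ H
  /-- `N` is the closure of the `H`-conjugates of `v₂` -/
  v2N : v2 ∈ N
  HN : H ≤ normalizer (N : Set G)
  minN : ∀ M : Subgroup G, v2 ∈ M → H ≤ normalizer (M : Set G) → N ≤ M
  NT : N ≤ T
  /-- LEMMA FIX on `N` -/
  fix : ∀ n ∈ N, (∀ t ∈ T, t * n * t⁻¹ * n⁻¹ ∈ zpowers v1) → n ∈ zpowers v1 ⊔ zpowers v2
  V1N : ¬ V1 ≤ N
  /-- nonlocal -/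
  L1N : ¬ L1 ≤ normalizer (N : Set G)
  /-- `A ∈ 𝒜(T)` moves `V₂` -/
  AT : A ≤ T
  Ac : ∀ x ∈ A, ∀ y ∈ A, x * y = y * x
  As : ∀ x ∈ A, x ^ 2 = 1
  Amax : ∀ B : Subgroup G, B ≤ T → (∀ x ∈ B, ∀ y ∈ B, x * y = y * x) → (∀ x ∈ B, x ^ 2 = 1) →
    Nat.card B ≤ Nat.card A
  AV2 : ∃ a ∈ A, ∃ x ∈ V2, a * x ≠ x * a

namespace Dat

variable {T D H L1 L2 V1 V2 N A : Subgroup G} {v1 v2 : G} (d : Dat T D H L1 L2 V1 V2 N A v1 v2)

include d

theorem TH : T ≤ H := d.TD.trans d.DH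

theorem v1sq : v1 ^ 2 = 1 := d.sq v1 (mem_sup_left d.v1V)

theorem v2sq : v2 ^ 2 = 1 := d.sq v2 (mem_sup_right d.v2N)

theorem memZ {x : G} : x ∈ zpowers v1 ↔ x = 1 ∨ x = v1 := mem_zp d.v1sq

theorem HZ : H ≤ normalizer (zpowers v1 : Set G) := by
  refine le_norm fun h hh x hx => ?_
  have h1 : h * x * h⁻¹ = x := by
    rcases d.memZ.1 hx with rfl | rfl
    · group
    · rw [d.Hv1 h hh]; group
  rwa [h1]

theorem V2N : V2 ≤ N := by
  intro u hu
  by_cases h : u = 1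
  · rw [h]; exact one_mem _
  · obtain ⟨l, hl, rfl⟩ := d.tr2 u hu h
    exact cj d.HN (d.L2H hl) d.v2N

theorem Nc : ∀ x ∈ N, ∀ y ∈ N, x * y = y * x := fun x hx y hy =>
  d.comm x (mem_sup_right hx) y (mem_sup_right hy)

theorem Ns : ∀ x ∈ N, x * x = 1 := fun x hx => by rw [← pow_two]; exact d.sq x (mem_sup_right hx)

/-- a third element -/
theorem exists_w [Finite G] : ∃ w ∈ V2, w ≠ 1 ∧ w ≠ v2 ∧ (∀ x ∈ V2, x = 1 ∨ x = v2 ∨ x = w ∨ x = v2 * w) ∧
    ∃ a ∈ A, a * w * a⁻¹ = v2 * w := by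
  obtain ⟨a, ha, w, hw, hne⟩ := d.AV2
  have haT : a ∈ T := d.AT ha
  have hw1 : w ≠ 1 := by
    rintro rfl
    exact hne (by group)
  have hav : a * v2 = v2 * a := d.Dv2 a (d.TD haT)
  have hwv : w ≠ v2 := by
    rintro rfl
    exact hne hav
  have hall := four d.cV2 d.v2V hw d.v2ne hw1 hwv.symm (d.Ns v2 d.v2N)
  refine ⟨w, hw, hw1, hwv, hall, a, ha, ?_⟩
  rcases hall _ (cj d.TV2 haT hw) with h | h | h | h
  · exfalso
    apply hw1
    have h1 := congrArg (fun g => a⁻¹ * g * a) h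
    simpa [mul_assoc] using h1
  · exfalso
    apply hwv
    have h1 : a * w * a⁻¹ = a * v2 * a⁻¹ := by rw [h, hav]; group
    exact mul_left_cancel (mul_right_cancel h1)
  · exfalso
    exact hne (mul_inv_eq_iff_eq_mul.1 h)
  · exact h

/-- `v₁` has no complement containing `v₂`. -/
theorem noCompl [Finite G] {W : Subgroup G} (hWN : W ≤ N) (hDW : D ≤ normalizer (W : Set G)) (hv : v2 ∈ W)
    (hL : L2 ≤ normalizer ((W ⊔ zpowers v1 : Subgroup G) : Set G)) : N ≤ W := by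
  classical
  have hH : H ≤ normalizer ((W ⊔ zpowers v1 : Subgroup G) : Set G) :=
    d.HDL.trans (sup_le (norm_sup hDW (d.DH.trans d.HZ)) hL)
  have hN1 : N ≤ W ⊔ zpowers v1 := d.minN _ (mem_sup_left hv) hH
  by_cases h1 : v1 ∈ W
  · exact hN1.trans (sup_le le_rfl (zpowers_le.2 h1))
  have hv11 : v1 * v1 = 1 := by rw [← pow_two]; exact d.v1sq
  have hdec : ∀ n ∈ N, n ∈ W ∨ n * v1 ∈ W := by
    intro n hn
    obtain ⟨w, hw, z, hz, rfl⟩ := mem_sup_comm (P := W) (Q := zpowers v1) (fun x hx y hy => by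
      refine d.comm x (mem_sup_right (hWN hx)) y (mem_sup_left ?_)
      exact zpowers_le.2 d.v1V hy) (hN1 hn)
    rcases d.memZ.1 hz with rfl | rfl
    · left
      rwa [mul_one]
    · right
      rw [mul_assoc, hv11, mul_one]
      exact hw
  by_cases h2 : v1 ∈ N
  · exfalso
    let χ : G → ZMod 2 := fun x => if x ∈ W then 0 else 1
    have χ0 : ∀ x ∈ W, χ x = 0 := fun x hx => if_pos hx
    have χ1 : ∀ x, x ∉ W → χ x = 1 := fun x hx => if_neg hx
    have χm : ∀ x ∈ N, ∀ y ∈ N, χ (x * y) = χ x + χ y := by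
      intro x hx y hy
      by_cases hxW : x ∈ W
      · by_cases hyW : y ∈ W
        · rw [χ0 x hxW, χ0 y hyW, χ0 _ (mul_mem hxW hyW), add_zero]
        · have h3 : x * y ∉ W := fun h => hyW ((mul_mem_cancel_left hxW).1 h)
          rw [χ0 x hxW, χ1 y hyW, χ1 _ h3, zero_add]
      · by_cases hyW : y ∈ W
        · have h3 : x * y ∉ W := fun h => hxW ((mul_mem_cancel_right hyW).1 h)
          rw [χ1 x hxW, χ0 y hyW, χ1 _ h3, add_zero]
        · have h3 := (hdec x hx).resolve_left hxW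
          have h4 := (hdec y hy).resolve_left hyW
          have h5 : x * y ∈ W := by
            have h6 := mul_mem h3 h4
            have e : x * v1 * (y * v1) = x * y := by
              calc x * v1 * (y * v1) = x * (v1 * y) * v1 := by group
                _ = x * (y * v1) * v1 := by rw [d.Nc v1 h2 y hy]
                _ = x * y * (v1 * v1) := by group
                _ = x * y := by rw [hv11, mul_one]
            rwa [e] at h6
          rw [χ1 x hxW, χ1 y hyW, χ0 _ h5]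
          decide
    have χt : ∀ t ∈ T, ∀ x, χ (t * x * t⁻¹) = χ x := by
      intro t ht x
      have h3 : t * x * t⁻¹ ∈ W ↔ x ∈ W := (mem_normalizer_iff.1 (hDW (d.TD ht)) x).symm
      by_cases hx : x ∈ W
      · rw [χ0 x hx, χ0 _ (h3.2 hx)]
      · rw [χ1 x hx, χ1 _ fun h => hx (h3.1 h)]
    let _ : Fintype (H ⧸ T.subgroupOf H) := Fintype.ofFinite _
    let F : G → ZMod 2 := fun n => ∑ q : H ⧸ T.subgroupOf H, χ (((q.out : H) : G)⁻¹ * n * (q.out : H))
    have Fm : ∀ x ∈ N, ∀ y ∈ N, F (x * y) = F x + F y := by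
      intro x hx y hy
      change (∑ q : H ⧸ T.subgroupOf H, _) = (∑ q : H ⧸ T.subgroupOf H, _) + (∑ q : H ⧸ T.subgroupOf H, _)
      rw [← Finset.sum_add_distrib]
      refine Finset.sum_congr rfl fun q _ => ?_
      rw [← χm _ (cj' d.HN q.out.2 hx) _ (cj' d.HN q.out.2 hy)]
      congr 1
      group
    have Fh : ∀ h ∈ H, ∀ n, F (h * n * h⁻¹) = F n := by
      intro h hh n
      change (∑ q : H ⧸ T.subgroupOf H, χ (((q.out : H) : G)⁻¹ * (h * n * h⁻¹) * (q.out : H))) =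
        ∑ q : H ⧸ T.subgroupOf H, χ (((q.out : H) : G)⁻¹ * n * (q.out : H))
      rw [← Equiv.sum_comp (MulAction.toPerm (⟨h, hh⟩ : H))
        (fun q : H ⧸ T.subgroupOf H => χ (((q.out : H) : G)⁻¹ * (h * n * h⁻¹) * (q.out : H)))]
      refine Finset.sum_congr rfl fun q _ => ?_
      obtain ⟨t, ht, e⟩ := out_mul H T ⟨h, hh⟩ q
      have e0 : (MulAction.toPerm (⟨h, hh⟩ : H)) q = (⟨h, hh⟩ : H) • q := rfl
      rw [e0]
      set s : G := (((((⟨h, hh⟩ : H) • q).out : H)) : G) with hs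
      have e1 : s = h * (q.out : H) * t⁻¹ := by
        have e2 : h * ((q.out : H) : G) = s * t := e
        rw [e2]; group
      have e3 : s⁻¹ * (h * n * h⁻¹) * s = t * (((q.out : H) : G)⁻¹ * n * (q.out : H)) * t⁻¹ := by
        rw [e1]; group
      rw [e3, χt t ht]
    have Fv1 : F v1 = 1 := by
      obtain ⟨m, hm⟩ := odd_card (R := H) (T := T) d.odd
      change (∑ q : H ⧸ T.subgroupOf H, χ (((q.out : H) : G)⁻¹ * v1 * (q.out : H))) = 1
      have h3 : ∀ q : H ⧸ T.subgroupOf H, χ (((q.out : H) : G)⁻¹ * v1 * (q.out : H)) = 1 := by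
        intro q
        have h4 : ((q.out : H) : G)⁻¹ * v1 * (q.out : H) = v1 := by
          rw [mul_assoc, ← d.Hv1 _ q.out.2]; group
        rw [h4]
        exact χ1 _ h1
      rw [Finset.sum_congr rfl fun q _ => h3 q, Finset.sum_const, Finset.card_univ, hm, nsmul_eq_mul, mul_one,
        Nat.cast_add, Nat.cast_mul]
      have h5 : ((2 : ℕ) : ZMod 2) = 0 := by decide
      rw [h5, zero_mul, zero_add, Nat.cast_one]
    have Fv2 : F v2 = 0 := by
      obtain ⟨w, hw, hw1, hwv, -, -⟩ := d.exists_w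
      obtain ⟨l, hl, hlw⟩ := d.tr2 w hw hw1
      have hvw : v2 * w ≠ 1 := by
        intro h
        apply hwv
        exact mul_left_cancel (h.trans (d.Ns v2 d.v2N).symm)
      obtain ⟨l', hl', hlw'⟩ := d.tr2 _ (mul_mem d.v2V hw) hvw
      have h3 : F w = F v2 := by rw [← hlw]; exact Fh l (d.L2H hl) v2
      have h4 : F (v2 * w) = F v2 := by rw [← hlw']; exact Fh l' (d.L2H hl') v2
      have h5 := Fm v2 d.v2N w (d.V2N hw)
      rw [h4, h3] at h5
      exact left_eq_add.1 h5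
    let M : Subgroup G :=
      { carrier := {n | n ∈ N ∧ F n = 0}
        one_mem' := by
          refine ⟨one_mem _, ?_⟩
          have h3 := Fm 1 (one_mem _) 1 (one_mem _)
          rw [mul_one] at h3
          exact left_eq_add.1 h3
        mul_mem' := by
          rintro x y ⟨hx, hx'⟩ ⟨hy, hy'⟩
          exact ⟨mul_mem hx hy, by rw [Fm x hx y hy, hx', hy', add_zero]⟩
        inv_mem' := by
          rintro x ⟨hx, hx'⟩
          have h3 : x⁻¹ = x := inv_eq_of_mul_eq_one_left (d.Ns x hx)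
          rw [h3]
          exact ⟨hx, hx'⟩ }
    have hM : N ≤ M := d.minN M ⟨d.v2N, Fv2⟩ (le_norm fun h hh x hx => ⟨cj d.HN hh hx.1, by
      rw [Fh h hh]
      exact hx.2⟩)
    have h3 : F v1 = 0 := (hM h2).2
    rw [Fv1] at h3
    exact one_ne_zero h3
  · intro n hn
    rcases hdec n hn with h | h
    · exact h
    · exfalso
      apply h2
      have h3 := mul_mem (inv_mem hn) (hWN h)
      rwa [inv_mul_cancel_left] at h3

/-- A subgroup `R ≥ T, L₂` of `H` normalising `V₁N` normalises `V₁`. -/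
theorem normV1 [Finite G] {R : Subgroup G} (hRH : R ≤ H) (hTR : T ≤ R) (hLR : L2 ≤ R)
    (hRn : R ≤ normalizer ((V1 ⊔ N : Subgroup G) : Set G)) {r x : G} (hr : r ∈ R) (hx : x ∈ V1) :
    r * x * r⁻¹ * x⁻¹ ∈ zpowers v1 := by
  have hbz : ∀ r ∈ R, ∀ z ∈ zpowers v1, r * z * r⁻¹ * z⁻¹ = 1 := by
    intro r hr z hz
    have h1 : r * z = z * r := by
      rcases d.memZ.1 hz with rfl | rfl
      · group
      · exact d.Hv1 r (hRH hr)
    rw [h1]; group
  by_cases hxZ : x ∈ zpowers v1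
  · rw [hbz r hr x hxZ]; exact one_mem _
  have hv11 : v1 * v1 = 1 := by rw [← pow_two]; exact d.v1sq
  have hx1 : x ≠ 1 := fun h => hxZ (by rw [h]; exact one_mem _)
  have hxv : v1 ≠ x := fun h => hxZ (by rw [← h]; exact mem_zpowers _)
  have hZV : zpowers v1 ≤ V1 := zpowers_le.2 d.v1V
  -- `V₁ = Z₁ ∪ xZ₁`
  have hV : ∀ y ∈ V1, y ∈ zpowers v1 ∨ y * x⁻¹ ∈ zpowers v1 := by
    intro y hy
    rcases four d.cV1 d.v1V hx d.v1ne hx1 hxv hv11 y hy with rfl | rfl | rfl | rfl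
    · exact Or.inl (one_mem _)
    · exact Or.inl (mem_zpowers _)
    · right
      rw [mul_inv_cancel]
      exact one_mem _
    · right
      rw [mul_inv_cancel_right]
      exact mem_zpowers _
  have hVx : ∀ g, g ∈ H → g ∈ normalizer (V1 : Set G) → g * x * g⁻¹ * x⁻¹ ∈ zpowers v1 := by
    intro g hg hgV
    rcases hV _ ((mem_normalizer_iff.1 hgV x).1 hx) with h | h
    · exfalso
      apply hxZ
      have h1 := cj' d.HZ hg h
      have e : g⁻¹ * (g * x * g⁻¹) * g = x := by group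
      rwa [e] at h1
    · exact h
  have hTx : ∀ t ∈ T, t * x * t⁻¹ * x⁻¹ ∈ zpowers v1 := fun t ht => hVx t (d.TH ht) (d.TV1 ht)
  have hLx : ∀ l ∈ L2, l * x * l⁻¹ * x⁻¹ ∈ zpowers v1 := fun l hl => hVx l (d.L2H hl) (d.L2V1 hl)
  have hVU : V1 ≤ V1 ⊔ N := le_sup_left
  have hNU : N ≤ V1 ⊔ N := le_sup_right
  -- `V₁N = M ∪ xM`
  have hRM : R ≤ normalizer ((N ⊔ zpowers v1 : Subgroup G) : Set G) :=
    norm_sup (hRH.trans d.HN) (hRH.trans d.HZ)
  have hUM : ∀ y ∈ V1 ⊔ N, y ∈ N ⊔ zpowers v1 ∨ y * x⁻¹ ∈ N ⊔ zpowers v1 := by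
    intro y hy
    obtain ⟨u, hu, n, hn, rfl⟩ := mem_sup_comm (P := V1) (Q := N)
      (fun x hx y hy => d.comm x (hVU hx) y (hNU hy)) hy
    rcases hV u hu with h | h
    · exact Or.inl (mul_mem (mem_sup_right h) (mem_sup_left hn))
    · right
      have e : u * n * x⁻¹ = u * x⁻¹ * n := by
        rw [mul_assoc, mul_assoc, d.comm n (hNU hn) x⁻¹ (inv_mem (hVU hx))]
      rw [e]
      exact mul_mem (mem_sup_right h) (mem_sup_left hn)
  have hRx : ∀ r ∈ R, r * x * r⁻¹ * x⁻¹ ∈ N ⊔ zpowers v1 := by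
    intro r hr
    rcases hUM _ (cj hRn hr (hVU hx)) with h | h
    · have h1 := cj' hRM hr h
      have e : r⁻¹ * (r * x * r⁻¹) * r = x := by group
      rw [e] at h1
      exact mul_mem h (inv_mem h1)
    · exact h
  have hodd : ¬ 2 ∣ T.relIndex R := by
    intro h
    apply d.odd
    rw [← Subgroup.relIndex_mul_relIndex T R H hTR hRH]
    exact h.mul_right _
  obtain ⟨c, hc, hcM, hcR⟩ := avg (U := V1 ⊔ N) (T := T) (R := R) (Z := zpowers v1) (M := N ⊔ zpowers v1)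
    d.comm hRn (hRH.trans d.HZ) hodd (hVU hx) (by rw [← pow_two]; exact d.sq x (hVU hx)) hTx hRx
  -- `n := c x⁻¹ = n' z`
  obtain ⟨n', hn', z, hz, hnz⟩ := mem_sup_comm (P := N) (Q := zpowers v1)
    (fun x hx y hy => d.comm x (hNU hx) y (hVU (hZV hy))) hcM
  have hcx : c = n' * z * x := by rw [← hnz]; group
  have hzU : z ∈ V1 ⊔ N := hVU (hZV hz)
  have hbr : ∀ r ∈ R, r * c * r⁻¹ * c⁻¹ = (r * n' * r⁻¹ * n'⁻¹) * (r * x * r⁻¹ * x⁻¹) := by
    intro r hr
    rw [hcx, br_mul d.comm (hRn hr) (mul_mem (hNU hn') hzU) (hVU hx),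
      br_mul d.comm (hRn hr) (hNU hn') hzU, hbz r hr z hz, mul_one]
  have hn'f : ∀ r ∈ R, r * x * r⁻¹ * x⁻¹ ∈ zpowers v1 → r * n' * r⁻¹ * n'⁻¹ ∈ zpowers v1 := by
    intro r hr h
    have h1 := hcR r hr
    rw [hbr r hr] at h1
    exact (mul_mem_cancel_right h).1 h1
  have hn'Z : n' ∈ zpowers v1 := by
    have h1 := d.fix n' hn' fun t ht => hn'f t (hTR ht) (hTx t ht)
    obtain ⟨z', hz', y, hy, rfl⟩ := mem_sup_comm (P := zpowers v1) (Q := zpowers v2) (fun x hx y hy =>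
      d.comm x (hVU (hZV hx)) y (hNU (zpowers_le.2 d.v2N hy))) h1
    rcases (mem_zp d.v2sq).1 hy with rfl | rfl
    · rwa [mul_one]
    · exfalso
      obtain ⟨w, hw, hw1, hwv, -, -⟩ := d.exists_w
      obtain ⟨l, hl, hlw⟩ := d.tr2 w hw hw1
      have h2 := hn'f l (hLR hl) (hLx l hl)
      rw [br_mul d.comm (hRn (hLR hl)) (hVU (hZV hz')) (hNU d.v2N), hbz l (hLR hl) z' hz', one_mul, hlw] at h2
      rcases d.memZ.1 h2 with h3 | h3
      · exact hwv (mul_inv_eq_one.1 h3)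
      · apply d.v12
        rw [← h3]
        exact mul_mem hw (inv_mem d.v2V)
  have h1 := hcR r hr
  rw [hbr r hr, hbz r hr n' hn'Z, one_mul] at h1
  exact h1

/-- the normal closure of `u` under `K` -/
theorem K_le [Finite G] {K : Subgroup G} (hKH : K ≤ H) (hKn : H ≤ normalizer (K : Set G))
    (hKV : K ≤ centralizer (V1 : Set G)) : K ≤ centralizer (N : Set G) := by
  classical
  obtain ⟨w, hw, hw1, hwv, hall, a, ha, haw⟩ := d.exists_w
  have hv22 : v2 * v2 = 1 := d.Ns v2 d.v2N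
  have hwN : w ∈ N := d.V2N hw
  have hw2 : w * w = 1 := d.Ns w hwN
  have hvw : v2 * w = w * v2 := d.Nc v2 d.v2N w hwN
  set w' : G := v2 * w with hw'
  have hw'V : w' ∈ V2 := mul_mem d.v2V hw
  have hw'1 : w' ≠ 1 := fun h => hwv (mul_left_cancel (h.trans hv22.symm))
  have hww' : w ≠ w' := fun h => d.v2ne (mul_right_cancel ((one_mul w).trans h)).symm
  have haT : a ∈ T := d.AT ha
  have haH : a ∈ H := d.TH haT
  have hav : a * v2 * a⁻¹ = v2 := by rw [d.Dv2 a (d.TD haT)]; group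
  have haw' : a * w' * a⁻¹ = w := by
    calc a * w' * a⁻¹ = (a * v2 * a⁻¹) * (a * w * a⁻¹) := by rw [hw']; group
      _ = v2 * (v2 * w) := by rw [hav, haw]
      _ = v2 * v2 * w := by group
      _ = w := by rw [hv22, one_mul]
  -- `T` on `{w, w'}`
  have hTw : ∀ t ∈ T, t * w * t⁻¹ = w ∨ t * w * t⁻¹ = w' := by
    intro t ht
    rcases hall _ (cj d.TV2 ht hw) with h | h | h | h
    · exfalso
      apply hw1
      have h1 := congrArg (fun g => t⁻¹ * g * t) h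
      simpa [mul_assoc] using h1
    · exfalso
      apply hwv
      have h1 : t * w * t⁻¹ = t * v2 * t⁻¹ := by rw [h, d.Dv2 t (d.TD ht)]; group
      exact mul_left_cancel (mul_right_cancel h1)
    · exact Or.inl h
    · exact Or.inr h
  have hTv : ∀ t ∈ T, t * v2 * t⁻¹ = v2 := by
    intro t ht
    rw [d.Dv2 t (d.TD ht)]; group
  have hTw' : ∀ t ∈ T, (t * w * t⁻¹ = w ∧ t * w' * t⁻¹ = w') ∨ (t * w * t⁻¹ = w' ∧ t * w' * t⁻¹ = w) := by
    intro t ht
    have h1 : t * w' * t⁻¹ = v2 * (t * w * t⁻¹) := by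
      calc t * w' * t⁻¹ = (t * v2 * t⁻¹) * (t * w * t⁻¹) := by rw [hw']; group
        _ = _ := by rw [hTv t ht]
    rcases hTw t ht with h | h
    · left
      exact ⟨h, by rw [h1, h]⟩
    · right
      refine ⟨h, ?_⟩
      rw [h1, h, hw', ← mul_assoc, hv22, one_mul]
  -- `P u`
  have hPN : ∀ u ∈ N, Pc K u ≤ N := fun u hu => Pc_le hu (hKH.trans d.HN)
  have hPc : ∀ h ∈ H, ∀ u x, x ∈ Pc K u → h * x * h⁻¹ ∈ Pc K (h * u * h⁻¹) := fun h hh u x hx =>
    Pc_conj (hKn hh) hx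
  have hPcZ : ∀ h ∈ H, ∀ u x, x ∈ Pc K u ⊔ zpowers v1 → h * x * h⁻¹ ∈ Pc K (h * u * h⁻¹) ⊔ zpowers v1 := by
    intro h hh u x hx
    have h1 : Pc K u ⊔ zpowers v1 ≤
        (Pc K (h * u * h⁻¹) ⊔ zpowers v1 : Subgroup G).comap (MulAut.conj h).toMonoidHom := by
      refine sup_le (fun y hy => ?_) (fun y hy => ?_)
      · exact mem_sup_left (hPc h hh u y hy)
      · exact mem_sup_right (cj d.HZ hh hy)
    exact h1 hx
  -- `N^V`
  set NV : Subgroup G := Pc (centralizer (V1 : Set G)) v2 with hNV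
  have hNVN : NV ≤ N := Pc_le d.v2N (d.CV1.trans d.HN)
  have hPNV : Pc K v2 ≤ NV := Pc_le Pc_self (hKV.trans Pc_norm)
  have hL1NV : L1 ≤ normalizer (NV : Set G) := by
    refine le_norm fun l hl x hx => ?_
    have h1 := Pc_conj (norm_cent d.L1V1 hl) hx
    have h2 : l * v2 * l⁻¹ = v2 := by rw [d.L1v2 l hl]; group
    rwa [h2] at h1
  have hNNV : ¬ N ≤ NV := by
    intro h
    have h1 : NV = N := le_antisymm hNVN h
    rw [h1] at hL1NV
    exact d.L1N hL1NV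
  have hV1NV : v1 ∉ NV := by
    intro h
    apply d.V1N
    intro x hx
    by_cases hx1 : x = 1
    · rw [hx1]; exact one_mem _
    · obtain ⟨l, hl, rfl⟩ := d.tr1 x hx hx1
      exact hNVN (cj hL1NV hl h)
  have hv1P : v1 ∉ Pc K v2 := fun h => hV1NV (hPNV h)
  have hDP : D ≤ normalizer (Pc K v2 : Set G) := by
    refine le_norm fun g hg x hx => ?_
    have h1 := hPc g (d.DH hg) v2 x hx
    have h2 : g * v2 * g⁻¹ = v2 := by rw [d.Dv2 g hg]; group
    rwa [h2] at h1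
  have hL2P : ¬ L2 ≤ normalizer ((Pc K v2 ⊔ zpowers v1 : Subgroup G) : Set G) := by
    intro h
    exact hNNV ((d.noCompl (hPN v2 d.v2N) hDP Pc_self h).trans hPNV)
  -- two-transitivity
  have htt : ∀ u ∈ V2, u ≠ 1 → ∀ u' ∈ V2, u' ≠ 1 → u' ≠ u → ∃ h ∈ H, h * v2 * h⁻¹ = u ∧ h * w * h⁻¹ = u' := by
    intro u hu hu1 u' hu' hu'1 huu'
    obtain ⟨l, hl, rfl⟩ := d.tr2 u hu hu1
    have h1 : l⁻¹ * u' * l ∈ V2 := cj' d.L2V2 hl hu'
    have e0 : ∀ g, l⁻¹ * u' * l = g → l * g * l⁻¹ = u' := by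
      rintro g rfl
      group
    rcases hall _ h1 with h | h | h | h
    · exfalso
      apply hu'1
      have := e0 _ h
      rw [← this]; group
    · exfalso
      exact huu' (e0 _ h).symm
    · exact ⟨l, d.L2H hl, rfl, e0 _ h⟩
    · refine ⟨l * a, mul_mem (d.L2H hl) haH, ?_, ?_⟩
      · calc l * a * v2 * (l * a)⁻¹ = l * (a * v2 * a⁻¹) * l⁻¹ := by group
          _ = _ := by rw [hav]
      · calc l * a * w * (l * a)⁻¹ = l * (a * w * a⁻¹) * l⁻¹ := by group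
          _ = u' := by rw [haw]; exact e0 _ h
  -- the intersections modulo `Z₁`
  have hint : ∀ x, x ∈ Pc K w ⊔ zpowers v1 → x ∈ Pc K w' ⊔ zpowers v1 → x ∈ zpowers v1 := by
    intro x hx hx'
    by_contra hxZ
    have hZc : ∀ {Q : Subgroup G}, Q ≤ N → ∀ x ∈ Q, ∀ y ∈ zpowers v1, x * y = y * x := fun hQ x hx y hy =>
      d.comm x (mem_sup_right (hQ hx)) y (mem_sup_left (zpowers_le.2 d.v1V hy))
    obtain ⟨n, hn, z, hz, rfl⟩ := mem_sup_comm (hZc (hPN w hwN)) hx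
    have hnZ : n ∉ zpowers v1 := fun h => hxZ (mul_mem h hz)
    let I : Subgroup G := (Pc K w ⊔ zpowers v1) ⊓ (Pc K w' ⊔ zpowers v1) ⊓ N
    have hnI : n ∈ I := by
      refine mem_inf.2 ⟨mem_inf.2 ⟨mem_sup_left hn, ?_⟩, hPN w hwN hn⟩
      have h1 := mul_mem hx' (inv_mem (mem_sup_right (S := Pc K w') hz))
      rwa [mul_inv_cancel_right] at h1
    have hTI : T ≤ normalizer (I : Set G) := by
      refine le_norm fun t ht y hy => ?_
      obtain ⟨⟨hy1, hy2⟩, hy3⟩ := hy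
      have h1 := hPcZ t (d.TH ht) w y hy1
      have h2 := hPcZ t (d.TH ht) w' y hy2
      have h3 : t * y * t⁻¹ ∈ N := cj d.HN (d.TH ht) hy3
      rcases hTw' t ht with ⟨e1, e2⟩ | ⟨e1, e2⟩
      · rw [e1] at h1
        rw [e2] at h2
        exact ⟨⟨h1, h2⟩, h3⟩
      · rw [e1] at h1
        rw [e2] at h2
        exact ⟨⟨h2, h1⟩, h3⟩
    obtain ⟨y, hy, hyZ, hyf⟩ := exists_fix (B := (zpowers v1 : Set G)) d.pT (inf_le_right.trans d.NT) hTI
      (one_mem _) hnI hnZ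
    have h1 := d.fix y hy.2 hyf
    have hv2I : v2 ∈ Pc K w ⊔ zpowers v1 := by
      obtain ⟨z', hz', y', hy', e⟩ := mem_sup_comm (P := zpowers v1) (Q := zpowers v2) (fun x hx y hy =>
        (hZc le_rfl y (zpowers_le.2 d.v2N hy) x hx).symm) h1
      rcases (mem_zp d.v2sq).1 hy' with rfl | rfl
      · exfalso
        rw [mul_one] at e
        exact hyZ (by rw [e]; exact hz')
      · have h2 : z'⁻¹ * y ∈ Pc K w ⊔ zpowers v1 := mul_mem (inv_mem (mem_sup_right hz')) hy.1.1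
        rwa [e, inv_mul_cancel_left] at h2
    have h2 : Pc K v2 ≤ Pc K w ⊔ zpowers v1 := Pc_le hv2I (norm_sup Pc_norm (hKH.trans d.HZ))
    apply hL2P
    refine le_norm fun l hl y hy => ?_
    have h3 := hPcZ l (d.L2H hl) v2 y hy
    by_cases h4 : l * v2 * l⁻¹ = v2
    · rwa [h4] at h3
    · -- `P (l v₂ l⁻¹) ≤ P v₂ Z₁`
      have h5 : l * v2 * l⁻¹ ≠ 1 := by
        intro h6
        apply d.v2ne
        have h7 := congrArg (fun g => l⁻¹ * g * l) h6
        simpa [mul_assoc] using h7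
      obtain ⟨h, hh, e1, e2⟩ := htt _ (cj d.L2V2 hl d.v2V) h5 v2 d.v2V d.v2ne (fun h => h4 h.symm)
      have h6 : Pc K (l * v2 * l⁻¹) ⊔ zpowers v1 ≤ Pc K v2 ⊔ zpowers v1 := by
        refine sup_le (Pc_le ?_ (norm_sup Pc_norm (hKH.trans d.HZ))) le_sup_right
        have h7 := hPcZ h hh w v2 hv2I
        rwa [e1, e2] at h7
      exact h6 h3
  have hint' : Pc K w ⊓ Pc K w' = ⊥ := by
    rw [eq_bot_iff]
    rintro x ⟨hx, hx'⟩
    rw [mem_bot]
    rcases d.memZ.1 (hint x (mem_sup_left hx) (mem_sup_left hx')) with h | h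
    · exact h
    · exfalso
      rw [h] at hx
      apply hv1P
      obtain ⟨l, hl, hlw⟩ := d.tr2 w hw hw1
      have h1 := hPc l⁻¹ (inv_mem (d.L2H hl)) w _ hx
      have e1 : l⁻¹ * w * l⁻¹⁻¹ = v2 := by rw [← hlw]; group
      have e2 : l⁻¹ * v1 * l⁻¹⁻¹ = v1 := by rw [d.Hv1 l⁻¹ (inv_mem (d.L2H hl))]; group
      rwa [e1, e2] at h1
  have hintg : ∀ h ∈ H, Pc K (h * w * h⁻¹) ⊓ Pc K (h * w' * h⁻¹) = ⊥ := by
    intro h hh
    rw [eq_bot_iff]
    rintro x ⟨hx, hx'⟩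
    rw [mem_bot]
    have h1 := hPc h⁻¹ (inv_mem hh) _ x hx
    have h2 := hPc h⁻¹ (inv_mem hh) _ x hx'
    have e1 : h⁻¹ * (h * w * h⁻¹) * h⁻¹⁻¹ = w := by group
    have e2 : h⁻¹ * (h * w' * h⁻¹) * h⁻¹⁻¹ = w' := by group
    rw [e1] at h1
    rw [e2] at h2
    have h3 : h⁻¹ * x * h⁻¹⁻¹ ∈ Pc K w ⊓ Pc K w' := ⟨h1, h2⟩
    rw [hint', mem_bot] at h3
    have h4 := congrArg (fun g => h * g * h⁻¹) h3
    simpa [mul_assoc] using h4
  have hw'v : w' ≠ v2 := by
    intro h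
    exact hw1 (mul_left_cancel (h.trans (mul_one v2).symm))
  have h01 : Pc K v2 ⊓ Pc K w = ⊥ := by
    obtain ⟨h, hh, e1, e2⟩ := htt w' hw'V hw'1 v2 d.v2V d.v2ne hw'v.symm
    have e3 : h * w' * h⁻¹ = w := by
      calc h * w' * h⁻¹ = (h * v2 * h⁻¹) * (h * w * h⁻¹) := by rw [hw']; group
        _ = (v2 * w) * v2 := by rw [e1, e2]
        _ = (w * v2) * v2 := by rw [← hw', hvw]
        _ = w := by rw [mul_assoc, hv22, mul_one]
    have h1 := hintg h hh
    rwa [e2, e3] at h1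
  have h02 : Pc K v2 ⊓ Pc K w' = ⊥ := by
    obtain ⟨h, hh, e1, e2⟩ := htt w hw hw1 v2 d.v2V d.v2ne hwv.symm
    have e3 : h * w' * h⁻¹ = w' := by
      calc h * w' * h⁻¹ = (h * v2 * h⁻¹) * (h * w * h⁻¹) := by rw [hw']; group
        _ = w * v2 := by rw [e1, e2]
        _ = w' := by rw [← hvw]
    have h1 := hintg h hh
    rwa [e2, e3] at h1
  have hYN : Pc K w ⊔ Pc K w' ≤ N := sup_le (hPN w hwN) (hPN w' (d.V2N hw'V))
  have h0Y : Pc K v2 ≤ Pc K w ⊔ Pc K w' := by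
    refine Pc_le ?_ (norm_sup Pc_norm Pc_norm)
    have h1 : w * w' = v2 := by
      rw [hvw, ← mul_assoc, hw2, one_mul]
    have h2 : w * w' ∈ Pc K w ⊔ Pc K w' := mul_mem (mem_sup_left Pc_self) (mem_sup_right Pc_self)
    rwa [h1] at h2
  have hten : ∀ x ∈ Pc K v2, x = 1 ∨ x = v2 := by
    have hPcb : ∀ b ∈ A, ∀ u, b * u = u * b → ∀ x ∈ Pc K u, b * x * b⁻¹ ∈ Pc K u := by
      intro b hb u hbu x hx
      have h1 := hPc b (d.TH (d.AT hb)) u x hx
      have e : b * u * b⁻¹ = u := by rw [hbu]; group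
      rwa [e] at h1
    have hbv : ∀ b ∈ A, b * v2 = v2 * b := fun b hb => d.Dv2 b (d.TD (d.AT hb))
    refine ten (A := A) (P1 := Pc K w) (P2 := Pc K w') (Y := Pc K w ⊔ Pc K w') (T := T)
      (v1 := w) (v2 := w') (a := a) d.pT d.AT (hYN.trans d.NT)
      (fun x hx y hy => d.Nc x (hYN hx) y (hYN hy)) (fun x hx => d.sq x (mem_sup_right (hYN hx))) d.Ac h0Y
      le_sup_left le_sup_right le_rfl h01 h02 hint' Pc_self Pc_self Pc_self hw' d.v2ne hw1 ha ?_ ?_ haw hbv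
      (fun b hb h x hx => hPcb b hb w h x hx) ?_ (fun b hb h x hx => hPcb b hb v2 (hbv b hb) x hx) ?_ ?_
    · intro x hx
      have h1 := hPc a haH w x hx
      rwa [haw] at h1
    · intro x hx
      have h1 := hPc a haH w' x hx
      rwa [haw'] at h1
    · intro b hb h x hx
      refine hPcb b hb w' ?_ x hx
      rw [hw', ← mul_assoc, hbv b hb, mul_assoc, h, mul_assoc]
    · intro b hb
      rcases hTw b (d.AT hb) with h | h
      · exact Or.inl (mul_inv_eq_iff_eq_mul.1 h)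
      · exact Or.inr h
    · intro B hB
      exact off_of_max (T := T) (hYN.trans d.NT) (fun x hx y hy => d.Nc x (hYN hx) y (hYN hy))
        (fun x hx => d.sq x (mem_sup_right (hYN hx))) d.AT d.Ac d.As d.Amax hB
  -- `K` centralises `v₂`
  have hKv : v2 ∈ centralizer (K : Set G) := by
    refine mem_centralizer_iff.2 fun k hk => ?_
    have h1 : k * v2 * k⁻¹ ∈ Pc K v2 := cj Pc_norm hk Pc_self
    rcases hten _ h1 with h | h
    · exfalso
      apply d.v2ne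
      have h2 := congrArg (fun g => k⁻¹ * g * k) h
      simpa [mul_assoc] using h2
    · exact mul_inv_eq_iff_eq_mul.1 h
  exact Subgroup.le_centralizer_iff.1 (d.minN _ hKv (norm_cent hKn))

end Dat

/-- **THEOREM G.** -/
theorem thmG [Finite G] {T D H L1 L2 V1 V2 N A : Subgroup G} {v1 v2 : G} (d : Dat T D H L1 L2 V1 V2 N A v1 v2)
    {KK : Subgroup G} (hK : KK ≤ H) (hKn : H ≤ normalizer (KK : Set G))
    (hKX : ∀ x ∈ V1, ∀ k ∈ KK, k * x * k⁻¹ * x⁻¹ ∈ N ⊔ zpowers v1) :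
    KK ≤ centralizer (N : Set G) := by
  have hZV : zpowers v1 ≤ V1 := zpowers_le.2 d.v1V
  -- `KK` normalises `V₁` modulo `Z₁`
  let R : Subgroup G := H ⊓ normalizer ((V1 ⊔ N : Subgroup G) : Set G)
  have hKR : KK ≤ R := by
    refine le_inf hK (le_norm fun k hk y hy => ?_)
    have h1 : V1 ⊔ N ≤ (V1 ⊔ N).comap (MulAut.conj k).toMonoidHom := by
      refine sup_le (fun x hx => ?_) (fun x hx => ?_)
      · change k * x * k⁻¹ ∈ V1 ⊔ N
        have h2 := hKX x hx k hk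
        have h3 : N ⊔ zpowers v1 ≤ V1 ⊔ N := sup_le le_sup_right (hZV.trans le_sup_left)
        have h4 := mul_mem (h3 h2) (mem_sup_left (T := N) hx)
        rwa [inv_mul_cancel_right] at h4
      · exact mem_sup_right (cj d.HN (hK hk) hx)
    exact h1 hy
  have hTR : T ≤ R := le_inf d.TH (norm_sup d.TV1 (d.TH.trans d.HN))
  have hLR : L2 ≤ R := le_inf d.L2H (norm_sup d.L2V1 (d.L2H.trans d.HN))
  have hKV : ∀ k ∈ KK, ∀ x ∈ V1, k * x * k⁻¹ * x⁻¹ ∈ zpowers v1 := fun k hk x hx =>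
    d.normV1 (R := R) inf_le_left hTR hLR inf_le_right (hKR hk) hx
  -- the odd part
  let K : Subgroup G := Subgroup.closure {k | k ∈ KK ∧ Odd (orderOf k)}
  have hKK : K ≤ KK := (closure_le _).2 fun k hk => hk.1
  have hKn' : H ≤ normalizer (K : Set G) := by
    refine le_norm fun h hh x hx => ?_
    have h1 : K ≤ K.comap (MulAut.conj h).toMonoidHom := by
      refine (closure_le _).2 ?_
      rintro k ⟨hk, hko⟩
      refine subset_closure ⟨cj hKn hh hk, ?_⟩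
      have h2 : orderOf ((MulAut.conj h).toMonoidHom k) = orderOf k :=
        orderOf_injective (MulAut.conj h).toMonoidHom (MulAut.conj h).injective k
      rw [h2]
      exact hko
    exact h1 hx
  have hKV' : K ≤ centralizer (V1 : Set G) := by
    refine (closure_le _).2 ?_
    rintro k ⟨hk, hko⟩
    refine mem_centralizer_iff.2 fun x hx => ?_
    have h1 : k ^ 2 * x = x * k ^ 2 := by
      rcases d.memZ.1 (hKV k hk x hx) with h | h
      · have h2 : k * x = x * k := mul_inv_eq_iff_eq_mul.1 (mul_inv_eq_one.1 h)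
        calc k ^ 2 * x = k * (k * x) := by rw [pow_two]; group
          _ = x * k ^ 2 := by rw [h2, ← mul_assoc, h2, pow_two, mul_assoc]
      · have h2 : k * x = v1 * x * k := by
          have h3 := mul_inv_eq_iff_eq_mul.1 h
          exact mul_inv_eq_iff_eq_mul.1 h3
        have h4 : k * v1 = v1 * k := d.Hv1 k (hK hk)
        have hv11 : v1 * v1 = 1 := by rw [← pow_two]; exact d.v1sq
        calc k ^ 2 * x = k * (k * x) := by rw [pow_two]; group
          _ = (k * v1) * (x * k) := by rw [h2]; group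
          _ = v1 * (k * x) * k := by rw [h4]; group
          _ = (v1 * v1) * x * k * k := by rw [h2]; group
          _ = x * k ^ 2 := by rw [hv11, pow_two]; group
    obtain ⟨m, hm⟩ := hko
    have h2 : k = (k ^ 2) ^ (m + 1) := by
      rw [← pow_mul]
      have h3 : 2 * (m + 1) = orderOf k + 1 := by omega
      rw [h3, pow_succ, pow_orderOf_eq_one, one_mul]
    have h3 : Commute (k ^ 2) x := h1
    have h4 := h3.pow_left (m + 1)
    rw [← h2] at h4
    exact h4.eq.symm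
  have hKN := d.K_le (hKK.trans hK) hKn' hKV'
  refine le_centralizer_of_ext d.TH d.odd (fun t ht => d.Dv2 t (d.TD ht)) hK hKn d.v2N d.HN d.minN ?_
  intro k hk
  obtain ⟨e, m, hm, hem⟩ := Nat.exists_eq_two_pow_mul_odd (orderOf_pos k).ne'
  refine ⟨e, hKN (subset_closure ⟨pow_mem hk _, ?_⟩)⟩
  have h1 : orderOf (k ^ 2 ^ e) = m := by
    rw [orderOf_pow, hem, Nat.gcd_eq_right (Dvd.intro _ rfl), Nat.mul_div_cancel_left _ (by positivity)]
  rw [h1]
  exact hm


end Cfsg.Agent.Omega.OM.PG.ThmG
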