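import Cfsg.Agent.Omega.OM.PG.ExactQ
import Cfsg.Agent.Omega.OmThm.GrpSP

/-!
# (E), radical, PURE TRANSVECTIONS (helper997, TEXT Q4 #20474 (3) PC)

`Z 0 ≤ N_1`, `[N_a, N_u] = 1` for `a ~ u`: then `X_u` (`= W_u N_u`) centralises `N_a` (`pc`).

* `FusP Z` : an element `≠ 1` of `Z 0 Z 1` in a point `a` : `a = Z 0` or `a = Z 1`;
* `IrrN Z` : `N_1 / Z 0` is irreducible for `H_1 = N_G(Z 0)`;
* `RegX Z X` : `X_a` acts on `Q_a` as an `F_q`-space of maps to `a`;
* `L0 Z` : LEMMA 0. `K ≤ C_G(Z 0)` normalised by `H_1`, a 2-element of `K` moves `N_1`: `K` is transitive on the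
  neighbours of `Z 0`;
* `false_of_zero` : the pair `(Z 0, Z 1)` is not critical if `[N_1, N_2] = 1` (with `X_a = W_a N_a`).
-/

set_option autoImplicit false
set_option linter.unusedSectionVars false

namespace Cfsg.Agent.Omega.OM.PG.PcQ

open Subgroup Cfsg
open Cfsg.Agent.ZN Cfsg.Agent.Omega.OM.PG.Peel Cfsg.Agent.Omega.OM.PG.PeelQ Cfsg.Agent.Omega.OM.PG.ExactQ
open Cfsg.Agent.Omega.NO3S.EThree Cfsg.Agent.Omega.NO3S.EThree.ExactA
open Cfsg.Agent.Omega.NoFF.Basic (comm_symm conj_conj conj_le_iff)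
open Cfsg.Agent.Omega.OmThm.Grp (GD Mv)
open scoped Pointwise

universe u

variable {G : Type u} [Group G]

/-- an element `≠ 1` of `Z 0 Z 1` in a point `a` : `a = Z 0` or `a = Z 1` -/
def FusP (Z : Fin 2 → Subgroup G) : Prop :=
  ∀ a : Subgroup G, IsPt Z a → ∀ x ∈ a, x ∈ Z 0 ⊔ Z 1 → x ≠ 1 → a = Z 0 ∨ a = Z 1

/-- `N_1 / Z 0` is irreducible for `H_1` -/
def IrrN (Z : Fin 2 → Subgroup G) : Prop :=
  ∀ K : Subgroup G, K ≤ NN Z (Z 0) → Z 0 ≤ K → HH (Z 0) ≤ normalizer (K : Set G) → K ≤ Z 0 ∨ NN Z (Z 0) ≤ K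

/-- `X_a` acts on `Q_a` as an `F_q`-space of maps to `a` -/
def RegX (Z : Fin 2 → Subgroup G) (X : Subgroup G → Subgroup G) : Prop :=
  ∀ a : Subgroup G, IsPt Z a → ∀ w ∈ X a, ∀ b ∈ QQ a, w * b ≠ b * w → ∀ z ∈ a,
    ∃ w' ∈ X a, w' * b * w'⁻¹ * b⁻¹ = z ∧ ∀ v ∈ QQ a, w * v = v * w → w' * v = v * w'

/-- LEMMA 0 -/
def L0 (Z : Fin 2 → Subgroup G) : Prop :=
  ∀ K : Subgroup G, K ≤ centralizer (Z 0 : Set G) → HH (Z 0) ≤ normalizer (K : Set G) →
    (∃ x ∈ K, IsPGroup 2 (zpowers x) ∧ x ∉ centralizer (NN Z (Z 0) : Set G)) →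
    ∀ u u' : Subgroup G, Adj Z (Z 0) u → Adj Z (Z 0) u' → ∃ x ∈ K, MulAut.conj x • u = u'

theorem FusP.adj {Z : Fin 2 → Subgroup G} (hf : FusP Z) {a b c : Subgroup G} (h : Adj Z a b) (hc : IsPt Z c) {x : G}
    (hx : x ∈ c) (hx' : x ∈ a ⊔ b) (hx1 : x ≠ 1) : c = a ∨ c = b := by
  obtain ⟨k, rfl, rfl⟩ := h
  have h1 : k⁻¹ * x * k ∈ Z 0 ⊔ Z 1 := by
    rw [← Subgroup.smul_sup] at hx'
    obtain ⟨y, hy, rfl⟩ := hx'
    change k⁻¹ * (k * y * k⁻¹) * k ∈ _
    have e : k⁻¹ * (k * y * k⁻¹) * k = y := by group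
    rw [e]
    exact hy
  have h2 : k⁻¹ * x * k ∈ MulAut.conj k⁻¹ • c := by
    refine ⟨x, hx, ?_⟩
    change k⁻¹ * x * k⁻¹⁻¹ = _
    group
  have h3 : k⁻¹ * x * k ≠ 1 := by
    intro e
    apply hx1
    calc x = k * (k⁻¹ * x * k) * k⁻¹ := by group
      _ = 1 := by rw [e]; group
  rcases hf _ (hc.conj k⁻¹) _ h2 h1 h3 with e | e
  · left
    rw [← e, conj_inv_conj]
  · right
    rw [← e, conj_inv_conj]

theorem not_adj_self {Z : Fin 2 → Subgroup G} (h01 : Z 0 ≠ Z 1) {a : Subgroup G} (h : Adj Z a a) : False := by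
  obtain ⟨k, h1, h2⟩ := h
  apply h01
  have h3 : MulAut.conj k • Z 0 = MulAut.conj k • Z 1 := h1.symm.trans h2
  have h4 := congrArg (fun A => MulAut.conj k⁻¹ • A) h3
  simpa only [inv_conj_conj] using h4

section main

variable [Finite G] {Z U : Fin 2 → Subgroup G} (P : PP Z U) {X : Subgroup G → Subgroup G} (F : XF Z X)
include P F

/-- **PC.** -/
theorem pc (hcom : ∀ a u : Subgroup G, Adj Z a u → Com Z a u) (hti : TIp Z) (hfus : FusP Z) (hirr : IrrN Z)
    (hreg : RegX Z X) (hL0 : L0 Z) (hq : 3 ≤ Nat.card (Z 0)) (h01 : Z 0 ≠ Z 1) (hrad : Z 0 ≤ NN Z (Z 0))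
    {u : Subgroup G} (hu : Adj Z (Z 0) u) : X u ≤ centralizer (NN Z (Z 0) : Set G) := by
  by_contra hmov
  have h0 : IsPt Z (Z 0) := ⟨1, by rw [map_one, one_smul]⟩
  set N := NN Z (Z 0) with hN
  set Pt : Set (Subgroup G) := {p | Adj Z (Z 0) p} with hPt
  have hNe := eab_iff.1 (NN_eab P h0)
  have hNQ : ∀ p, Adj Z (Z 0) p → N ≤ QQ p := fun p hp =>
    P.f3 (P.adj_symm hp) (P.NN_le_QQ h0) (hcom _ _ hp)
  have hXa : ∀ p, Adj Z (Z 0) p → X p ≤ centralizer (Z 0 : Set G) := fun p hp =>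
    (F.XQ p (P.adj_pt hp)).trans (P.QQ_le_cent_of_adj hp)
  have hw0 : ∀ p, Adj Z (Z 0) p → ∀ w ∈ X p, MulAut.conj w • Z 0 = Z 0 := fun p hp w hw =>
    Cfsg.Agent.Omega.NOThreeL.Pair.conj_eq_of_mem (centralizer_le_normalizer _ (hXa p hp hw))
  have hmv : ∀ p ∈ Pt, ∀ w ∈ X p, ∀ x ∈ Pt, MulAut.conj w • x ∈ Pt := by
    intro p hp w hw x hx
    have h1 := Adj.conj hx w
    rw [hw0 p hp w hw] at h1
    exact h1
  have hXX : ∀ p, Adj Z (Z 0) p → ∀ x ∈ X p, ∀ y ∈ X p, x * y = y * x := fun p hp x hx y hy =>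
    mem_centralizer_iff.1 ((eab_iff.1 (F.eab p (P.adj_pt hp))).1 hy) x hx
  have D : GD N Pt X (Nat.card (Z 0)) :=
    { comm := fun x hx y hy => mem_centralizer_iff.1 (hNe.1 hy) x hx
      sq := fun x hx => by rw [← pow_two]; exact hNe.2 x hx
      hq := hq
      le := fun p hp => Adj.le_NN hp
      card := by
        intro p hp
        obtain ⟨k, rfl⟩ := P.adj_pt hp
        exact ZN.ChoiceBase.card_cj k _
      ti := by
        intro p hp x hx v hvp hvx hv1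
        by_contra hne
        exact hv1 (ti_one hti (P.adj_pt hp) (P.adj_pt hx) hne hvp hvx)
      XN := fun p hp w hw v hv => F.com p (P.adj_pt hp) w hw v (hNQ p hp hv)
      Xp := fun p hp w hw v hv => hXX p hp w hw v (F.aX p (P.adj_pt hp) hv)
      mv := hmv
      Xc := fun p hp w hw x hx => F.conj w x (P.adj_pt hx)
      reg := by
        intro x hx w hw b hb hne z hz
        obtain ⟨w', hw', h1, h2⟩ := hreg x (P.adj_pt hx) w hw b (hNQ x hx hb) hne z hz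
        exact ⟨w', hw', h1, fun v hv => h2 v (hNQ x hx hv)⟩
      cardT := by
        have key : ∀ p ∈ Pt, (centralizer (N : Set G)).relIndex (X p) = (centralizer (N : Set G)).relIndex (X (Z 1)) := by
          rintro _ ⟨k, hk, rfl⟩
          have h1 : IsPt Z (Z 1) := P.adj_pt ⟨1, by rw [map_one, one_smul], by rw [map_one, one_smul]⟩
          have e1 : MulAut.conj k • centralizer (N : Set G) = centralizer (N : Set G) := by
            have e2 : MulAut.conj k • centralizer (N : Set G) = centralizer ((MulAut.conj k • N : Subgroup G) : Set G) :=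
              ZN.ChoiceBase.cj_centralizer k _
            rw [e2, hN, ← NN_conj, ← hk]
          rw [F.conj k (Z 1) h1]
          conv_lhs => rw [← e1]
          rw [relIndex_pointwise_smul]
        intro p hp x hx
        rw [key p hp, key x hx]
      span := le_rfl }
  have hadj0 : ∀ p ∈ Pt, p ≠ Z 0 := by
    rintro p hp rfl
    exact not_adj_self h01 hp
  -- the killed vectors
  set Y : Subgroup G := ⨆ p : {p : Subgroup G // Adj Z (Z 0) p}, X p with hY
  have hYle : ∀ p, Adj Z (Z 0) p → X p ≤ Y := fun p hp =>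
    le_iSup (fun p : {p : Subgroup G // Adj Z (Z 0) p} => X p) ⟨p, hp⟩
  have hYc : Y ≤ centralizer (Z 0 : Set G) := iSup_le fun p => hXa p p.2
  have hHY : HH (Z 0) ≤ normalizer (Y : Set G) := by
    have key : ∀ g ∈ HH (Z 0), MulAut.conj g • Y ≤ Y := by
      intro g hg
      have hg0 : MulAut.conj g • Z 0 = Z 0 := Cfsg.Agent.Omega.NOThreeL.Pair.conj_eq_of_mem hg
      have h1 : Y ≤ MulAut.conj g⁻¹ • Y := by
        refine iSup_le fun p => ?_
        have h2 : Adj Z (Z 0) (MulAut.conj g • (p : Subgroup G)) := by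
          have := p.2.conj g
          rwa [hg0] at this
        have h3 := conj_le_iff (g := g⁻¹) |>.2 (hYle _ h2)
        rwa [F.conj g _ (P.adj_pt p.2), inv_conj_conj] at h3
      have h2 := conj_le_iff (g := g) |>.2 h1
      rwa [conj_inv_conj] at h2
    intro g hg
    refine ChoiceBase.mem_normalizer_iff_cj.2 (le_antisymm (key g hg) ?_)
    have h2 := conj_le_iff (g := g) |>.2 (key g⁻¹ (inv_mem hg))
    rwa [conj_inv_conj] at h2
  have hkill : ∀ v ∈ N, (∀ p ∈ Pt, ∀ g ∈ X p, g * v = v * g) → v ∈ Z 0 := by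
    have h1 : HH (Z 0) ≤ normalizer ((N ⊓ centralizer (Y : Set G) : Subgroup G) : Set G) :=
      NO3L.LemP.le_normalizer_inf (PP.HH_le_NN _) (hHY.trans (NO3L.LemP.normalizer_le_normalizer_cent Y))
    have h2 : Z 0 ≤ N ⊓ centralizer (Y : Set G) := le_inf hrad (comm_symm hYc)
    rcases hirr _ inf_le_left h2 h1 with h3 | h3
    · intro v hv h4
      refine h3 ⟨hv, ?_⟩
      have h5 : Y ≤ centralizer ({v} : Set G) := iSup_le fun p g hg =>
        mem_centralizer_singleton_iff.2 (h4 p p.2 g hg)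
      exact mem_centralizer_iff.2 fun y hy => mem_centralizer_singleton_iff.1 (h5 hy)
    · exfalso
      exact hmov ((hYle u hu).trans (comm_symm (h3.trans inf_le_right)))
  -- no vector of a sum of two points is killed
  have nk : ∀ p ∈ Pt, ∀ x ∈ Pt, ∀ a ∈ p, ∀ b ∈ x, a * b ≠ 1 → ∃ w ∈ Pt, ∃ g ∈ X w, g * (a * b) ≠ (a * b) * g := by
    intro p hp x hx a ha b hb hab
    by_contra hcon
    push Not at hcon
    have h1 : a * b ∈ Z 0 := hkill _ (mul_mem (D.le p hp ha) (D.le x hx hb)) hcon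
    by_cases hb1 : b = 1
    · subst hb1
      rw [mul_one] at h1 hab
      exact hab (ti_one hti (P.adj_pt hp) h0 (hadj0 p hp) ha h1)
    · have h2 : b ∈ Z 0 ⊔ p := by
        have e : b = a⁻¹ * (a * b) := by group
        rw [e]
        exact mul_mem (mem_sup_right (inv_mem ha)) (mem_sup_left h1)
      rcases hfus.adj hp (P.adj_pt hx) hb h2 hb1 with h3 | h3
      · exact hadj0 x hx h3
      · subst h3
        exact hab (ti_one hti (P.adj_pt hp) h0 (hadj0 x hp) (mul_mem ha hb) h1)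
  -- one class
  have conn : ∀ p ∈ Pt, ∀ x ∈ Pt,
      Relation.ReflTransGen (fun a b => a ∈ Pt ∧ b ∈ Pt ∧ (Mv X a b ∨ Mv X b a)) p x := by
    have hex : ∃ x ∈ Y, IsPGroup 2 (zpowers x) ∧ x ∉ centralizer (N : Set G) := by
      obtain ⟨w, hw, hwN⟩ := SetLike.not_le_iff_exists.1 hmov
      exact ⟨w, hYle u hu hw, (MinSimple.VModule.o2_isPGroup _).to_le
        (zpowers_le.2 (F.XQ u (P.adj_pt hu) hw)), hwN⟩
    have hstep : ∀ g ∈ Y, (∀ p ∈ Pt, MulAut.conj g • p ∈ Pt ∧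
        Relation.ReflTransGen (fun a b => a ∈ Pt ∧ b ∈ Pt ∧ (Mv X a b ∨ Mv X b a)) p (MulAut.conj g • p)) := by
      intro g hg
      refine Subgroup.iSup_induction (fun p : {p : Subgroup G // Adj Z (Z 0) p} => X p)
        (C := fun g => ∀ p ∈ Pt, MulAut.conj g • p ∈ Pt ∧
          Relation.ReflTransGen (fun a b => a ∈ Pt ∧ b ∈ Pt ∧ (Mv X a b ∨ Mv X b a)) p (MulAut.conj g • p))
        hg ?_ ?_ ?_
      · rintro ⟨y, hy⟩ w hw p hp
        refine ⟨hmv y hy w hw p hp, ?_⟩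
        by_cases hc : X y ≤ centralizer (p : Set G)
        · have e : MulAut.conj w • p = p :=
            Cfsg.Agent.Omega.NOThreeL.Pair.conj_eq_of_mem (centralizer_le_normalizer _ (hc hw))
          rw [e]
        · have hc' : ¬ X y ≤ centralizer ((MulAut.conj w • p : Subgroup G) : Set G) := by
            intro h1
            apply hc
            intro t ht
            have h2 : w * t * w⁻¹ ∈ X y := mul_mem (mul_mem hw ht) (inv_mem hw)
            exact (mem_cent_conj (g := w)).1 (h1 h2)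
          exact (Relation.ReflTransGen.single ⟨hp, hy, Or.inr hc⟩).tail ⟨hy, hmv y hy w hw p hp, Or.inl hc'⟩
      · intro p hp
        rw [map_one, one_smul]
        exact ⟨hp, Relation.ReflTransGen.refl⟩
      · intro g g' h1 h2 p hp
        obtain ⟨h3, h4⟩ := h2 p hp
        obtain ⟨h5, h6⟩ := h1 _ h3
        rw [← conj_conj]
        exact ⟨h5, h4.trans h6⟩
    intro p hp x hx
    obtain ⟨g, hg, e⟩ := hL0 Y hYc hHY hex p x hp hx
    rw [← e]
    exact (hstep g hg p hp).2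
  -- `Z 0` would lie in a point
  obtain ⟨z, hz, hz1⟩ : ∃ z ∈ Z 0, z ≠ 1 := by
    by_contra hcon
    push Not at hcon
    exact P.ne ((eq_bot_iff_forall _).2 hcon)
  obtain ⟨p, hp, hzp⟩ := D.mem_point conn nk ⟨u, hu, hmov⟩ (hrad hz) hz1
  exact hz1 (ti_one hti (P.adj_pt hp) h0 (hadj0 p hp) hzp hz)

/-- The same for all adjacent points. -/
theorem pc' (hcom : ∀ a u : Subgroup G, Adj Z a u → Com Z a u) (hti : TIp Z) (hfus : FusP Z) (hirr : IrrN Z)
    (hreg : RegX Z X) (hL0 : L0 Z) (hq : 3 ≤ Nat.card (Z 0)) (h01 : Z 0 ≠ Z 1) (hrad : Z 0 ≤ NN Z (Z 0))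
    {a u : Subgroup G} (hu : Adj Z a u) : X u ≤ centralizer (NN Z a : Set G) := by
  obtain ⟨k, rfl, rfl⟩ := hu
  have h1 : Adj Z (Z 0) (Z 1) := ⟨1, by rw [map_one, one_smul], by rw [map_one, one_smul]⟩
  rw [F.conj k _ (P.adj_pt h1), NN_conj]
  exact Cfsg.Agent.Omega.NoFF.Basic.conj_le_centralizer
    (pc P F hcom hti hfus hirr hreg hL0 hq h01 hrad h1)

end main

/-- **PC: the pair `(Z 0, Z 1)` is not critical** (radical, `[N_1, N_2] = 1`). -/
theorem false_of_zero [Finite G] {Z U : Fin 2 → Subgroup G} (P : PP Z U) (F : XF Z (XW Z U))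
    (hN : NobX Z (XW Z U)) (hNO : NoP Z) (hG : TA Z (XW Z U)) (hS : Sur Z U)
    (hcom : ∀ a u : Subgroup G, Adj Z a u → Com Z a u) (hti : TIp Z) (hfus : FusP Z) (hirr : IrrN Z)
    (hreg : RegX Z (XW Z U)) (hL0 : L0 Z) (hq : 3 ≤ Nat.card (Z 0)) (h01 : Z 0 ≠ Z 1) (hrad : Z 0 ≤ NN Z (Z 0))
    (h : CX Z (XW Z U) 0 (Z 0) (Z 1)) : False := by
  have h1 : Adj Z (Z 0) (Z 1) := ⟨1, by rw [map_one, one_smul], by rw [map_one, one_smul]⟩
  obtain ⟨-, m, hm, l, hl, hml⟩ := redQ P F hN hti hNO hG hS h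
  apply hml
  -- `m ∈ N_2` centralises `X_1`
  have h2 : XW Z U (Z 0) ≤ centralizer (NN Z (Z 1) : Set G) :=
    pc' P F hcom hti hfus hirr hreg hL0 hq h01 hrad (P.adj_symm h1)
  exact (comm_symm ((ln_le_XW hl).trans h2)) hm.1

end Cfsg.Agent.Omega.OM.PG.PcQ
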