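import Cfsg.Agent.Omega.NO3S.EThree.ExactB

/-!
# (E), least distance at least 3 (helper609, TEXT R5 #19750 (4))

* `Nob N B` : `|B : C_B(N)| ≤ |N : C_N(B)|`; `Exa N B` : equality;
* `nob_of`, `exa_peel` : the peeling (`V ≤ N`, `B` replaced by `C_B(V)`);
* `XF Z X` : the groups `X_a` (`= W_a N_a`) of the points: `N_a, a ≤ X_a ≤ Q_a` elementary abelian, `[X_a, Q_a] ≤ a`;
* `false_of_three` : all `X_a`, `X_b` at distance `≤ 2` commute, `(NO)`, points of order `2`, THEOREM G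
  (`C_{H_a}(X_a/N_a)` centralises `N_a`): contradiction.
-/

set_option autoImplicit false
set_option linter.unusedSectionVars false

namespace Cfsg.Agent.Omega.OM.PG.Peel

open Subgroup Cfsg Cfsg.Agent.ZN Cfsg.Agent.Omega.MinPar
open Cfsg.Agent.Omega.OM.PG
open Cfsg.Agent.Omega.NO3S.EThree Cfsg.Agent.Omega.NO3S.EThree.ExactA
open Cfsg.Agent.ZN.ChoiceBase (AA mm mm_eq mem_AA_iff AA_nonempty card_le_mm cj_mem_AA mm_cj mm_mono)
open Cfsg.Agent.Omega.NoFF.Basic (conj_conj mem_conj conj_le_iff conj_le_centralizer comm_symm comm_mono)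
open Cfsg.Agent.Omega.NO3S.ML (card_mul_relIndex card_sup_mul_of_comm)
open scoped Pointwise

universe u

variable {G : Type u} [Group G]

/-- `|B : C_B(N)| ≤ |N : C_N(B)|` -/
def Nob (N B : Subgroup G) : Prop :=
  (centralizer (N : Set G)).relIndex B ≤ (centralizer (B : Set G)).relIndex N

/-- `|B : C_B(N)| = |N : C_N(B)|` -/
def Exa (N B : Subgroup G) : Prop :=
  (centralizer (N : Set G)).relIndex B = (centralizer (B : Set G)).relIndex N

variable [Finite G]

theorem rel_pos (H K : Subgroup G) : 0 < H.relIndex K := Nat.pos_of_ne_zero index_ne_zero_of_finite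

theorem nob_of_le {N B : Subgroup G} (h : B ≤ centralizer (N : Set G)) : Nob N B := by
  unfold Nob
  rw [relIndex_eq_one.2 h]
  exact rel_pos _ _

theorem nob_of {N V B : Subgroup G} (hVN : V ≤ N) (h1 : Nob V B) (h2 : Nob N (B ⊓ centralizer (V : Set G))) :
    Nob N B := by
  unfold Nob at *
  have h4 := mul_relIndex_le (N := N) (V := V) (A := B) (B := B ⊓ centralizer (V : Set G)) hVN
    inf_le_left inf_le_right
  have h5 := relIndex_eq_mul (N := N) (V := V) (A := B) hVN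
  rw [h5, mul_comm]
  exact (Nat.mul_le_mul h1 h2).trans h4

/-- **The peeling.** -/
theorem exa_peel {N V B : Subgroup G} (hVN : V ≤ N) (hE : Exa N B) (h1 : Nob V B)
    (h2 : Nob N (B ⊓ centralizer (V : Set G))) :
    Exa N (B ⊓ centralizer (V : Set G)) ∧
      N ⊓ centralizer ((B ⊓ centralizer (V : Set G) : Subgroup G) : Set G) ≤ V ⊔ (N ⊓ centralizer (B : Set G)) := by
  unfold Exa Nob at *
  have h4 := mul_relIndex_le (N := N) (V := V) (A := B) (B := B ⊓ centralizer (V : Set G)) hVN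
    inf_le_left inf_le_right
  have h5 := relIndex_eq_mul (N := N) (V := V) (A := B) hVN
  set B' := B ⊓ centralizer (V : Set G) with hB'
  have pa := rel_pos (centralizer (N : Set G)) B'
  have pb := rel_pos (centralizer (V : Set G)) B
  have pc := rel_pos (centralizer (B : Set G)) V
  have pe := rel_pos (centralizer (B' : Set G)) N
  rw [← hE, h5] at h4
  -- `a b ≤ a c ≤ e c ≤ a b`
  have e1 : (centralizer (N : Set G)).relIndex B' * (centralizer (V : Set G)).relIndex B ≤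
      (centralizer (N : Set G)).relIndex B' * (centralizer (B : Set G)).relIndex V := Nat.mul_le_mul_left _ h1
  have e2 : (centralizer (N : Set G)).relIndex B' * (centralizer (B : Set G)).relIndex V ≤
      (centralizer (B' : Set G)).relIndex N * (centralizer (B : Set G)).relIndex V := Nat.mul_le_mul_right _ h2
  rw [mul_comm] at h4
  have e3 : (centralizer (N : Set G)).relIndex B' * (centralizer (B : Set G)).relIndex V =
      (centralizer (B' : Set G)).relIndex N * (centralizer (B : Set G)).relIndex V :=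
    le_antisymm e2 (h4.trans e1)
  have e4 : (centralizer (N : Set G)).relIndex B' = (centralizer (B' : Set G)).relIndex N :=
    Nat.eq_of_mul_eq_mul_right pc e3
  have e5 : (centralizer (B : Set G)).relIndex N =
      (centralizer (B' : Set G)).relIndex N * (centralizer (B : Set G)).relIndex V := by
    rw [← hE, h5]
    exact le_antisymm (e1.trans e2) h4
  refine ⟨e4, ?_⟩
  set D := N ⊓ centralizer (B : Set G) with hD
  set E := N ⊓ centralizer (B' : Set G) with hE'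
  have hVE : V ≤ E := le_inf hVN fun v hv => mem_centralizer_iff.2 fun b hb =>
    (mem_centralizer_iff.1 hb.2 v hv).symm
  have hDE : D ≤ E := inf_le_inf_left _ (centralizer_le inf_le_left)
  have f1 : D.relIndex N = (centralizer (B : Set G)).relIndex N := inf_relIndex_left _ _
  have f2 : E.relIndex N = (centralizer (B' : Set G)).relIndex N := inf_relIndex_left _ _
  have f3 : D.relIndex V = (centralizer (B : Set G)).relIndex V := by
    rw [← inf_relIndex_right D, ← inf_relIndex_right (centralizer (B : Set G)), hD, inf_comm N, inf_assoc,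
      inf_eq_right.2 hVN]
  have f4 := relIndex_mul_relIndex D E N hDE inf_le_left
  rw [f1, f2, e5, mul_comm] at f4
  have f5 : D.relIndex E = D.relIndex V := by
    rw [f3]
    exact Nat.eq_of_mul_eq_mul_left pe f4
  have f6 := relIndex_mul_relIndex D (V ⊔ D) E le_sup_right (sup_le hVE hDE)
  have f7 : D.relIndex V ≤ D.relIndex (V ⊔ D) := relIndex_le_of_le_right le_sup_left index_ne_zero_of_finite
  have f8 := rel_pos D (V ⊔ D)
  have f9 : (V ⊔ D).relIndex E ≤ 1 := by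
    have f10 : D.relIndex (V ⊔ D) * (V ⊔ D).relIndex E ≤ D.relIndex (V ⊔ D) * 1 := by
      rw [f6, f5, mul_one]
      exact f7
    exact Nat.le_of_mul_le_mul_left f10 f8
  have f11 := rel_pos (V ⊔ D) E
  exact relIndex_eq_one.1 (by omega)

/-- a single vector -/
theorem nob_zpowers {x c : G} {B : Subgroup G} (hcc : c * c = 1) (hcB : ∀ b ∈ B, b * c = c * b)
    (h : ∀ b ∈ B, b * x * b⁻¹ = x ∨ b * x * b⁻¹ = x * c) : Nob (zpowers x) B := by
  by_cases hB : B ≤ centralizer ((zpowers x : Subgroup G) : Set G)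
  · exact nob_of_le hB
  unfold Nob
  have h1 : (centralizer (B : Set G)).relIndex (zpowers x) ≠ 1 := by
    intro e
    exact hB (comm_symm (relIndex_eq_one.1 e))
  have h2 := rel_pos (centralizer (B : Set G)) (zpowers x)
  have hmem : ∀ b : G, b ∈ centralizer ((zpowers x : Subgroup G) : Set G) ↔ b * x * b⁻¹ = x := by
    intro b
    rw [mem_centralizer_iff]
    constructor
    · intro e
      rw [← e x (mem_zpowers x)]; group
    · rintro e _ ⟨n, rfl⟩
      have e' : Commute x b := by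
        calc x * b = (b * x * b⁻¹) * b := by rw [e]
          _ = b * x := by group
      exact (e'.zpow_left n).eq
  have h3 : (centralizer ((zpowers x : Subgroup G) : Set G)).relIndex B = 2 := by
    obtain ⟨b₀, hb₀, hb₀x⟩ := SetLike.not_le_iff_exists.1 hB
    rw [relIndex_eq_two_iff]
    refine ⟨b₀, hb₀, fun b hb => ?_⟩
    rw [hmem, hmem]
    have e0 : b₀ * x * b₀⁻¹ = x * c := (h b₀ hb₀).resolve_left fun e => hb₀x ((hmem _).2 e)
    have e1 : b * b₀ * x * (b * b₀)⁻¹ = b * (x * c) * b⁻¹ := by rw [← e0]; group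
    have e2 : b * (x * c) * b⁻¹ = b * x * b⁻¹ * c := by
      calc b * (x * c) * b⁻¹ = b * x * (c * b⁻¹) := by group
        _ = b * x * (b⁻¹ * c) := by
            have := hcB _ (inv_mem hb)
            rw [this]
        _ = b * x * b⁻¹ * c := by group
    have hc1 : c ≠ 1 := by
      rintro rfl
      rw [mul_one] at e0
      exact hb₀x ((hmem _).2 e0)
    rcases h b hb with e | e
    · refine Or.inr ⟨e, ?_⟩
      rw [e1, e2, e]
      intro e'
      exact hc1 (mul_eq_left.1 e')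
    · refine Or.inl ⟨?_, ?_⟩
      · rw [e1, e2, e, mul_assoc, hcc, mul_one]
      · rw [e]
        intro e'
        exact hc1 (mul_eq_left.1 e')
  omega

/-- `[X, Q] ≤ ⟨c⟩` of order two: `|B : C_B(X)| ≤ |X : C_X(B)|`. -/
theorem nob_two {X Q : Subgroup G} {c : G} (hcc : c * c = 1) (hcQ : ∀ b ∈ Q, b * c = c * b)
    (h : ∀ x ∈ X, ∀ b ∈ Q, b * x * b⁻¹ = x ∨ b * x * b⁻¹ = x * c) {B : Subgroup G} (hB : IsElementaryAbelian 2 B)
    (hBQ : B ≤ Q) : Nob X B := by
  refine no_sup (ι := X) (N := fun x => zpowers (x : G)) (M := X) (Q := Q) (fun x => ?_) (fun x hx => ?_) ?_ B hB hBQ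
  · rw [zpowers_le]
    exact x.2
  · exact mem_iSup_of_mem (⟨x, hx⟩ : X) (mem_zpowers x)
  · intro x B _ hBQ
    exact nob_zpowers hcc (fun b hb => hcQ b (hBQ hb)) fun b hb => h x x.2 b (hBQ hb)

/-- elements of `V D` -/
theorem exists_mul_of_comm {V D : Subgroup G} (h : V ≤ centralizer (D : Set G)) {x : G} (hx : x ∈ V ⊔ D) :
    ∃ v ∈ V, ∃ d ∈ D, v * d = x := by
  have h1 : x ∈ ((V ⊔ D : Subgroup G) : Set G) := hx
  rw [coe_mul_of_left_le_normalizer_right V D (h.trans (centralizer_le_normalizer _))] at h1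
  obtain ⟨v, hv, d, hd, e⟩ := Set.mem_mul.mp h1
  exact ⟨v, hv, d, hd, e⟩

/-- The groups `X_a`. -/
structure XF (Z : Fin 2 → Subgroup G) (X : Subgroup G → Subgroup G) : Prop where
  conj : ∀ (g : G) (a : Subgroup G), IsPt Z a → X (MulAut.conj g • a) = MulAut.conj g • X a
  NX : ∀ a : Subgroup G, IsPt Z a → NN Z a ≤ X a
  aX : ∀ a : Subgroup G, IsPt Z a → a ≤ X a
  XQ : ∀ a : Subgroup G, IsPt Z a → X a ≤ QQ a
  eab : ∀ a : Subgroup G, IsPt Z a → IsElementaryAbelian 2 (X a)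
  com : ∀ a : Subgroup G, IsPt Z a → ∀ x ∈ X a, ∀ y ∈ QQ a, x * y * x⁻¹ * y⁻¹ ∈ a

/-- `Y_a = ⟨X_u : u ~ a⟩` -/
def YY (Z : Fin 2 → Subgroup G) (X : Subgroup G → Subgroup G) (a : Subgroup G) : Subgroup G :=
  ⨆ u : {u : Subgroup G // Adj Z a u}, X u

/-- THEOREM G: `C_{H_a}(X_a/N_a)` centralises `N_a`. -/
def ThmG (Z : Fin 2 → Subgroup G) (X : Subgroup G → Subgroup G) : Prop :=
  ∀ a : Subgroup G, IsPt Z a → ∀ g ∈ HH a, (∀ x ∈ X a, x * g * x⁻¹ * g⁻¹ ∈ NN Z a) →
    g ∈ centralizer (NN Z a : Set G)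

omit [Finite G] in
theorem MM_conj {Z : Fin 2 → Subgroup G} (g : G) (a : Subgroup G) :
    MM Z (MulAut.conj g • a) = MulAut.conj g • MM Z a := by
  have key : ∀ (g : G) (a : Subgroup G), MM Z (MulAut.conj g • a) ≤ MulAut.conj g • MM Z a := by
    intro g a
    refine iSup_le ?_
    rintro ⟨u, hu⟩
    have h1 : Adj Z a (MulAut.conj g⁻¹ • u) := by
      have h2 := hu.conj g⁻¹
      rwa [inv_conj_conj] at h2
    have h2 : NN Z (MulAut.conj g⁻¹ • u) ≤ MM Z a :=
      le_iSup (fun u : {u : Subgroup G // Adj Z a u} => NN Z u) ⟨_, h1⟩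
    have h3 := conj_le_iff (g := g) |>.2 h2
    rwa [← NN_conj, conj_inv_conj] at h3
  refine le_antisymm (key g a) ?_
  have h1 := key g⁻¹ (MulAut.conj g • a)
  rw [inv_conj_conj] at h1
  have h2 := conj_le_iff (g := g) |>.2 h1
  rwa [conj_inv_conj] at h2

section main

variable {Z U : Fin 2 → Subgroup G} (P : PP Z U) {X : Subgroup G → Subgroup G} (F : XF Z X)
  (hX : ∀ m ≤ 2, ∀ a b : Subgroup G, Pth Z m a b → X a ≤ centralizer (X b : Set G))
  (hc2 : Nat.card (Z 0) = 2)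

omit [Finite G] in
/-- points of order two -/
theorem pt_two {Z : Fin 2 → Subgroup G} (hc2 : Nat.card (Z 0) = 2) {a : Subgroup G} (ha : IsPt Z a) :
    ∃ c ∈ a, c ≠ 1 ∧ c * c = 1 ∧ (∀ x ∈ a, x = 1 ∨ x = c) ∧ ∀ b ∈ HH a, b * c = c * b := by
  have h2 : Nat.card a = 2 := by
    obtain ⟨k, rfl⟩ := ha
    exact (ZN.ChoiceBase.card_cj k _).trans hc2
  obtain ⟨c, hc, hcu⟩ := (Nat.card_eq_two_iff' (1 : a)).1 h2
  have hall : ∀ x ∈ a, x = 1 ∨ x = (c : G) := by
    intro x hx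
    by_cases e : x = 1
    · exact Or.inl e
    · exact Or.inr (congrArg Subtype.val (hcu ⟨x, hx⟩ fun e' => e (congrArg Subtype.val e')))
  have hc1 : (c : G) ≠ 1 := fun e => hc (Subtype.ext e)
  refine ⟨c, c.2, hc1, ?_, hall, fun b hb => ?_⟩
  · rcases hall _ (mul_mem c.2 c.2) with e | e
    · exact e
    · exact absurd (mul_eq_left.1 e) hc1
  · have h3 : b * (c : G) * b⁻¹ ∈ a := (mem_normalizer_iff.1 hb c).1 c.2
    rcases hall _ h3 with e | e
    · exact absurd (conj_eq_one_iff.1 e) hc1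
    · calc b * (c : G) = (b * c * b⁻¹) * b := by group
        _ = c * b := by rw [e]

omit [Finite G] in
theorem pt_inf {Z : Fin 2 → Subgroup G} (hc2 : Nat.card (Z 0) = 2) {a b : Subgroup G} (ha : IsPt Z a)
    (hb : IsPt Z b) (hne : a ≠ b) {x : G} (hxa : x ∈ a) (hxb : x ∈ b) : x = 1 := by
  by_contra hx
  obtain ⟨c, hc, -, -, hca, -⟩ := pt_two hc2 ha
  obtain ⟨d, hd, -, -, hdb, -⟩ := pt_two hc2 hb
  have e1 := (hca x hxa).resolve_left hx
  have e2 := (hdb x hxb).resolve_left hx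
  apply hne
  ext y
  constructor
  · intro hy
    rcases hca y hy with e | e
    · rw [e]; exact one_mem _
    · rw [e, ← e1]; exact hxb
  · intro hy
    rcases hdb y hy with e | e
    · rw [e]; exact one_mem _
    · rw [e, ← e2]; exact hxa

include hc2 F in
/-- `(NO)` for `Q_a` on `X_a` -/
theorem nobX {a B : Subgroup G} (ha : IsPt Z a) (hB : IsElementaryAbelian 2 B) (hBQ : B ≤ QQ a) : Nob (X a) B := by
  obtain ⟨c, hc, hc1, hcc, hall, hcH⟩ := pt_two hc2 ha
  refine nob_two (Q := QQ a) hcc (fun b hb => hcH b (MinSimple.VModule.o2_le _ hb)) (fun x hx b hb => ?_) hB hBQ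
  have hXX := (eab_iff.1 (F.eab a ha)).1
  have h1 := F.com a ha x hx b hb
  rcases hall _ h1 with e | e
  · refine Or.inl ?_
    have e2 : x * b = b * x := by
      calc x * b = (x * b * x⁻¹ * b⁻¹) * (b * x) := by group
        _ = b * x := by rw [e, one_mul]
    rw [← e2]; group
  · refine Or.inr ?_
    have hxc : c * x = x * c := (mem_centralizer_iff.1 (hXX (F.aX a ha hc)) x hx).symm
    have e2 : x * b = c * (b * x) := by
      calc x * b = (x * b * x⁻¹ * b⁻¹) * (b * x) := by group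
        _ = c * (b * x) := by rw [e]
    have e3 : b * x = c * (x * b) := by
      rw [e2, ← mul_assoc, hcc, one_mul]
    rw [e3, mul_assoc, mul_assoc, mul_inv_cancel, mul_one, hxc]

include P F hX

omit [Finite G] in
theorem hC : ∀ m ≤ 2, ∀ a b : Subgroup G, Pth Z m a b → Com Z a b := fun m hm a b h =>
  ((F.NX a (PP.pth_pt h)).trans (hX m hm a b h)).trans (centralizer_le (F.NX b (P.pth_pt' h)))

/-- `X_x ≤ Q_c` at distance `≤ 2` -/
theorem X_le_QQ : ∀ m ≤ 2, ∀ x c : Subgroup G, Pth Z m x c → X x ≤ QQ c := by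
  intro m
  induction m with
  | zero =>
    intro _ x c hx
    cases hx with
    | zero h0 => exact F.XQ _ h0
  | succ m ih =>
    intro hm x c hx
    have h1 := hX _ hm x c hx
    have hcp := P.pth_pt' hx
    cases hx with
    | succ h2 h3 =>
      exact P.f3 (P.adj_symm h3) (ih (by omega) _ _ h2) (h1.trans (centralizer_le (F.NX _ hcp)))

omit P F hX in
theorem X_le_YY {a u : Subgroup G} (h : Adj Z a u) : X u ≤ YY Z X a :=
  le_iSup (fun u : {u : Subgroup G // Adj Z a u} => X u) ⟨u, h⟩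

theorem YY_comm {a : Subgroup G} : YY Z X a ≤ centralizer (YY Z X a : Set G) := by
  refine iSup_le fun u => comm_symm (iSup_le fun v => ?_)
  exact hX 2 le_rfl _ _ (Pth.succ (PP.pth_one (P.adj_symm v.2)) u.2)

theorem YY_eab {a : Subgroup G} : IsElementaryAbelian 2 (YY Z X a) := by
  rw [eab_iff]
  refine ⟨YY_comm P F hX, NoFF.Lines.Geo.sq_of_comm (YY_comm P F hX) (ι := {u : Subgroup G // Adj Z a u})
    (B := fun u => X u) (fun u => X_le_YY u.2) le_rfl fun u => (eab_iff.1 (F.eab _ (P.adj_pt u.2))).2⟩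

theorem YY_le_QQ {a : Subgroup G} : YY Z X a ≤ QQ a :=
  iSup_le fun u => X_le_QQ P F hX 1 (by omega) _ _ (PP.pth_one (P.adj_symm u.2))

theorem YY_le_QQ' {a b : Subgroup G} (h : Adj Z a b) : YY Z X a ≤ QQ b :=
  iSup_le fun u => X_le_QQ P F hX 2 (by omega) _ _ (Pth.succ (PP.pth_one (P.adj_symm u.2)) h)

theorem MM_le_YY {a : Subgroup G} : MM Z a ≤ YY Z X a :=
  iSup_le fun u => (F.NX _ (P.adj_pt u.2)).trans (X_le_YY u.2)

theorem NN_le_YY {a : Subgroup G} : NN Z a ≤ YY Z X a :=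
  sSup_le fun _ hu => (F.aX _ (P.adj_pt hu)).trans (X_le_YY hu)

/-- `C_{Q_a}(M_a) ≤ Q_u` -/
theorem cent_MM_le {a u B : Subgroup G} (h : Adj Z a u) (hB : B ≤ QQ a) (hBM : B ≤ centralizer (MM Z a : Set G)) :
    B ≤ QQ u :=
  P.f3 (P.adj_symm h) hB (hBM.trans (centralizer_le (NN_le_MM P (hC P F hX) h)))

include hc2

/-- `(NO)` for `C_{Q_a}(M_a)` on `Y_a` -/
theorem nobY0 {a B : Subgroup G} (hB : IsElementaryAbelian 2 B) (hBQ : B ≤ QQ a)
    (hBM : B ≤ centralizer (MM Z a : Set G)) : Nob (YY Z X a) B := by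
  refine no_sup (ι := {u : Subgroup G // Adj Z a u}) (N := fun u => X u) (M := YY Z X a)
    (Q := QQ a ⊓ centralizer (MM Z a : Set G)) (fun u => X_le_YY u.2) le_rfl (fun u B hB hBQ => ?_) B hB (le_inf hBQ hBM)
  exact nobX F hc2 (P.adj_pt u.2) hB (cent_MM_le P F hX u.2 (hBQ.trans inf_le_left) (hBQ.trans inf_le_right))

variable (hNO : NoP Z)
include hNO

/-- `(NO)` for `Q_a` on `Y_a` -/
theorem nobY1 {a B : Subgroup G} (hB : IsElementaryAbelian 2 B) (hBQ : B ≤ QQ a) : Nob (YY Z X a) B :=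
  nob_of (MM_le_YY P F hX) (MM_no P (hC P F hX) hNO hB hBQ)
    (nobY0 P F hX hc2 (eab_mono hB inf_le_left) (inf_le_left.trans hBQ) inf_le_right)

/-- `(NO)` for `Q_b` on `Y_a`, `a ~ b` -/
theorem nobY2 {a b B : Subgroup G} (h : Adj Z a b) (hB : IsElementaryAbelian 2 B) (hBQ : B ≤ QQ b) :
    Nob (YY Z X a) B :=
  nob_of (NN_le_YY P F hX) (hNO b a (P.adj_symm h) B hB hBQ)
    (nobY1 P F hX hc2 hNO (eab_mono hB inf_le_left) (P.f3 h (inf_le_left.trans hBQ) inf_le_right))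

theorem nobT1 {a B : Subgroup G} (ha : IsPt Z a) (hB : IsElementaryAbelian 2 B) (hBQ : B ≤ QQ a) :
    Nob (MM Z a ⊔ NN Z a) B :=
  nob_of le_sup_left (MM_no P (hC P F hX) hNO hB hBQ) (nob_of_le (comm_symm (sup_le (comm_symm inf_le_right)
    (comm_symm (inf_le_left.trans (hBQ.trans (P.QQ_le_cent ha)))))))

theorem nobT2 {a b B : Subgroup G} (h : Adj Z a b) (hB : IsElementaryAbelian 2 B) (hBQ : B ≤ QQ b) :
    Nob (MM Z a ⊔ NN Z a) B :=
  nob_of le_sup_right (hNO b a (P.adj_symm h) B hB hBQ)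
    (nobT1 P F hX hc2 hNO h.pt (eab_mono hB inf_le_left) (P.f3 h (inf_le_left.trans hBQ) inf_le_right))

/-- `AA Q` for `Q ≥ Y` : exact on `Y_a` -/
theorem exaY {a A Q : Subgroup G} (hYQ : YY Z X a ≤ Q) (hA : A ∈ AA Q) (h : Nob (YY Z X a) A) :
    Exa (YY Z X a) A :=
  (swp (YY_eab P F hX) hYQ hA h).1

/-- the element `g` of TEXT R5 (4) (a) -/
def Sep (Z : Fin 2 → Subgroup G) (X : Subgroup G → Subgroup G) (a u : Subgroup G) : Prop :=
  ∃ g ∈ QQ a, g ∈ centralizer (MM Z a : Set G) ∧ (∀ p : Subgroup G, Adj Z a p → p ≠ u →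
    g ∈ centralizer (X p : Set G)) ∧ g ∉ centralizer (X u : Set G)

omit P F hX hc2 hNO [Finite G] in
theorem mem_cent_conj {g x : G} {A : Subgroup G} :
    g * x * g⁻¹ ∈ centralizer ((MulAut.conj g • A : Subgroup G) : Set G) ↔ x ∈ centralizer (A : Set G) := by
  constructor
  · intro h
    refine mem_centralizer_iff.2 fun y hy => ?_
    have h1 : g * y * g⁻¹ ∈ ((MulAut.conj g • A : Subgroup G) : Set G) := ⟨y, hy, rfl⟩
    have h2 := mem_centralizer_iff.1 h _ h1
    have h3 : g * (y * x) * g⁻¹ = g * (x * y) * g⁻¹ := by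
      calc g * (y * x) * g⁻¹ = g * y * g⁻¹ * (g * x * g⁻¹) := by group
        _ = g * x * g⁻¹ * (g * y * g⁻¹) := h2
        _ = _ := by group
    exact mul_left_cancel (mul_right_cancel h3)
  · intro h
    refine mem_centralizer_iff.2 ?_
    rintro _ ⟨y, hy, rfl⟩
    have h2 := mem_centralizer_iff.1 h y hy
    change g * y * g⁻¹ * (g * x * g⁻¹) = g * x * g⁻¹ * (g * y * g⁻¹)
    calc g * y * g⁻¹ * (g * x * g⁻¹) = g * (y * x) * g⁻¹ := by group
      _ = g * (x * y) * g⁻¹ := by rw [h2]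
      _ = _ := by group

omit [Finite G] hX hc2 hNO in
theorem Sep.conj {a u : Subgroup G} (hau : Adj Z a u) (h : Sep Z X a u) (k : G) :
    Sep Z X (MulAut.conj k • a) (MulAut.conj k • u) := by
  obtain ⟨g, hg, hgM, hgX, hgu⟩ := h
  refine ⟨k * g * k⁻¹, ?_, ?_, fun p hp hne => ?_, ?_⟩
  · rw [QQ_conj]
    exact ⟨g, hg, rfl⟩
  · rw [MM_conj, mem_cent_conj]
    exact hgM
  · have h1 : Adj Z a (MulAut.conj k⁻¹ • p) := by
      have h2 := hp.conj k⁻¹
      rwa [inv_conj_conj] at h2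
    have h2 : MulAut.conj k⁻¹ • p ≠ u := by
      rintro rfl
      exact hne (conj_inv_conj k p).symm
    have h3 := hgX _ h1 h2
    rw [← mem_cent_conj (g := k), ← F.conj k _ (P.adj_pt h1), conj_inv_conj] at h3
    exact h3
  · rw [F.conj k _ (P.adj_pt hau), mem_cent_conj]
    exact hgu

omit P F hX hc2 hNO [Finite G] in
theorem not_le_iSup {ι : Sort*} {N : ι → Subgroup G} {B : Subgroup G}
    (h : ¬ B ≤ centralizer ((⨆ i, N i : Subgroup G) : Set G)) : ∃ i, ¬ B ≤ centralizer (N i : Set G) := by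
  by_contra hcon
  push Not at hcon
  exact h (comm_symm (iSup_le fun i => comm_symm (hcon i)))

variable (hG : ThmG Z X)

include hG in
/-- some `B ∈ AA Q_a` centralises `M_a` and moves `Y_a` -/
theorem exists_B (hne : jj (QQ (Z 0)) ≠ ⊥) {a u₀ : Subgroup G} (h₀ : Adj Z a u₀) :
    ∃ B ∈ AA (QQ a), B ≤ centralizer (MM Z a : Set G) ∧ ¬ B ≤ centralizer (YY Z X a : Set G) := by
  obtain ⟨B, hB⟩ := exists_minA_MM P (hC P F hX) hne h₀
  obtain ⟨⟨u, hau⟩, hu⟩ := not_le_iSup hB.mov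
  replace hu : ¬ B ≤ centralizer (NN Z u : Set G) := hu
  obtain ⟨h1, -, -, -, -⟩ := hB.nbr P (hC P F hX) hNO hau hu
  obtain ⟨-, -, h2, -⟩ := exact P (hC1 P (hC P F hX)) hNO hau hB.mem
  refine ⟨_, h2, sup_le h1 ((NN_le_MM P (hC P F hX) hau).trans (MM_comm P (hC P F hX))), fun hcon => ?_⟩
  -- `C_B(N_u)` centralises `X_u`
  have h3 : B ⊓ centralizer (NN Z u : Set G) ≤ centralizer (X u : Set G) :=
    (le_sup_left.trans hcon).trans (centralizer_le (X_le_YY hau))
  obtain ⟨-, h4⟩ := exa_peel (N := YY Z X a) (V := NN Z u) (B := B)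
    ((F.NX _ (P.adj_pt hau)).trans (X_le_YY hau))
    (exaY P F hX hc2 hNO (YY_le_QQ P F hX) hB.mem (nobY1 P F hX hc2 hNO hB.mem.1 hB.mem.2.1))
    (hNO a u hau B hB.mem.1 hB.mem.2.1)
    (nobY1 P F hX hc2 hNO (eab_mono hB.mem.1 inf_le_left) (inf_le_left.trans hB.mem.2.1))
  apply hu
  intro g hg
  have hgu : g ∈ HH u := P.QQ_le_HH (P.adj_symm hau) (hB.mem.2.1 hg)
  refine hG u (P.adj_pt hau) g hgu fun x hx => ?_
  have h5 : x ∈ YY Z X a ⊓ centralizer ((B ⊓ centralizer (NN Z u : Set G) : Subgroup G) : Set G) :=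
    ⟨X_le_YY hau hx, mem_centralizer_iff.2 fun b hb => (mem_centralizer_iff.1 (h3 hb) x hx).symm⟩
  obtain ⟨n, hn, y, hy, rfl⟩ := exists_mul_of_comm (V := NN Z u) (D := YY Z X a ⊓ centralizer (B : Set G))
    (((F.NX _ (P.adj_pt hau)).trans (X_le_YY hau)).trans ((YY_comm P F hX).trans (centralizer_le inf_le_left))) (h4 h5)
  have e1 : g * y = y * g := mem_centralizer_iff.1 hy.2 g hg
  have e2 : n * y * g * (n * y)⁻¹ * g⁻¹ = n * (g * n⁻¹ * g⁻¹) := by
    calc n * y * g * (n * y)⁻¹ * g⁻¹ = n * (y * g) * y⁻¹ * n⁻¹ * g⁻¹ := by group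
      _ = n * (g * y) * y⁻¹ * n⁻¹ * g⁻¹ := by rw [e1]
      _ = _ := by group
  rw [e2]
  exact mul_mem hn ((mem_normalizer_iff.1 (PP.HH_le_NN u hgu) _).1 (inv_mem hn))

include hG in
/-- **(a)** -/
theorem sep (hne : jj (QQ (Z 0)) ≠ ⊥) {a u : Subgroup G} (h : Adj Z a u) : Sep Z X a u := by
  obtain ⟨B, hB, hBM, hBY⟩ := exists_B P F hX hc2 hNO hG hne h
  set Q' := QQ a ⊓ centralizer (MM Z a : Set G) with hQ'
  have hBQ' : B ∈ AA Q' := ⟨hB.1, le_inf hB.2.1 hBM, fun D hD hDQ => hB.2.2 D hD (hDQ.trans inf_le_left)⟩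
  obtain ⟨C, hCm⟩ := exists_minA hBQ' hBY
  obtain ⟨⟨u', hau'⟩, hu'⟩ := not_le_iSup hCm.mov
  replace hu' : ¬ C ≤ centralizer (X u' : Set G) := hu'
  have hCQ : C ≤ QQ a := hCm.mem.2.1.trans inf_le_left
  have hCM : C ≤ centralizer (MM Z a : Set G) := hCm.mem.2.1.trans inf_le_right
  have hCu : ∀ p, Adj Z a p → C ≤ QQ p := fun p hp => cent_MM_le P F hX hp hCQ hCM
  have hYQ' : YY Z X a ≤ Q' :=
    le_inf (YY_le_QQ P F hX) ((YY_comm P F hX).trans (centralizer_le (MM_le_YY P F hX)))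
  obtain ⟨-, -, -, h4⟩ := hCm.cap (YY_eab P F hX) hYQ' (X_le_YY hau') hu'
    (nobX F hc2 (P.adj_pt hau') hCm.mem.1 (hCu _ hau'))
  obtain ⟨g, hgC, hgu⟩ := SetLike.not_le_iff_exists.1 hu'
  have h5 : Sep Z X a u' := by
    refine ⟨g, hCQ hgC, hCM hgC, fun p hp hne' => ?_, hgu⟩
    refine mem_centralizer_iff.2 fun x hx => ?_
    have h6 : x * g * x⁻¹ * g⁻¹ ∈ u' := by
      obtain ⟨v, hv, e⟩ := h4 x (X_le_YY hp hx) g hgC
      rw [e]
      exact F.com u' (P.adj_pt hau') v hv g (hCu _ hau' hgC)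
    have h7 : x * g * x⁻¹ * g⁻¹ ∈ p := F.com p (P.adj_pt hp) x hx g (hCu _ hp hgC)
    have h8 := pt_inf hc2 (P.adj_pt hp) (P.adj_pt hau') hne' h7 h6
    calc x * g = (x * g * x⁻¹ * g⁻¹) * (g * x) := by group
      _ = g * x := by rw [h8, one_mul]
  -- all pairs are conjugate
  obtain ⟨k, hk0, hk1⟩ := hau'
  obtain ⟨l, hl0, hl1⟩ := h
  have h9 := h5.conj P F ⟨k, hk0, hk1⟩ (l * k⁻¹)
  have e : ∀ A B C : Subgroup G, A = MulAut.conj k • C → B = MulAut.conj l • C → MulAut.conj (l * k⁻¹) • A = B := by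
    rintro _ _ C rfl rfl
    rw [conj_conj, inv_mul_cancel_right]
  rwa [e _ _ _ hk0 hl0, e _ _ _ hk1 hl1] at h9

include hG in
/-- **TEXT R5 (4)**: least distance at least three is impossible. -/
theorem false_of_three (hne : jj (QQ (Z 0)) ≠ ⊥) : False := by
  have h0 : IsPt Z (Z 0) := ⟨1, by rw [map_one, one_smul]⟩
  have hab : Adj Z (Z 0) (Z 1) := ⟨1, by rw [map_one, one_smul], by rw [map_one, one_smul]⟩
  obtain ⟨A, hA, hmov⟩ := moves P hne (P.adj_symm hab)
  set a := Z 0 with ha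
  set b := Z 1 with hb
  obtain ⟨u, hau, hu⟩ : ∃ u : Subgroup G, Adj Z a u ∧ ¬ A ≤ centralizer (u : Set G) := by
    by_contra hcon
    push Not at hcon
    exact hmov (comm_symm (sSup_le fun u hu => comm_symm (hcon u hu)))
  obtain ⟨x, hxA, hxu⟩ := SetLike.not_le_iff_exists.1 hu
  have hAab := (eab_iff.1 hA.1).1
  have hAa : A ≤ HH a := hA.2.1.trans (P.QQ_le_HH hab)
  have hxa : MulAut.conj x • a = a := Cfsg.Agent.Omega.NOThreeL.Pair.conj_eq_of_mem (hAa hxA)
  set u' := MulAut.conj x • u with hu'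
  have hau' : Adj Z a u' := by
    have h1 := hau.conj x
    rwa [hxa] at h1
  have hupt := P.adj_pt hau
  have hne' : u' ≠ u := by
    intro e
    apply hxu
    have h1 : x ∈ HH u := by
      refine ChoiceBase.mem_normalizer_iff_cj.2 ?_
      exact e
    obtain ⟨c, hc, -, -, hall, hcH⟩ := pt_two hc2 hupt
    refine mem_centralizer_iff.2 fun y hy => ?_
    rcases hall y hy with e | e
    · rw [e, one_mul, mul_one]
    · rw [e]; exact (hcH x h1).symm
  obtain ⟨g, hgQ, hgM, hgX, hgu⟩ := sep P F hX hc2 hNO hG hne hau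
  set T := MM Z a ⊔ NN Z a with hT
  have hTY : T ≤ YY Z X a := sup_le (MM_le_YY P F hX) (NN_le_YY P F hX)
  set AM := A ⊓ centralizer (T : Set G) with hAM
  have hAMQ : AM ≤ QQ a := P.f3 hab (inf_le_left.trans hA.2.1) (inf_le_right.trans (centralizer_le (le_sup_right : NN Z a ≤ T)))
  have hAMe : IsElementaryAbelian 2 AM := eab_mono hA.1 inf_le_left
  have hAMM : AM ≤ centralizer (MM Z a : Set G) := inf_le_right.trans (centralizer_le (le_sup_left : MM Z a ≤ T))
  have hAMu : ∀ p, Adj Z a p → AM ≤ QQ p := fun p hp => cent_MM_le P F hX hp hAMQ hAMM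
  have hE := exaY P F hX hc2 hNO (YY_le_QQ' P F hX hab) hA (nobY2 P F hX hc2 hNO hab hA.1 hA.2.1)
  obtain ⟨h1, h2⟩ := exa_peel hTY hE (nobT2 P F hX hc2 hNO hab hA.1 hA.2.1) (nobY1 P F hX hc2 hNO hAMe hAMQ)
  obtain ⟨-, h3⟩ := exa_peel (X_le_YY hau) h1 (nobX F hc2 hupt hAMe (hAMu _ hau))
    (nobY1 P F hX hc2 hNO (eab_mono hAMe inf_le_left) (inf_le_left.trans hAMQ))
  have hYc := YY_comm P F hX (a := a)
  have hXu' : X u' = MulAut.conj x • X u := F.conj x u hupt
  -- `A_M` centralises `X_u'`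
  have h4 : AM ≤ centralizer (X u' : Set G) := by
    intro y hy
    refine mem_centralizer_iff.2 fun s hs => ?_
    have h5 : s ∈ YY Z X a ⊓ centralizer ((AM ⊓ centralizer (X u : Set G) : Subgroup G) : Set G) := by
      refine ⟨X_le_YY hau' hs, mem_centralizer_iff.2 fun w hw => ?_⟩
      rw [hXu'] at hs
      obtain ⟨t, ht, rfl⟩ := hs
      have e1 : x * w = w * x := mem_centralizer_iff.1 (hAab hw.1.1) x hxA
      have e2 : t * w = w * t := mem_centralizer_iff.1 hw.2 t ht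
      change w * (x * t * x⁻¹) = x * t * x⁻¹ * w
      have e3 : x⁻¹ * w = w * x⁻¹ := mem_centralizer_iff.1 (hAab hw.1.1) x⁻¹ (inv_mem hxA)
      calc w * (x * t * x⁻¹) = (w * x) * t * x⁻¹ := by group
        _ = x * (w * t) * x⁻¹ := by rw [← e1]; group
        _ = x * t * (w * x⁻¹) := by rw [← e2]; group
        _ = x * t * x⁻¹ * w := by rw [← e3]; group
    obtain ⟨v, hv, w, hw, rfl⟩ := exists_mul_of_comm (V := X u)
      (D := YY Z X a ⊓ centralizer (AM : Set G)) ((X_le_YY hau).trans (hYc.trans (centralizer_le inf_le_left))) (h3 h5)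
    have e1 : y * w = w * y := mem_centralizer_iff.1 hw.2 y hy
    have e2 : v * w * y * (v * w)⁻¹ * y⁻¹ = v * y * v⁻¹ * y⁻¹ := by
      calc v * w * y * (v * w)⁻¹ * y⁻¹ = v * (w * y) * w⁻¹ * v⁻¹ * y⁻¹ := by group
        _ = v * (y * w) * w⁻¹ * v⁻¹ * y⁻¹ := by rw [e1]
        _ = _ := by group
    have h6 : v * w * y * (v * w)⁻¹ * y⁻¹ ∈ u := by
      rw [e2]
      exact F.com u hupt v hv y (hAMu _ hau hy)
    have h7 : v * w * y * (v * w)⁻¹ * y⁻¹ ∈ u' := F.com u' (P.adj_pt hau') _ hs y (hAMu _ hau' hy)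
    have h8 := pt_inf hc2 (P.adj_pt hau') hupt hne' h7 h6
    calc v * w * y = (v * w * y * (v * w)⁻¹ * y⁻¹) * (y * (v * w)) := by group
      _ = y * (v * w) := by rw [h8, one_mul]
  -- `A_M` centralises `X_u`
  have h5 : AM ≤ centralizer (X u : Set G) := by
    intro y hy
    have e1 : x * y * x⁻¹ = y := by
      have : x * y = y * x := mem_centralizer_iff.1 (hAab hy.1) x hxA
      rw [this]; group
    have h6 := h4 hy
    rw [hXu', ← e1, mem_cent_conj] at h6
    exact h6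
  -- `X_u ≤ T X_u'`
  apply hgu
  refine mem_centralizer_iff.2 fun s hs => ?_
  have hgT : g ∈ centralizer (T : Set G) := by
    have h6 : T ≤ centralizer ({g} : Set G) := by
      refine sup_le (fun t ht => ?_) fun t ht => ?_
      · rw [mem_centralizer_singleton_iff]
        exact mem_centralizer_iff.1 hgM t ht
      · rw [mem_centralizer_singleton_iff]
        exact mem_centralizer_iff.1 (P.QQ_le_cent h0 hgQ) t ht
    exact mem_centralizer_iff.2 fun t ht => mem_centralizer_singleton_iff.1 (h6 ht)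
  have hxT : ∀ t ∈ T, x * t * x⁻¹ ∈ T := by
    intro t ht
    have h6 : MulAut.conj x • T = T := by
      rw [hT, Subgroup.smul_sup, ← MM_conj, ← NN_conj, hxa]
    rw [← h6]
    exact ⟨t, ht, rfl⟩
  obtain ⟨t, ht, c, hc, rfl⟩ := exists_mul_of_comm (V := T) (D := YY Z X a ⊓ centralizer (A : Set G))
    (hTY.trans (hYc.trans (centralizer_le inf_le_left)))
    (h2 ⟨X_le_YY hau hs, mem_centralizer_iff.2 fun y hy => (mem_centralizer_iff.1 (h5 hy) s hs).symm⟩)
  have e1 : x * c = c * x := mem_centralizer_iff.1 hc.2 x hxA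
  have e2 : x * (t * c) * x⁻¹ = x * t * x⁻¹ * c := by
    calc x * (t * c) * x⁻¹ = x * t * x⁻¹ * (x * c) * x⁻¹ := by group
      _ = x * t * x⁻¹ * (c * x) * x⁻¹ := by rw [e1]
      _ = x * t * x⁻¹ * c := by group
  have k1 : t ∈ centralizer ({g} : Set G) := by
    rw [mem_centralizer_singleton_iff]
    exact mem_centralizer_iff.1 hgT t ht
  have k2 : x * t * x⁻¹ ∈ centralizer ({g} : Set G) := by
    rw [mem_centralizer_singleton_iff]
    exact mem_centralizer_iff.1 hgT _ (hxT t ht)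
  have k3 : x * t * x⁻¹ * c ∈ centralizer ({g} : Set G) := by
    rw [mem_centralizer_singleton_iff, ← e2]
    refine mem_centralizer_iff.1 (hgX u' hau' hne') _ ?_
    rw [hXu']
    exact ⟨_, hs, rfl⟩
  have k4 : c ∈ centralizer ({g} : Set G) := by
    have := mul_mem (inv_mem k2) k3
    rwa [inv_mul_cancel_left] at this
  exact mem_centralizer_singleton_iff.1 (mul_mem k1 k4)

end main

/-! ### The groups `X_a = W_a N_a` -/

/-- `X_a = W_a N_a` -/
def XW (Z U : Fin 2 → Subgroup G) (a : Subgroup G) : Subgroup G :=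
  NN Z a ⊔ ⨆ l : {l : Subgroup G // LnOn Z U a l}, (l : Subgroup G)

section XW

variable {Z U : Fin 2 → Subgroup G}

omit [Finite G] in
theorem XW_conj (g : G) (a : Subgroup G) : XW Z U (MulAut.conj g • a) = MulAut.conj g • XW Z U a := by
  have key : ∀ (g : G) (a : Subgroup G), XW Z U (MulAut.conj g • a) ≤ MulAut.conj g • XW Z U a := by
    intro g a
    refine sup_le ?_ (iSup_le ?_)
    · rw [NN_conj]
      exact conj_le_iff.2 le_sup_left
    · rintro ⟨l, hl⟩
      have h1 : LnOn Z U a (MulAut.conj g⁻¹ • l) := by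
        have h2 := hl.conj g⁻¹
        rwa [inv_conj_conj] at h2
      have h2 : MulAut.conj g⁻¹ • l ≤ XW Z U a :=
        (le_iSup (fun l : {l : Subgroup G // LnOn Z U a l} => (l : Subgroup G)) ⟨_, h1⟩).trans le_sup_right
      have h3 := conj_le_iff (g := g) |>.2 h2
      rwa [conj_inv_conj] at h3
  refine le_antisymm (key g a) ?_
  have h1 := key g⁻¹ (MulAut.conj g • a)
  rw [inv_conj_conj] at h1
  have h2 := conj_le_iff (g := g) |>.2 h1
  rwa [conj_inv_conj] at h2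

omit [Finite G] in
theorem ln_le_XW {a l : Subgroup G} (h : LnOn Z U a l) : l ≤ XW Z U a :=
  (le_iSup (fun l : {l : Subgroup G // LnOn Z U a l} => (l : Subgroup G)) ⟨_, h⟩).trans le_sup_right

omit [Finite G] in
theorem eab_conj {A : Subgroup G} (h : IsElementaryAbelian 2 A) (g : G) :
    IsElementaryAbelian 2 (MulAut.conj g • A : Subgroup G) := by
  rw [eab_iff] at *
  refine ⟨conj_le_centralizer h.1, ?_⟩
  rintro _ ⟨x, hx, rfl⟩
  change (g * x * g⁻¹) ^ 2 = 1
  rw [conj_pow, h.2 x hx, mul_one, mul_inv_cancel]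

omit [Finite G] in
/-- The axioms of `X_a` for `W_a N_a`. -/
theorem xf (P : PP Z U) (hab : IsElementaryAbelian 2 (XW Z U (Z 0))) (hle : XW Z U (Z 0) ≤ QQ (Z 0)) :
    XF Z (XW Z U) := by
  have h0 : IsPt Z (Z 0) := ⟨1, by rw [map_one, one_smul]⟩
  have hl0 : LnOn Z U (Z 0) (U 0) := ⟨1, by rw [map_one, one_smul], by rw [map_one, one_smul]⟩
  refine ⟨fun g a _ => XW_conj g a, fun a _ => le_sup_left, ?_, ?_, ?_, ?_⟩
  · rintro _ ⟨k, rfl⟩
    rw [XW_conj]
    exact conj_le_iff.2 (P.ZU.trans (ln_le_XW hl0))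
  · rintro _ ⟨k, rfl⟩
    rw [XW_conj, QQ_conj]
    exact conj_le_iff.2 hle
  · rintro _ ⟨k, rfl⟩
    rw [XW_conj]
    exact eab_conj hab k
  · intro a ha x hx y hy
    have hXX : XW Z U a ≤ centralizer (XW Z U a : Set G) := by
      obtain ⟨k, rfl⟩ := ha
      rw [XW_conj]
      exact (eab_iff.1 (eab_conj hab k)).1
    have haX : a ≤ XW Z U a := by
      obtain ⟨k, rfl⟩ := ha
      rw [XW_conj]
      exact conj_le_iff.2 (P.ZU.trans (ln_le_XW hl0))
    let K : Subgroup G :=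
      { carrier := {x | x ∈ XW Z U a ∧ x * y * x⁻¹ * y⁻¹ ∈ a}
        one_mem' := ⟨one_mem _, by simp⟩
        mul_mem' := by
          rintro x₁ x₂ ⟨h1, h2⟩ ⟨h3, h4⟩
          refine ⟨mul_mem h1 h3, ?_⟩
          have e1 := mem_centralizer_iff.1 (hXX h1) _ (haX h4)
          have e2 : x₁ * x₂ * y * (x₁ * x₂)⁻¹ * y⁻¹ =
              x₂ * y * x₂⁻¹ * y⁻¹ * (x₁ * y * x₁⁻¹ * y⁻¹) := by
            calc x₁ * x₂ * y * (x₁ * x₂)⁻¹ * y⁻¹ =
                x₁ * (x₂ * y * x₂⁻¹ * y⁻¹) * (y * x₁⁻¹ * y⁻¹) := by group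
              _ = (x₂ * y * x₂⁻¹ * y⁻¹) * x₁ * (y * x₁⁻¹ * y⁻¹) := by rw [← e1]
              _ = _ := by group
          rw [e2]
          exact mul_mem h4 h2
        inv_mem' := by
          rintro x₁ ⟨h1, h2⟩
          refine ⟨inv_mem h1, ?_⟩
          have e1 := mem_centralizer_iff.1 (hXX (inv_mem h1)) _ (haX (inv_mem h2))
          have e2 : x₁⁻¹ * y * x₁⁻¹⁻¹ * y⁻¹ = (x₁ * y * x₁⁻¹ * y⁻¹)⁻¹ := by
            calc x₁⁻¹ * y * x₁⁻¹⁻¹ * y⁻¹ = x₁⁻¹ * (x₁ * y * x₁⁻¹ * y⁻¹)⁻¹ * x₁ := by group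
              _ = (x₁ * y * x₁⁻¹ * y⁻¹)⁻¹ * x₁⁻¹ * x₁ := by rw [e1]
              _ = _ := by group
          rw [e2]
          exact inv_mem h2 }
    have h1 : XW Z U a ≤ K := by
      refine sup_le (fun n hn => ⟨mem_sup_left hn, ?_⟩) (iSup_le fun l x hx => ⟨ln_le_XW l.2 hx, ?_⟩)
      · have e := mem_centralizer_iff.1 (P.QQ_le_cent ha hy) n hn
        rw [e]
        simp
      · exact P.comm_mem l.2 hx hy
    exact (h1 hx).2

/-- `J(Q_a) ≠ 1` -/
theorem jj_ne (P : PP Z U) : jj (QQ (Z 0)) ≠ ⊥ := by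
  have h0 : IsPt Z (Z 0) := ⟨1, by rw [map_one, one_smul]⟩
  have h01 : Adj Z (Z 0) (Z 1) := ⟨1, by rw [map_one, one_smul], by rw [map_one, one_smul]⟩
  intro e
  obtain ⟨A, hA⟩ := AA_nonempty (QQ (Z 0))
  have h1 : A = ⊥ := by
    rw [eq_bot_iff, ← e]
    exact ChoiceBase.le_jj hA
  have h2 := NN_le P h0 hA
  rw [h1] at h2
  have h3 : Z 1 = ⊥ := le_bot_iff.1 (h01.le_NN.trans h2)
  obtain ⟨s, hs0, -, -, -⟩ := P.swap
  apply P.ne
  have h4 : MulAut.conj s • Z 0 ≤ MulAut.conj s • (⊥ : Subgroup G) := by rw [hs0, h3]; exact bot_le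
  exact le_bot_iff.1 (conj_le_iff.1 h4)

/-- **TEXT R5 (4), for `X_a = W_a N_a`.** -/
theorem far (P : PP Z U) (hab : IsElementaryAbelian 2 (XW Z U (Z 0))) (hle : XW Z U (Z 0) ≤ QQ (Z 0))
    (hc2 : Nat.card (Z 0) = 2) (hNO : NoP Z) (hG : ThmG Z (XW Z U)) :
    ∃ d a b, d ≤ 1 ∧ Pth Z (d + 1) a b ∧ ¬ XW Z U a ≤ centralizer (XW Z U b : Set G) ∧
      ∀ m ≤ d, ∀ a b, Pth Z m a b → XW Z U a ≤ centralizer (XW Z U b : Set G) := by
  classical
  have F := xf P hab hle
  have hex : ∃ n ≤ 2, ∃ a b, Pth Z n a b ∧ ¬ XW Z U a ≤ centralizer (XW Z U b : Set G) := by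
    by_contra hcon
    push Not at hcon
    exact false_of_three P F hcon hc2 hNO hG (jj_ne P)
  obtain ⟨n, ⟨hn2, a, b, hab', hne⟩, hmin⟩ : ∃ n, (n ≤ 2 ∧ ∃ a b, Pth Z n a b ∧
      ¬ XW Z U a ≤ centralizer (XW Z U b : Set G)) ∧
      ∀ m < n, ¬ (m ≤ 2 ∧ ∃ a b, Pth Z m a b ∧ ¬ XW Z U a ≤ centralizer (XW Z U b : Set G)) :=
    ⟨Nat.find hex, Nat.find_spec hex, fun m hm => Nat.find_min hex hm⟩
  have hn : n ≠ 0 := by
    rintro rfl
    cases hab' with
    | zero h => exact hne (eab_iff.1 (F.eab _ h)).1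
  obtain ⟨d, rfl⟩ := Nat.exists_eq_succ_of_ne_zero hn
  refine ⟨d, a, b, by omega, hab', hne, fun m hm a b h => ?_⟩
  by_contra h1
  exact hmin m (by omega) ⟨by omega, a, b, h, h1⟩

end XW

end Cfsg.Agent.Omega.OM.PG.Peel
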