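import Cfsg.Agent.Omega.OM.PG.PcQ
import Cfsg.Agent.Omega.OmThm.GrpGeo

/-!
# (E), radical, PURE TRANSVECTIONS, every level (THEOREM PC, after helper925's `PtGeo`, `TBig`)

`Z 0 ≤ N_1`, `[N_a, N_u] = 1` for `a ~ u`: then `X_u` (`= W_u N_u`) centralises `N_a` (`pcK`; `gg_of` without radical).  No FIX, no LEMMA 0, no
irreducibility, all `q`.  Inputs: TI, `Sur`, `Pts`, `|U 0| = |Z 0|²`, and

* `CoreP Z` : `J ⊴ H_1`, `y² ∈ C(N_1)` for `y ∈ J` : `J` centralises `N_1`.

`false_of_zeroK` : the pair `(Z 0, Z 1)` is not critical if `[N_1, N_2] = 1`.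
-/

set_option autoImplicit false
set_option linter.unusedSectionVars false

namespace Cfsg.Agent.Omega.OM.PG.PcK

open Subgroup Cfsg
open Cfsg.Agent.ZN Cfsg.Agent.Omega.OM.PG.Peel Cfsg.Agent.Omega.OM.PG.PeelQ Cfsg.Agent.Omega.OM.PG.ExactQ
open Cfsg.Agent.Omega.OM.PG.PcQ
open Cfsg.Agent.Omega.NO3S.EThree Cfsg.Agent.Omega.NO3S.EThree.ExactA
open Cfsg.Agent.Omega.NoFF.Basic (comm_symm conj_conj conj_le_iff)
open Cfsg.Agent.Omega.OmThm.Grp (GG LnG)
open scoped Pointwise

universe u

variable {G : Type u} [Group G]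

/-- `O_2(H_1 / C(N_1)) = 1`, for squares -/
def CoreP (Z : Fin 2 → Subgroup G) : Prop :=
  ∀ J : Subgroup G, J ≤ HH (Z 0) → HH (Z 0) ≤ normalizer (J : Set G) →
    (∀ y ∈ J, y * y ∈ centralizer (NN Z (Z 0) : Set G)) → J ≤ centralizer (NN Z (Z 0) : Set G)

/-- a line of `N_a` through one of its points is a line on that point -/
theorem ln_of_le {Z U : Fin 2 → Subgroup G} (P : PP Z U) {k m : G} (h : MulAut.conj m • Z 0 ≤ MulAut.conj k • U 1) :
    LnOn Z U (MulAut.conj m • Z 0) (MulAut.conj k • U 1) := by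
  obtain ⟨s, h0, h1, h2, h3⟩ := P.swap
  have h4 : MulAut.conj ((k * s)⁻¹ * m) • Z 0 ≤ U 0 := by
    rw [← h2, conj_conj] at h
    have h5 := conj_le_iff (g := (k * s)⁻¹) |>.2 h
    rwa [conj_conj, inv_conj_conj] at h5
  obtain ⟨l, hl0, hl1, hl2, -⟩ := P.tr _ h4
  refine ⟨k * s * l, ?_, ?_⟩
  · rw [← conj_conj (k * s) l, hl0, conj_conj, mul_inv_cancel_left]
  · rw [← conj_conj (k * s) l, hl2, ← conj_conj k s, h2]

section main

variable [Finite G] {Z U : Fin 2 → Subgroup G} (P : PP Z U)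
include P

/-- If `X_u` moves `N_1`, then `N_1` with its points and the `X_p` is a `GG` (no radical needed). -/
theorem gg_of (F : XF Z (XW Z U)) (hcom : ∀ a u : Subgroup G, Adj Z a u → Com Z a u) (hti : TIp Z) (hS : Sur Z U)
    (hpts : Pts Z U) (hcard : Nat.card (U 0) = Nat.card (Z 0) * Nat.card (Z 0)) (hcore : CoreP Z)
    {u : Subgroup G} (hu : Adj Z (Z 0) u) (hmov : ¬ XW Z U u ≤ centralizer (NN Z (Z 0) : Set G)) :
    GG (NN Z (Z 0)) {p | Adj Z (Z 0) p} (XW Z U) (Nat.card (Z 0)) := by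
  have h0 : IsPt Z (Z 0) := ⟨1, by rw [map_one, one_smul]⟩
  set X := XW Z U with hXdef
  set N := NN Z (Z 0) with hN
  set Pt : Set (Subgroup G) := {p | Adj Z (Z 0) p} with hPt
  have hNe := eab_iff.1 (NN_eab P h0)
  have hNQ : ∀ p, Adj Z (Z 0) p → N ≤ QQ p := fun p hp =>
    P.f3 (P.adj_symm hp) (P.NN_le_QQ h0) (hcom _ _ hp)
  have hXa : ∀ p, Adj Z (Z 0) p → X p ≤ centralizer (Z 0 : Set G) := fun p hp =>
    (F.XQ p (P.adj_pt hp)).trans (P.QQ_le_cent_of_adj hp)
  have hXH : ∀ p, Adj Z (Z 0) p → X p ≤ HH (Z 0) := fun p hp => (hXa p hp).trans (centralizer_le_normalizer _)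
  have hw0 : ∀ p, Adj Z (Z 0) p → ∀ w ∈ X p, MulAut.conj w • Z 0 = Z 0 := fun p hp w hw =>
    Cfsg.Agent.Omega.NOThreeL.Pair.conj_eq_of_mem (hXH p hp hw)
  have hmv : ∀ p ∈ Pt, ∀ w ∈ X p, ∀ x ∈ Pt, MulAut.conj w • x ∈ Pt := by
    intro p hp w hw x hx
    have h1 := Adj.conj hx w
    rw [hw0 p hp w hw] at h1
    exact h1
  have hXX : ∀ p, Adj Z (Z 0) p → ∀ x ∈ X p, ∀ y ∈ X p, x * y = y * x := fun p hp x hx y hy =>
    mem_centralizer_iff.1 ((eab_iff.1 (F.eab p (P.adj_pt hp))).1 hy) x hx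
  -- all pairs are conjugate
  have hcx : ∀ p ∈ Pt, ∃ k : G, MulAut.conj k • Z 0 = Z 0 ∧ MulAut.conj k • N = N ∧ MulAut.conj k • X u = X p := by
    intro p hp
    obtain ⟨k, hk, rfl⟩ := hu
    obtain ⟨l, hl, rfl⟩ := hp
    have h1 : IsPt Z (Z 1) := P.adj_pt ⟨1, by rw [map_one, one_smul], by rw [map_one, one_smul]⟩
    have e1 : MulAut.conj (l * k⁻¹) • Z 0 = Z 0 := by
      calc MulAut.conj (l * k⁻¹) • Z 0 = MulAut.conj (l * k⁻¹) • (MulAut.conj k • Z 0) := by rw [← hk]
        _ = MulAut.conj l • Z 0 := by rw [conj_conj, inv_mul_cancel_right]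
        _ = Z 0 := hl.symm
    refine ⟨l * k⁻¹, e1, by rw [hN, ← NN_conj, e1], ?_⟩
    rw [F.conj k _ h1, F.conj l _ h1, conj_conj, inv_mul_cancel_right]
  -- the killed vectors
  set Y : Subgroup G := ⨆ p : {p : Subgroup G // Adj Z (Z 0) p}, X p with hY
  have hYle : ∀ p, Adj Z (Z 0) p → X p ≤ Y := fun p hp =>
    le_iSup (fun p : {p : Subgroup G // Adj Z (Z 0) p} => X p) ⟨p, hp⟩
  have hYc : Y ≤ centralizer (Z 0 : Set G) := iSup_le fun p => hXa p p.2
  have hYH : Y ≤ HH (Z 0) := hYc.trans (centralizer_le_normalizer _)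
  have hHY : HH (Z 0) ≤ normalizer (Y : Set G) := by
    have key : ∀ g ∈ HH (Z 0), MulAut.conj g • Y ≤ Y := by
      intro g hg
      have hg0 : MulAut.conj g • Z 0 = Z 0 := Cfsg.Agent.Omega.NOThreeL.Pair.conj_eq_of_mem hg
      have h1 : Y ≤ MulAut.conj g⁻¹ • Y := by
        refine iSup_le fun p => ?_
        have h2 : Adj Z (Z 0) (MulAut.conj g • (p : Subgroup G)) := by
          have := p.2.conj g
          rwa [hg0] at this
        have h3 := conj_le_iff (g := g⁻¹) |>.2 (hYle _ h2)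
        rwa [F.conj g _ (P.adj_pt p.2), inv_conj_conj] at h3
      have h2 := conj_le_iff (g := g) |>.2 h1
      rwa [conj_inv_conj] at h2
    intro g hg
    refine ChoiceBase.mem_normalizer_iff_cj.2 (le_antisymm (key g hg) ?_)
    have h2 := conj_le_iff (g := g) |>.2 (key g⁻¹ (inv_mem hg))
    rwa [conj_inv_conj] at h2
  set K : Subgroup G := N ⊓ centralizer (Y : Set G) with hK
  have hKH : HH (Z 0) ≤ normalizer (K : Set G) :=
    NO3L.LemP.le_normalizer_inf (PP.HH_le_NN _) (hHY.trans (NO3L.LemP.normalizer_le_normalizer_cent Y))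
  have hNH : HH (Z 0) ≤ normalizer (N : Set G) := PP.HH_le_NN _
  -- the group acting trivially on `N / K` and `K`
  let J : Subgroup G :=
    { carrier := {g | g ∈ HH (Z 0) ∧ (∀ n ∈ N, g * n * g⁻¹ * n⁻¹ ∈ K) ∧ ∀ k ∈ K, g * k = k * g}
      one_mem' := ⟨one_mem _, fun n _ => by simp, fun k _ => by rw [one_mul, mul_one]⟩
      mul_mem' := by
        rintro g g' ⟨h1, h2, h3⟩ ⟨h4, h5, h6⟩
        refine ⟨mul_mem h1 h4, fun n hn => ?_, fun k hk => ?_⟩
        · have e : g * g' * n * (g * g')⁻¹ * n⁻¹ = g * (g' * n * g'⁻¹ * n⁻¹) * g⁻¹ * (g * n * g⁻¹ * n⁻¹) := by group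
          rw [e]
          exact mul_mem ((mem_normalizer_iff.1 (hKH h1) _).1 (h5 n hn)) (h2 n hn)
        · rw [mul_assoc, h6 k hk, ← mul_assoc, h3 k hk, mul_assoc]
      inv_mem' := by
        rintro g ⟨h1, h2, h3⟩
        refine ⟨inv_mem h1, fun n hn => ?_, fun k hk => ?_⟩
        · have hn' : g⁻¹ * n * g ∈ N := by
            have := (mem_normalizer_iff.1 (hNH (inv_mem h1)) n).1 hn
            rwa [inv_inv] at this
          have h4 := h2 _ hn'
          have e : g⁻¹ * n * g⁻¹⁻¹ * n⁻¹ = (g * (g⁻¹ * n * g) * g⁻¹ * (g⁻¹ * n * g)⁻¹)⁻¹ := by group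
          rw [e]
          exact inv_mem h4
        · have h4 := h3 k hk
          calc g⁻¹ * k = g⁻¹ * (k * g) * g⁻¹ := by group
            _ = g⁻¹ * (g * k) * g⁻¹ := by rw [h4]
            _ = k * g⁻¹ := by group }
  have hJH : J ≤ HH (Z 0) := fun g hg => hg.1
  have hHJ : HH (Z 0) ≤ normalizer (J : Set G) := by
    have key : ∀ x ∈ HH (Z 0), ∀ g ∈ J, x * g * x⁻¹ ∈ J := by
      rintro x hx g ⟨h1, h2, h3⟩
      refine ⟨mul_mem (mul_mem hx h1) (inv_mem hx), fun n hn => ?_, fun k hk => ?_⟩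
      · have hn' : x⁻¹ * n * x ∈ N := by
          have := (mem_normalizer_iff.1 (hNH (inv_mem hx)) n).1 hn
          rwa [inv_inv] at this
        have h4 := (mem_normalizer_iff.1 (hKH hx) _).1 (h2 _ hn')
        have e : x * (g * (x⁻¹ * n * x) * g⁻¹ * (x⁻¹ * n * x)⁻¹) * x⁻¹ = x * g * x⁻¹ * n * (x * g * x⁻¹)⁻¹ * n⁻¹ := by
          group
        rwa [e] at h4
      · have hk' : x⁻¹ * k * x ∈ K := by
          have := (mem_normalizer_iff.1 (hKH (inv_mem hx)) k).1 hk
          rwa [inv_inv] at this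
        have h4 := h3 _ hk'
        calc x * g * x⁻¹ * k = x * (g * (x⁻¹ * k * x)) * x⁻¹ := by group
          _ = x * (x⁻¹ * k * x * g) * x⁻¹ := by rw [h4]
          _ = k * (x * g * x⁻¹) := by group
    intro x hx
    rw [mem_normalizer_iff]
    intro g
    refine ⟨key x hx g, fun h => ?_⟩
    have h1 := key x⁻¹ (inv_mem hx) _ h
    have e : x⁻¹ * (x * g * x⁻¹) * x⁻¹⁻¹ = g := by group
    rwa [e] at h1
  have hJN : J ≤ centralizer (N : Set G) := by
    refine hcore J hJH hHJ ?_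
    rintro g ⟨-, h2, h3⟩
    refine mem_centralizer_iff.2 fun n hn => ?_
    have hk := h2 n hn
    have e1 := h3 _ hk
    have e2 := hNe.2 _ hk.1
    rw [pow_two] at e2
    set k := g * n * g⁻¹ * n⁻¹ with hkdef
    have e3 : g * n * g⁻¹ = k * n := by rw [hkdef]; group
    have e4 : g * g * n * (g * g)⁻¹ = n := by
      calc g * g * n * (g * g)⁻¹ = g * (g * n * g⁻¹) * g⁻¹ := by group
        _ = (g * k) * n * g⁻¹ := by rw [e3]; group
        _ = k * (g * n * g⁻¹) := by rw [e1]; group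
        _ = (k * k) * n := by rw [e3]; group
        _ = n := by rw [e2, one_mul]
    calc n * (g * g) = (g * g * n * (g * g)⁻¹) * (g * g) := by rw [e4]
      _ = g * g * n := by group
  exact
    { comm := fun x hx y hy => mem_centralizer_iff.1 (hNe.1 hy) x hx
      sq := fun x hx => by rw [← pow_two]; exact hNe.2 x hx
      le := fun p hp => Adj.le_NN hp
      card := by
        intro p hp
        obtain ⟨k, rfl⟩ := P.adj_pt hp
        exact ZN.ChoiceBase.card_cj k _
      ti := by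
        intro p hp x hx v hvp hvx hv1
        by_contra hne
        exact hv1 (ti_one hti (P.adj_pt hp) (P.adj_pt hx) hne hvp hvx)
      XN := fun p hp w hw v hv => F.com p (P.adj_pt hp) w hw v (hNQ p hp hv)
      Xp := fun p hp w hw v hv => hXX p hp w hw v (F.aX p (P.adj_pt hp) hv)
      mv := hmv
      Xc := fun p hp w hw x hx => F.conj w x (P.adj_pt hx)
      cardT := by
        have key : ∀ p ∈ Pt, (centralizer (N : Set G)).relIndex (X p) = (centralizer (N : Set G)).relIndex (X u) := by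
          intro p hp
          obtain ⟨k, -, hkN, hkX⟩ := hcx p hp
          have e1 : MulAut.conj k • centralizer (N : Set G) = centralizer (N : Set G) := by
            have e2 : MulAut.conj k • centralizer (N : Set G) = centralizer ((MulAut.conj k • N : Subgroup G) : Set G) :=
              ZN.ChoiceBase.cj_centralizer k _
            rw [e2, hkN]
          rw [← hkX]
          conv_lhs => rw [← e1]
          rw [relIndex_pointwise_smul]
        intro p hp x hx
        rw [key p hp, key x hx]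
      span := le_rfl
      q2 := by
        have h1 : Nat.card (Z 0) ≠ 1 := fun h => P.ne (Subgroup.card_eq_one.1 h)
        have h2 : 0 < Nat.card (Z 0) := Nat.card_pos
        omega
      sur := by
        intro p hp w hw b hb hne z hz
        -- some line on `p` does not centralise `b`
        obtain ⟨l, hl, hbl⟩ : ∃ l, LnOn Z U p l ∧ b ∉ centralizer (l : Set G) := by
          by_contra hcon
          push Not at hcon
          apply hne
          have h1 : XW Z U p ≤ centralizer ({b} : Set G) := by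
            refine sup_le (fun n hn => ?_) (iSup_le fun l n hn => ?_)
            · exact mem_centralizer_singleton_iff.2 (mem_centralizer_iff.1 ((hcom _ _ hp) hb) n hn)
            · exact mem_centralizer_singleton_iff.2 (mem_centralizer_iff.1 (hcon l l.2) n hn)
          exact mem_centralizer_singleton_iff.1 (h1 hw)
        obtain ⟨w', hw', e⟩ := hS.ln hl (hNQ p hp hb) hbl hz
        exact ⟨w', ln_le_XW hl hw', e⟩
      o2 := by
        intro x hx z hz w hw w' hw' h n hn
        have h1 : w' * w ∈ Y := mul_mem (hYle z hz hw') (hYle x hx hw)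
        have h2 : w' * w ∈ J := by
          refine ⟨hYH h1, fun n hn => ?_, fun k hk => ?_⟩
          · refine ⟨N.mul_mem ((mem_normalizer_iff.1 (hNH (hYH h1)) n).1 hn) (N.inv_mem hn), ?_⟩
            have h3 : Y ≤ centralizer ({w' * w * n * (w' * w)⁻¹ * n⁻¹} : Set G) := iSup_le fun r y hy =>
              mem_centralizer_singleton_iff.2 (h n hn r r.2 y hy)
            exact mem_centralizer_iff.2 fun y hy => mem_centralizer_singleton_iff.1 (h3 hy)
          · exact mem_centralizer_iff.1 hk.2 _ h1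
        exact (mem_centralizer_iff.1 (hJN h2) n hn).symm
      line := by
        obtain ⟨s, hs0, hs1, hs2, hs3⟩ := P.swap
        rintro _ ⟨k, hk, rfl⟩
        have hV : MulAut.conj k • U 1 = MulAut.conj (k * s) • U 0 := by rw [← hs2, conj_conj]
        have hZV : MulAut.conj k • Z 1 ≤ MulAut.conj k • U 1 := by
          refine conj_le_iff.2 ?_
          rw [← hs0, ← hs2]
          exact conj_le_iff.2 P.ZU
        have hcov : ∀ v ∈ (MulAut.conj k • U 1 : Subgroup G), v ≠ 1 → ∃ p ∈ Pt, p ≤ MulAut.conj k • U 1 ∧ v ∈ p := by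
          intro y hy hy1
          have hy' := hy
          rw [hV] at hy'
          obtain ⟨y0, hy0, rfl⟩ := hy'
          obtain ⟨m, hm, hym⟩ := hpts y0 hy0 (fun e => hy1 (by rw [e]; exact map_one _))
          have h1 : MulAut.conj (k * s * m) • Z 0 ≤ MulAut.conj k • U 1 := by
            rw [hV, ← conj_conj]
            exact conj_le_iff.2 hm
          refine ⟨MulAut.conj (k * s * m) • Z 0, ?_, h1, ?_⟩
          · have h2 := adj_of_line P h1
            rwa [← hk] at h2
          · rw [← conj_conj]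
            exact ⟨y0, hym, rfl⟩
        have hVN : MulAut.conj k • U 1 ≤ N := by
          intro v hv
          by_cases hv1 : v = 1
          · rw [hv1]; exact one_mem _
          obtain ⟨p, hp, -, hvp⟩ := hcov v hv hv1
          exact Adj.le_NN hp hvp
        have hcV : Nat.card (MulAut.conj k • U 1 : Subgroup G) = Nat.card (Z 0) * Nat.card (Z 0) := by
          rw [hV, ← hcard]
          exact ZN.ChoiceBase.card_cj _ _
        have hcp : ∀ p ∈ Pt, Nat.card p = Nat.card (Z 0) := by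
          intro p hp
          obtain ⟨k, rfl⟩ := P.adj_pt hp
          exact ZN.ChoiceBase.card_cj k _
        refine ⟨MulAut.conj k • U 1, hZV, ⟨hVN, hcov, ?_, ?_, ?_⟩⟩
        · rintro p hp hpV x hx hxV
          obtain ⟨m, rfl⟩ := P.adj_pt hp
          have h1 := ln_le_XW (ln_of_le P hpV)
          exact (eab_iff.1 (F.eab _ ⟨m, rfl⟩)).1.trans (centralizer_le (hxV.trans h1))
        · intro p hp hpV x hx hxV hne
          have hdis : p ⊓ x = ⊥ := hti p x (P.adj_pt hp) (P.adj_pt hx) hne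
          have hcomm : p ≤ centralizer (x : Set G) := ((Adj.le_NN hp).trans hNe.1).trans (centralizer_le (Adj.le_NN hx))
          have h1 := Cfsg.Agent.Omega.NO3S.ML.card_sup_mul_of_comm fun a ha b hb =>
            (mem_centralizer_iff.1 (hcomm ha) b hb).symm
          rw [hdis, Subgroup.card_bot, mul_one, hcp p hp, hcp x hx] at h1
          exact (Subgroup.eq_of_le_of_card_ge (sup_le hpV hxV) (by rw [hcV, h1])).ge
        · intro p hp hpV
          have h1 : ¬ MulAut.conj k • U 1 ≤ p := by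
            intro h
            have h2 := Subgroup.card_le_of_le h
            rw [hcV, hcp p hp] at h2
            have h3 : Nat.card (Z 0) ≠ 1 := fun h => P.ne (Subgroup.card_eq_one.1 h)
            have h4 : 0 < Nat.card (Z 0) := Nat.card_pos
            nlinarith [Nat.lt_of_le_of_ne h4 (Ne.symm h3)]
          obtain ⟨v, hv, hvp⟩ := SetLike.not_le_iff_exists.1 h1
          obtain ⟨x, hx, hxV, hvx⟩ := hcov v hv fun e => hvp (e ▸ one_mem _)
          exact ⟨x, hx, hxV, fun e => hvp (e ▸ hvx)⟩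
      mov := by
        intro p hp hcon
        obtain ⟨k, -, hkN, hkX⟩ := hcx p hp
        apply hmov
        rw [← hkX, ← hkN] at hcon
        have h1 := Cfsg.Agent.Omega.NoFF.Basic.conj_le_centralizer (g := k⁻¹) hcon
        rwa [inv_conj_conj, inv_conj_conj] at h1 }

/-- **PC.** -/
theorem pcK (F : XF Z (XW Z U)) (hcom : ∀ a u : Subgroup G, Adj Z a u → Com Z a u) (hti : TIp Z) (hS : Sur Z U)
    (hpts : Pts Z U) (hcard : Nat.card (U 0) = Nat.card (Z 0) * Nat.card (Z 0)) (hcore : CoreP Z)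
    (hrad : Z 0 ≤ NN Z (Z 0)) {u : Subgroup G} (hu : Adj Z (Z 0) u) :
    XW Z U u ≤ centralizer (NN Z (Z 0) : Set G) := by
  by_contra hmov
  obtain ⟨z, hz, hz1⟩ : ∃ z ∈ Z 0, z ≠ 1 := by
    by_contra hcon
    push Not at hcon
    exact P.ne ((eq_bot_iff_forall _).2 hcon)
  exact hz1 ((gg_of P F hcom hti hS hpts hcard hcore hu hmov).eq_one (hrad hz) fun p hp w hw =>
    (mem_centralizer_iff.1 (((F.XQ p (P.adj_pt hp)).trans (P.QQ_le_cent_of_adj hp)) hw) z hz).symm)

/-- The same for all adjacent points. -/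
theorem pcK' (F : XF Z (XW Z U)) (hcom : ∀ a u : Subgroup G, Adj Z a u → Com Z a u) (hti : TIp Z) (hS : Sur Z U)
    (hpts : Pts Z U) (hcard : Nat.card (U 0) = Nat.card (Z 0) * Nat.card (Z 0)) (hcore : CoreP Z)
    (hrad : Z 0 ≤ NN Z (Z 0)) {a u : Subgroup G} (hu : Adj Z a u) :
    XW Z U u ≤ centralizer (NN Z a : Set G) := by
  obtain ⟨k, rfl, rfl⟩ := hu
  have h1 : Adj Z (Z 0) (Z 1) := ⟨1, by rw [map_one, one_smul], by rw [map_one, one_smul]⟩
  rw [F.conj k _ (P.adj_pt h1), NN_conj]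
  exact Cfsg.Agent.Omega.NoFF.Basic.conj_le_centralizer
    (pcK P F hcom hti hS hpts hcard hcore hrad h1)

/-- **PC: the pair `(Z 0, Z 1)` is not critical** (radical, `[N_1, N_2] = 1`). -/
theorem false_of_zeroK (F : XF Z (XW Z U))
    (hN : NobX Z (XW Z U)) (hNO : NoP Z) (hG : ExactQ.TA Z (XW Z U)) (hS : Sur Z U)
    (hcom : ∀ a u : Subgroup G, Adj Z a u → Com Z a u) (hti : TIp Z)
    (hpts : Pts Z U) (hcard : Nat.card (U 0) = Nat.card (Z 0) * Nat.card (Z 0)) (hcore : CoreP Z)
    (hrad : Z 0 ≤ NN Z (Z 0)) (h : CX Z (XW Z U) 0 (Z 0) (Z 1)) : False := by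
  have h1 : Adj Z (Z 0) (Z 1) := ⟨1, by rw [map_one, one_smul], by rw [map_one, one_smul]⟩
  obtain ⟨-, m, hm, l, hl, hml⟩ := redQ P F hN hti hNO hG hS h
  apply hml
  have h2 : XW Z U (Z 0) ≤ centralizer (NN Z (Z 1) : Set G) :=
    pcK' P F hcom hti hS hpts hcard hcore hrad (P.adj_symm h1)
  exact (comm_symm ((ln_le_XW hl).trans h2)) hm.1

end main

end Cfsg.Agent.Omega.OM.PG.PcK
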