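import Cfsg.Agent.Omega.OM.PG.Base

/-!
# Distance at least 2, no radical (helper609, TEXT R2 (2), TEXT R3 (2))

`NR Z U` : the outcome of (PST) in the case without radical, for the types `SL_n(q)` (`n ≥ 3`) and `Sp_2n(q)`
(`n ≥ 2`), any number of components:
* `unq` : an exact offender determines its point;
* `pnt` : every element `≠ 1` of `[N_a, N_b]` lies in a common neighbour;
* `p1` : the polar space axiom, `p2` : `N_a` is generated by the lines meeting `u^⊥ - u`.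

* `NR.false_of_far` : no noncommuting pair at least distance `≥ 2`.
-/

set_option autoImplicit false
set_option linter.unusedSectionVars false

namespace Cfsg.Agent.Omega.OM.PG

open Subgroup Cfsg Cfsg.Agent.ZN Cfsg.Agent.Omega.MinPar
open Cfsg.Agent.Omega.NoFF.Basic (conj_conj mem_conj conj_le_iff conj_le_centralizer comm_symm comm_mono)
open Cfsg.Agent.Omega.NOThreeL.Pair (conj_eq_of_mem)
open Cfsg.Agent.MinSimple.VModule (le_normalizer_o2 le_o2 o2_le o2_isPGroup)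
open scoped Pointwise

universe u

variable {G : Type u} [Group G]

/-- An exact offender determines its point: `N_a ≤ Q_r ∩ Q_r'`, `r, r' ~ b`, `N_b ≤ Q_{r₂}`, `r₂ ~ a`, and `N_a`, `N_b`
do not commute: `r = r'`. -/
def Unq (Z : Fin 2 → Subgroup G) : Prop :=
  ∀ a b r r' r₂ : Subgroup G, Adj Z r b → Adj Z r' b → Adj Z r₂ a → NN Z a ≤ QQ r → NN Z a ≤ QQ r' →
    NN Z b ≤ QQ r₂ → ¬ Com Z a b → r = r'

/-- Every element `≠ 1` of `[N_a, N_b]` lies in a common neighbour of `a` and `b`. -/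
def Pnt (Z : Fin 2 → Subgroup G) : Prop :=
  ∀ a b r r₂ : Subgroup G, Adj Z r b → Adj Z r₂ a → NN Z a ≤ QQ r → NN Z b ≤ QQ r₂ → ¬ Com Z a b →
    ∀ x ∈ ⁅NN Z a, NN Z b⁆, x ≠ 1 → ∃ p, x ∈ p ∧ Adj Z p a ∧ Adj Z p b

/-- The outcome of (PST) without radical. -/
structure NR (Z U : Fin 2 → Subgroup G) : Prop where
  unq : Unq Z
  pnt : Pnt Z
  /-- collinear points are not adjacent -/
  nadj : ∀ u y l : Subgroup G, LnOn Z U u l → IsPt Z y → y ≤ l → ¬ Adj Z u y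
  /-- different points on a line meet trivially -/
  ti : ∀ u y l : Subgroup G, LnOn Z U u l → IsPt Z y → y ≤ l → y ≠ u → u ⊓ y = ⊥
  /-- `U 0` has another point -/
  two : ∃ k : G, MulAut.conj k • Z 0 ≤ U 0 ∧ MulAut.conj k • Z 0 ≠ Z 0
  /-- polar space axiom -/
  p1 : ∀ u l b : Subgroup G, LnIn Z U u l → Adj Z u b →
    ∃ w, IsPt Z w ∧ w ≤ l ∧ (w = b ∨ ∃ u', u' ≠ u ∧ Adj Z w u' ∧ Adj Z b u')
  /-- `N_a` is generated by the lines on the points collinear with `u` -/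
  p2 : ∀ u a : Subgroup G, Adj Z u a → NN Z a ≤ sSup {m | ∃ y l, LnIn Z U a l ∧ LnOn Z U u l ∧ IsPt Z y ∧ y ≤ l ∧
    y ≠ u ∧ LnIn Z U a m ∧ LnOn Z U y m}

namespace PP

variable {Z U : Fin 2 → Subgroup G} (P : PP Z U)

include P

/-- `l` is a line of `N_a`: there is a partner `l'` on `a`, and `l` is a line of `N_c` for every point `c` of `l'`. -/
theorem exists_partner {a l : Subgroup G} (h : LnIn Z U a l) :
    ∃ l', LnOn Z U a l' ∧ ∀ c, IsPt Z c → c ≤ l' → LnIn Z U c l ∧ LnOn Z U c l' ∧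
      ∀ y, IsPt Z y → y ≤ l → LnIn Z U y l' ∧ LnOn Z U y l ∧ Adj Z c y := by
  obtain ⟨k, rfl, rfl⟩ := h
  obtain ⟨s, hs0, hs1, hs2, hs3⟩ := P.swap
  refine ⟨MulAut.conj k • U 0, ⟨k, rfl, rfl⟩, ?_⟩
  rintro c ⟨j, rfl⟩ hc
  -- move `c` to `Z 0`
  have h1 : MulAut.conj (k⁻¹ * j) • Z 0 ≤ U 0 := by
    have := conj_le_iff (g := k⁻¹) |>.2 hc
    rwa [conj_conj, inv_conj_conj] at this
  obtain ⟨l, hl0, hl1, hl2, hl3⟩ := P.tr _ h1
  have hc' : MulAut.conj j • Z 0 = MulAut.conj (k * l) • Z 0 := by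
    rw [← conj_conj, hl0, conj_conj, mul_inv_cancel_left]
  have hU1 : MulAut.conj k • U 1 = MulAut.conj (k * l) • U 1 := by rw [← conj_conj, hl3]
  have hU0 : MulAut.conj k • U 0 = MulAut.conj (k * l) • U 0 := by rw [← conj_conj, hl2]
  rw [hc', hU1, hU0]
  refine ⟨⟨_, rfl, rfl⟩, ⟨_, rfl, rfl⟩, ?_⟩
  rintro y ⟨i, rfl⟩ hy
  -- move `y` to `Z 1`
  have h2 : MulAut.conj (s⁻¹ * ((k * l)⁻¹ * i)) • Z 0 ≤ U 0 := by
    have := conj_le_iff (g := s⁻¹ * (k * l)⁻¹) |>.2 hy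
    rw [conj_conj, conj_conj] at this
    have e : s⁻¹ * (k * l)⁻¹ * (k * l) = s⁻¹ := by group
    rw [e, ← hs2, conj_conj, inv_mul_cancel, map_one, one_smul] at this
    have e2 : s⁻¹ * (k * l)⁻¹ * i = s⁻¹ * ((k * l)⁻¹ * i) := by group
    rwa [e2] at this
  obtain ⟨m, hm0, hm1, hm2, hm3⟩ := P.tr _ h2
  have hy' : MulAut.conj i • Z 0 = MulAut.conj (k * l * s * m) • Z 0 := by
    rw [show MulAut.conj (k * l * s * m) • Z 0 = MulAut.conj (k * l * s) • (MulAut.conj m • Z 0) by rw [conj_conj],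
      hm0, conj_conj]
    congr 2
    group
  have e0 : MulAut.conj (k * l) • Z 0 = MulAut.conj (k * l * s * m) • Z 1 := by
    rw [show MulAut.conj (k * l * s * m) • Z 1 = MulAut.conj (k * l) • (MulAut.conj s • (MulAut.conj m • Z 1)) by
      rw [conj_conj, conj_conj], hm1, hs1]
  have e1 : MulAut.conj (k * l) • U 0 = MulAut.conj (k * l * s * m) • U 1 := by
    rw [show MulAut.conj (k * l * s * m) • U 1 = MulAut.conj (k * l) • (MulAut.conj s • (MulAut.conj m • U 1)) by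
      rw [conj_conj, conj_conj], hm3, hs3]
  have e2 : MulAut.conj (k * l) • U 1 = MulAut.conj (k * l * s * m) • U 0 := by
    rw [show MulAut.conj (k * l * s * m) • U 0 = MulAut.conj (k * l) • (MulAut.conj s • (MulAut.conj m • U 0)) by
      rw [conj_conj, conj_conj], hm2, hs2]
  rw [hy', e0, e1, e2]
  exact ⟨⟨_, rfl, rfl⟩, ⟨_, rfl, rfl⟩, P.adj_symm ⟨_, rfl, rfl⟩⟩

/-- a line of `N_a` lies in `N_a` -/
theorem lnIn_le {a l : Subgroup G} (hgen : U 1 ≤ NN Z (Z 0)) (h : LnIn Z U a l) : l ≤ NN Z a := by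
  obtain ⟨k, rfl, rfl⟩ := h
  rw [NN_conj]
  exact conj_le_iff.2 hgen

/-- `[l, Q_a] ≤ a` for a line `l` on `a` -/
theorem comm_mem {a l : Subgroup G} (h : LnOn Z U a l) {x y : G} (hx : x ∈ l) (hy : y ∈ QQ a) :
    x * y * x⁻¹ * y⁻¹ ∈ a := by
  obtain ⟨k, rfl, rfl⟩ := h
  rw [QQ_conj] at hy
  rw [mem_conj] at hx hy ⊢
  have h1 := P.UQ _ hx _ hy
  have e : k⁻¹ * (x * y * x⁻¹ * y⁻¹) * k =
      k⁻¹ * x * k * (k⁻¹ * y * k) * (k⁻¹ * x * k)⁻¹ * (k⁻¹ * y * k)⁻¹ := by group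
  rwa [e]

omit P in
theorem exists_ne_one {x y : Subgroup G} (h : ¬ Com Z x y) : ∃ g ∈ ⁅NN Z x, NN Z y⁆, g ≠ 1 := by
  have h1 : ⁅NN Z x, NN Z y⁆ ≠ ⊥ := fun h2 => h (commutator_eq_bot_iff_le_centralizer.1 h2)
  by_contra hcon
  push Not at hcon
  exact h1 (eq_bot_iff.2 fun g hg => mem_bot.2 (hcon g hg))

/-- a common neighbour of a noncommuting pair is unique, and contains the commutator -/
theorem key (hunq : Unq Z) (hpnt : Pnt Z) (hl : ∀ x c, Adj Z x c → NN Z x ≤ QQ c) (x y u : Subgroup G)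
    (hux : Adj Z u x) (huy : Adj Z u y) (hxy : ¬ Com Z x y) :
    (∀ r, Adj Z r x → Adj Z r y → r = u) ∧ ⁅NN Z x, NN Z y⁆ ≤ u := by
  have h1 : ∀ r, Adj Z r x → Adj Z r y → r = u := fun r hrx hry =>
    hunq x y r u u hry huy hux (hl _ _ (P.adj_symm hrx)) (hl _ _ (P.adj_symm hux)) (hl _ _ (P.adj_symm huy)) hxy
  refine ⟨h1, fun g hg => ?_⟩
  by_cases hg1 : g = 1
  · rw [hg1]; exact one_mem u
  obtain ⟨p, hp, hpx, hpy⟩ := hpnt x y u u huy hux (hl _ _ (P.adj_symm hux)) (hl _ _ (P.adj_symm huy)) hxy g hg hg1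
  rw [← h1 p hpx hpy]
  exact hp

/-- A noncommuting pair at least distance `≥ 1`: `N_a ≤ Q_b'`, `N_b ≤ Q_a'` for a path `a ~ a' .. b' ~ b`. -/
theorem exists_ends {d : ℕ} (hcom : ∀ m ≤ d, ∀ a b, Pth Z m a b → Com Z a b) {a b : Subgroup G}
    (hp : Pth Z (d + 1) a b) : ∃ a' b', Adj Z a' a ∧ Adj Z b' b ∧ NN Z a ≤ QQ b' ∧ NN Z b ≤ QQ a' := by
  have hp' := P.pth_symm hp
  cases hp with
  | @succ _ _ b' _ h1 h2 =>
    cases hp' with
    | @succ _ _ a' _ h4 h5 =>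
      exact ⟨a', b', h5, h2, P.lemP hcom _ le_rfl _ _ h1, P.lemP hcom _ le_rfl _ _ h4⟩

/-- the given pair has a common neighbour -/
theorem exists_nbr (hpnt : Pnt Z) {d : ℕ} (hcom : ∀ m ≤ d, ∀ a b, Pth Z m a b → Com Z a b) {a b : Subgroup G}
    (hp : Pth Z (d + 1) a b) (hne : ¬ Com Z a b) : ∃ u, Adj Z u a ∧ Adj Z u b := by
  obtain ⟨a', b', h1, h2, h3, h4⟩ := P.exists_ends hcom hp
  obtain ⟨g, hg, hg1⟩ := exists_ne_one hne
  obtain ⟨p, -, hpa, hpb⟩ := hpnt a b b' a' h2 h1 h3 h4 hne g hg hg1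
  exact ⟨p, hpa, hpb⟩

/-- **`G₂(q)`, no radical**: `[N_a, N_b]` is not contained in a point. -/
theorem false_of_hex (hunq : Unq Z) (hpnt : Pnt Z)
    (hhex : ∀ a b r r₂ : Subgroup G, Adj Z r b → Adj Z r₂ a → NN Z a ≤ QQ r → NN Z b ≤ QQ r₂ → ¬ Com Z a b →
      ∀ u, IsPt Z u → ¬ ⁅NN Z a, NN Z b⁆ ≤ u)
    {d : ℕ} (hcom : ∀ m ≤ d + 1, ∀ a b, Pth Z m a b → Com Z a b) {a b : Subgroup G} (hp : Pth Z (d + 2) a b)
    (hne : ¬ Com Z a b) : False := by
  have hl : ∀ x c, Adj Z x c → NN Z x ≤ QQ c := fun x c h => P.lemP hcom 1 (by omega) x c (PP.pth_one h)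
  obtain ⟨u, hua, hub⟩ := P.exists_nbr hpnt hcom hp hne
  obtain ⟨a', b', h1, h2, h3, h4⟩ := P.exists_ends hcom hp
  exact hhex a b b' a' h2 h1 h3 h4 hne u hua.pt (P.key hunq hpnt hl a b u hua hub hne).2

end PP

namespace NR

variable {Z U : Fin 2 → Subgroup G} (N : NR Z U) (P : PP Z U)

include N P

/-- a second point on a line on `u` -/
theorem exists_two {u l : Subgroup G} (h : LnOn Z U u l) : ∃ y, IsPt Z y ∧ y ≤ l ∧ y ≠ u := by
  obtain ⟨k, rfl, rfl⟩ := h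
  obtain ⟨j, h1, h2⟩ := N.two
  refine ⟨MulAut.conj (k * j) • Z 0, ⟨_, rfl⟩, ?_, fun h => h2 ?_⟩
  · rw [← conj_conj]
    exact conj_le_iff.2 h1
  · rw [← conj_conj] at h
    exact smul_left_cancel _ h

/-- **(2)** no noncommuting pair at least distance `≥ 2`. -/
theorem false_of_far (hgen : U 1 ≤ NN Z (Z 0)) {d : ℕ}
    (hcom : ∀ m ≤ d + 1, ∀ a b, Pth Z m a b → Com Z a b) {a b : Subgroup G} (hp : Pth Z (d + 2) a b)
    (hne : ¬ Com Z a b) : False := by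
  have hl : ∀ x c, Adj Z x c → NN Z x ≤ QQ c := fun x c h => P.lemP hcom 1 (by omega) x c (PP.pth_one h)
  have key := P.key N.unq N.pnt hl
  -- the given pair
  obtain ⟨u, hua, hub⟩ := P.exists_nbr N.pnt hcom hp hne
  obtain ⟨huniq, hRu⟩ := key a b u hua hub hne
  -- the lines `l` of `N_a` on `u`, the points `y` of `l`
  have hy : ∀ y l, LnIn Z U a l → LnOn Z U u l → IsPt Z y → y ≤ l → y ≠ u → NN Z b ≤ QQ y := by
    intro y l hal hul hy hyl hyu
    obtain ⟨l', hal', hl'⟩ := P.exists_partner hal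
    have hapt : IsPt Z a := P.adj_pt hua
    have hal'' : a ≤ l' := by
      obtain ⟨k, h1, h2⟩ := hal'
      rw [h1, h2]
      exact conj_le_iff.2 P.ZU
    have hupt : IsPt Z u := hua.pt
    have hule : u ≤ l := by
      obtain ⟨k, h1, h2⟩ := hul
      rw [h1, h2]
      exact conj_le_iff.2 P.ZU
    have hul' : LnIn Z U u l' := ((hl' a hapt hal'').2.2 u hupt hule).1
    obtain ⟨w, hw, hwl, hwb⟩ := N.p1 u l' b hul' hub
    have hwy : Adj Z w y := ((hl' w hw hwl).2.2 y hy hyl).2.2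
    have hwu : Adj Z w u := ((hl' w hw hwl).2.2 u hupt hule).2.2
    -- `N_b ≤ Q_w`
    have hbw : NN Z b ≤ QQ w := by
      rcases hwb with rfl | ⟨u', hu', hwu', hbu'⟩
      · exact P.NN_le_QQ hw
      · have hcwb : Com Z w b := by
          by_contra hcon
          exact hu' ((key w b u (P.adj_symm hwu) hub hcon).1 u' (P.adj_symm hwu') (P.adj_symm hbu'))
        exact P.f3 hwu (hl _ _ (P.adj_symm hub)) hcwb.symm
    -- `N_y` commutes with `N_u`
    obtain ⟨w', hw', hw'l, hw'a⟩ := N.exists_two P hal'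
    have hyu' : Com Z y u := by
      by_contra hcon
      have h1 := (key y u a (P.adj_symm ((P.adj_symm ((hl' a hapt hal'').2.2 y hy hyl).2.2)))
        (P.adj_symm hua) hcon).1 w' ((hl' w' hw' hw'l).2.2 y hy hyl).2.2 ((hl' w' hw' hw'l).2.2 u hupt hule).2.2
      exact hw'a h1
    have hywQ : NN Z y ≤ QQ w := hl _ _ (P.adj_symm hwy)
    have hyuQ : NN Z y ≤ QQ u := P.f3 (P.adj_symm hwu) hywQ hyu'
    -- `N_y` commutes with `N_b`
    have hyb : Com Z y b := by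
      by_contra hcon
      obtain ⟨g, hg, hg1⟩ := PP.exists_ne_one hcon
      obtain ⟨p, -, hpy, hpb⟩ := N.pnt y b u w hub hwy hyuQ hbw hcon g hg hg1
      have h1 : p = u := N.unq y b p u w hpb hub hwy (hl _ _ (P.adj_symm hpy)) hyuQ hbw hcon
      rw [h1] at hpy
      exact N.nadj u y l hul hy hyl hpy
    exact P.f3 (P.adj_symm hwy) hbw hyb.symm
  -- `N_b` centralises the lines of `N_a` on `y`
  apply hne
  refine (N.p2 u a hua).trans (sSup_le ?_)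
  rintro m ⟨y, l, hal, hul, hypt, hyl, hyu, ham, hym⟩
  have h1 := hy y l hal hul hypt hyl hyu
  intro x hx
  rw [mem_centralizer_iff]
  intro z hz
  have h2 : x * z * x⁻¹ * z⁻¹ ∈ y := P.comm_mem hym hx (h1 hz)
  have h3 : x * z * x⁻¹ * z⁻¹ ∈ u := hRu (commutator_mem_commutator (P.lnIn_le hgen ham hx) hz)
  have h4 : x * z * x⁻¹ * z⁻¹ ∈ u ⊓ y := ⟨h3, h2⟩
  rw [N.ti u y l hul hypt hyl hyu, mem_bot] at h4
  calc z * x = x * z * x⁻¹ * z⁻¹ * (z * x) := by rw [h4, one_mul]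
    _ = x * z := by group

end NR

end Cfsg.Agent.Omega.OM.PG
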