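import Mathlib

/-!
# The best offender count of LEMMA TEN (TEXT R4 #19278 (2))

`Y = P₁ × P₂ ≥ P₀` elementary abelian, `P₀, P₁, P₂` meet pairwise trivially, `v₀ ∈ P₀`, `v₁ ∈ P₁`,
`v₂ = v₀v₁ ∈ P₂`; `A` abelian, `A₀ = C_A(v₁)` has index 2 in `A`, normalises `P₀`, `P₁`, `P₂`; `a ∈ A - A₀` exchanges
`P₁` and `P₂`, and `A` centralises `v₀`. If `|C_Y(B)||B| ≤ |A||C_Y(A)|` for `B ≤ A` then `P₀ = {1, v₀}` (`ten`).

* `exists_fix` : fixed points of a 2-group modulo a set;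
* `mem_sup_comm` : the elements of `P ⊔ Q` if `P` and `Q` commute;
* `off_of_max` : `|C_Y(B)||B| ≤ |A||C_Y(A)|` if `A` has maximal order among the elementary abelian subgroups of
  `T ≥ Y`.
-/

set_option autoImplicit false
set_option linter.unusedSectionVars false

namespace Cfsg.Agent.Omega.OM.PG.Ten

open Subgroup
open scoped commutatorElement

universe u

variable {G : Type u} [Group G]

theorem le_norm {K V : Subgroup G} (h : ∀ k ∈ K, ∀ v ∈ V, k * v * k⁻¹ ∈ V) : K ≤ normalizer (V : Set G) := by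
  intro k hk
  rw [mem_normalizer_iff]
  intro v
  refine ⟨fun hv => h k hk v hv, fun hv => ?_⟩
  have h1 := h k⁻¹ (inv_mem hk) _ hv
  have e : k⁻¹ * (k * v * k⁻¹) * k⁻¹⁻¹ = v := by group
  rwa [e] at h1

theorem cj {K V : Subgroup G} (h : K ≤ normalizer (V : Set G)) {k v : G} (hk : k ∈ K) (hv : v ∈ V) :
    k * v * k⁻¹ ∈ V := (mem_normalizer_iff.1 (h hk) v).1 hv

theorem cj' {K V : Subgroup G} (h : K ≤ normalizer (V : Set G)) {k v : G} (hk : k ∈ K) (hv : v ∈ V) :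
    k⁻¹ * v * k ∈ V := by
  have h1 := cj h (inv_mem hk) hv
  rwa [inv_inv] at h1

/-- In a finite `2`-group `S` an element of a normal subgroup outside a set can be chosen fixed modulo this set. -/
theorem exists_fix [Finite G] {S D : Subgroup G} {B : Set G} (h2 : IsPGroup 2 S) (hDS : D ≤ S)
    (hn : S ≤ normalizer (D : Set G)) (h1 : (1 : G) ∈ B) {x₀ : G} (hx₀ : x₀ ∈ D) (hx₀' : x₀ ∉ B) :
    ∃ x ∈ D, x ∉ B ∧ ∀ y ∈ S, y * x * y⁻¹ * x⁻¹ ∈ B := by
  have : Fact (Nat.Prime 2) := ⟨Nat.prime_two⟩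
  have hnil : Group.IsNilpotent S := h2.isNilpotent
  obtain ⟨n, hn0⟩ := (Subgroup.nilpotent_iff_lowerCentralSeries (G := S)).1 hnil
  let P : ℕ → Prop := fun n => ∃ x : S, x ∈ (⊤ : Subgroup S).lowerCentralSeries n ∧ (x : G) ∈ D ∧ (x : G) ∉ B
  have hP0 : P 0 := ⟨⟨x₀, hDS hx₀⟩, Subgroup.mem_top _, hx₀, hx₀'⟩
  have hPn : ¬ P n := by
    rintro ⟨x, hx, -, hxB⟩
    rw [hn0, Subgroup.mem_bot] at hx
    exact hxB (by rw [hx]; exact h1)
  obtain ⟨m, hm, hm'⟩ : ∃ m, P m ∧ ¬ P (m + 1) := by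
    by_contra hc
    push Not at hc
    exact hPn (Nat.rec (motive := P) hP0 hc n)
  obtain ⟨x, hx, hxD, hxB⟩ := hm
  refine ⟨x, hxD, hxB, fun y hy => ?_⟩
  by_contra hc
  refine hm' ⟨⁅(⟨y, hy⟩ : S), x⁆, ?_, ?_, ?_⟩
  · rw [← commutatorElement_inv]
    exact inv_mem (Subgroup.commutator_mem_commutator hx (Subgroup.mem_top _))
  · have h3 := mul_mem (cj hn hy hxD) (inv_mem hxD)
    exact h3
  · exact hc

theorem mem_sup_comm {P Q : Subgroup G} (h : ∀ x ∈ P, ∀ y ∈ Q, x * y = y * x) {z : G} (hz : z ∈ P ⊔ Q) :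
    ∃ x ∈ P, ∃ y ∈ Q, z = x * y := by
  let M : Subgroup G :=
    { carrier := {z | ∃ x ∈ P, ∃ y ∈ Q, z = x * y}
      one_mem' := ⟨1, one_mem _, 1, one_mem _, (one_mul _).symm⟩
      mul_mem' := by
        rintro _ _ ⟨x, hx, y, hy, rfl⟩ ⟨x', hx', y', hy', rfl⟩
        refine ⟨x * x', mul_mem hx hx', y * y', mul_mem hy hy', ?_⟩
        calc x * y * (x' * y') = x * (y * x') * y' := by group
          _ = x * (x' * y) * y' := by rw [h x' hx' y hy]
          _ = x * x' * (y * y') := by group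
      inv_mem' := by
        rintro _ ⟨x, hx, y, hy, rfl⟩
        refine ⟨x⁻¹, inv_mem hx, y⁻¹, inv_mem hy, ?_⟩
        rw [mul_inv_rev, h x⁻¹ (inv_mem hx) y⁻¹ (inv_mem hy)] }
  have h1 : P ⊔ Q ≤ M := by
    refine sup_le (fun x hx => ⟨x, hx, 1, one_mem _, (mul_one _).symm⟩) (fun y hy => ⟨1, one_mem _, y, hy, ?_⟩)
    exact (one_mul _).symm
  exact h1 hz

theorem uniq {P Q : Subgroup G} (h : P ⊓ Q = ⊥) {x w y z : G} (hx : x ∈ P) (hw : w ∈ P) (hy : y ∈ Q) (hz : z ∈ Q)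
    (e : x * y = w * z) : x = w ∧ y = z := by
  have h1 : w⁻¹ * x = z * y⁻¹ := by
    calc w⁻¹ * x = w⁻¹ * (x * y) * y⁻¹ := by group
      _ = w⁻¹ * (w * z) * y⁻¹ := by rw [e]
      _ = z * y⁻¹ := by group
  have h2 : w⁻¹ * x ∈ P ⊓ Q := mem_inf.2 ⟨mul_mem (inv_mem hw) hx, by rw [h1]; exact mul_mem hz (inv_mem hy)⟩
  rw [h, mem_bot] at h2
  have h3 : z * y⁻¹ = 1 := by rw [← h1, h2]
  exact ⟨(inv_mul_eq_one.1 h2).symm, (mul_inv_eq_one.1 h3).symm⟩

theorem card_eq_ncard (P : Subgroup G) : Nat.card P = (P : Set G).ncard := rfl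

/-- `|A| ≤ 2|B|` if `A = B ∪ aB`. -/
theorem card_le_two [Finite G] {A B : Subgroup G} {a : G} (h : ∀ b ∈ A, b ∈ B ∨ a⁻¹ * b ∈ B) :
    Nat.card A ≤ 2 * Nat.card B := by
  rw [card_eq_ncard, card_eq_ncard]
  have h1 : (A : Set G) ⊆ (B : Set G) ∪ (fun x => a * x) '' (B : Set G) := by
    intro b hb
    rcases h b hb with h1 | h1
    · exact Or.inl h1
    · exact Or.inr ⟨a⁻¹ * b, h1, by simp⟩
  refine (Set.ncard_le_ncard h1 (Set.toFinite _)).trans ((Set.ncard_union_le _ _).trans ?_)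
  have h2 := Set.ncard_image_le (f := fun x => a * x) (Set.toFinite (B : Set G))
  omega

/-- three elements in a group of order at most two -/
theorem eq_of_card_two [Finite G] {P : Subgroup G} (h : Nat.card P ≤ 2) {v : G} (hv : v ∈ P) (hv1 : v ≠ 1) :
    ∀ x ∈ P, x = 1 ∨ x = v := by
  intro x hx
  by_contra hcon
  push Not at hcon
  have h1 : ({1, v, x} : Set G) ⊆ P := by
    intro y hy
    rcases hy with rfl | rfl | rfl
    · exact one_mem _
    · exact hv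
    · exact hx
  have h2 := Set.ncard_le_ncard h1 (Set.toFinite _)
  rw [← card_eq_ncard] at h2
  have h3 : ({1, v, x} : Set G).ncard = 3 := by
    rw [Set.ncard_eq_three]
    exact ⟨1, v, x, hv1.symm, hcon.1.symm, hcon.2.symm, rfl⟩
  omega

/-- a group of exponent two containing two distinct nontrivial elements has order at least four -/
theorem four_le [Finite G] {P : Subgroup G} (hs : ∀ x ∈ P, x ^ 2 = 1) {x y : G} (hx : x ∈ P) (hy : y ∈ P)
    (hx1 : x ≠ 1) (hy1 : y ≠ 1) (hxy : x ≠ y) : 4 ≤ Nat.card P := by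
  have h1 : ({1, x, y, x * y} : Set G) ⊆ P := by
    intro z hz
    rcases hz with rfl | rfl | rfl | rfl
    · exact one_mem _
    · exact hx
    · exact hy
    · exact mul_mem hx hy
  have h2 := Set.ncard_le_ncard h1 (Set.toFinite _)
  rw [← card_eq_ncard] at h2
  have h3 : ({1, x, y, x * y} : Set G).ncard = 4 := by
    have hxy1 : x * y ≠ 1 := by
      intro h
      apply hxy
      have h4 : x * x = 1 := by rw [← pow_two]; exact hs x hx
      exact (mul_left_cancel (h.trans h4.symm)).symm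
    have hne1 : x ∉ ({y, x * y} : Set G) := by
      rintro (h | h)
      · exact hxy h
      · exact hy1 (mul_left_cancel ((mul_one x).trans h)).symm
    have hne2 : (1 : G) ∉ ({x, y, x * y} : Set G) := by
      rintro (h | h | h)
      · exact hx1 h.symm
      · exact hy1 h.symm
      · exact hxy1 h.symm
    have hne3 : y ≠ x * y := by
      intro h
      exact hx1 (mul_right_cancel ((one_mul y).trans h)).symm
    rw [Set.ncard_insert_of_notMem hne2 (Set.toFinite _), Set.ncard_insert_of_notMem hne1 (Set.toFinite _),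
      Set.ncard_pair hne3]
  omega

/-- `|P||Q| ≤ |Y|` for subgroups of `Y` meeting trivially -/
theorem card_mul_le [Finite G] {P Q Y : Subgroup G} (hP : P ≤ Y) (hQ : Q ≤ Y) (h : P ⊓ Q = ⊥) :
    Nat.card P * Nat.card Q ≤ Nat.card Y := by
  rw [← Nat.card_prod]
  refine Nat.card_le_card_of_injective (fun p : P × Q => (⟨p.1 * p.2, mul_mem (hP p.1.2) (hQ p.2.2)⟩ : Y)) ?_
  rintro ⟨x, y⟩ ⟨w, z⟩ e
  have e1 : (x : G) * y = w * z := congrArg Subtype.val e
  obtain ⟨h1, h2⟩ := uniq h x.2 w.2 y.2 z.2 e1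
  exact Prod.ext (Subtype.ext h1) (Subtype.ext h2)

/-- **The count of LEMMA TEN.** -/
theorem ten [Finite G] {A P0 P1 P2 Y T : Subgroup G} {v0 v1 v2 a : G}
    (hT : IsPGroup 2 T) (hAT : A ≤ T) (hYT : Y ≤ T)
    (hYc : ∀ x ∈ Y, ∀ y ∈ Y, x * y = y * x) (hYs : ∀ x ∈ Y, x ^ 2 = 1)
    (hAc : ∀ x ∈ A, ∀ y ∈ A, x * y = y * x)
    (h0Y : P0 ≤ Y) (h1Y : P1 ≤ Y) (h2Y : P2 ≤ Y) (hY : Y ≤ P1 ⊔ P2)
    (h01 : P0 ⊓ P1 = ⊥) (h02 : P0 ⊓ P2 = ⊥) (h12 : P1 ⊓ P2 = ⊥)
    (hv0 : v0 ∈ P0) (hv1 : v1 ∈ P1) (hv2 : v2 ∈ P2) (hv : v2 = v0 * v1) (hv0' : v0 ≠ 1) (hv1' : v1 ≠ 1)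
    (ha : a ∈ A) (haP1 : ∀ x ∈ P1, a * x * a⁻¹ ∈ P2) (haP2 : ∀ x ∈ P2, a * x * a⁻¹ ∈ P1)
    (hav : a * v1 * a⁻¹ = v2) (hAv : ∀ b ∈ A, b * v0 = v0 * b)
    (hA1 : ∀ b ∈ A, b * v1 = v1 * b → ∀ x ∈ P1, b * x * b⁻¹ ∈ P1)
    (hA2 : ∀ b ∈ A, b * v1 = v1 * b → ∀ x ∈ P2, b * x * b⁻¹ ∈ P2)
    (hA0 : ∀ b ∈ A, b * v1 = v1 * b → ∀ x ∈ P0, b * x * b⁻¹ ∈ P0)
    (hdich : ∀ b ∈ A, b * v1 = v1 * b ∨ b * v1 * b⁻¹ = v2)
    (hoff : ∀ B ≤ A, Nat.card (Y ⊓ centralizer (B : Set G) : Subgroup G) * Nat.card B ≤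
      Nat.card A * Nat.card (Y ⊓ centralizer (A : Set G) : Subgroup G)) :
    ∀ x ∈ P0, x = 1 ∨ x = v0 := by
  classical
  have hYs' : ∀ x ∈ Y, x * x = 1 := fun x hx => by rw [← pow_two]; exact hYs x hx
  -- `A₀`
  let A0 : Subgroup G := A ⊓ centralizer {v1}
  have hA0A : A0 ≤ A := inf_le_left
  have hA0c : ∀ b ∈ A0, b * v1 = v1 * b := fun b hb => (mem_centralizer_iff.1 hb.2 v1 rfl).symm
  have mem_A0 : ∀ b ∈ A, b * v1 = v1 * b → b ∈ A0 := by
    intro b hb h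
    refine ⟨hb, mem_centralizer_iff.2 ?_⟩
    rintro x rfl
    exact h.symm
  have hab : ∀ b ∈ A, b ∈ A0 ∨ a⁻¹ * b ∈ A0 := by
    intro b hb
    rcases hdich b hb with h | h
    · exact Or.inl (mem_A0 b hb h)
    · refine Or.inr (mem_A0 _ (mul_mem (inv_mem ha) hb) ?_)
      have h1 : b * v1 = a * v1 * a⁻¹ * b := by rw [hav, ← h]; group
      calc a⁻¹ * b * v1 = a⁻¹ * (b * v1) := by group
        _ = a⁻¹ * (a * v1 * a⁻¹ * b) := by rw [h1]
        _ = v1 * (a⁻¹ * b) := by group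
  have hcA : Nat.card A ≤ 2 * Nat.card A0 := card_le_two hab
  -- `C_Y(A₀)` and `C_Y(A)`
  let CA : Subgroup G := Y ⊓ centralizer (A : Set G)
  let C0 : Subgroup G := Y ⊓ centralizer (A0 : Set G)
  have hC0A : Nat.card C0 ≤ 2 * Nat.card CA := by
    have h1 := hoff A0 hA0A
    have h2 : Nat.card C0 * Nat.card A0 ≤ 2 * Nat.card A0 * Nat.card CA :=
      h1.trans (Nat.mul_le_mul_right _ hcA)
    have h3 : 0 < Nat.card A0 := Nat.card_pos
    have h4 : Nat.card C0 * Nat.card A0 ≤ 2 * Nat.card CA * Nat.card A0 := by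
      calc Nat.card C0 * Nat.card A0 ≤ 2 * Nat.card A0 * Nat.card CA := h2
        _ = 2 * Nat.card CA * Nat.card A0 := by ring
    exact Nat.le_of_mul_le_mul_right h4 h3
  let C1 : Subgroup G := P1 ⊓ centralizer (A0 : Set G)
  have hsup : ∀ y ∈ Y, ∃ x ∈ P1, ∃ x' ∈ P2, y = x * x' := fun y hy =>
    mem_sup_comm (fun x hx y hy => hYc x (h1Y hx) y (h2Y hy)) (hY hy)
  -- components of elements centralised by `b ∈ A₀`
  have hcomp : ∀ b ∈ A0, ∀ x ∈ P1, ∀ x' ∈ P2, b * (x * x') = x * x' * b → b * x = x * b ∧ b * x' = x' * b := by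
    intro b hb x hx x' hx' h
    have h1 : (b * x * b⁻¹) * (b * x' * b⁻¹) = x * x' := by
      calc (b * x * b⁻¹) * (b * x' * b⁻¹) = b * (x * x') * b⁻¹ := by group
        _ = x * x' * b * b⁻¹ := by rw [h]
        _ = x * x' := by group
    obtain ⟨h2, h3⟩ := uniq h12 (hA1 b (hA0A hb) (hA0c b hb) x hx) hx (hA2 b (hA0A hb) (hA0c b hb) x' hx') hx' h1
    exact ⟨mul_inv_eq_iff_eq_mul.1 h2, mul_inv_eq_iff_eq_mul.1 h3⟩
  have hCA : Nat.card CA ≤ Nat.card C1 := by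
    rw [card_eq_ncard, card_eq_ncard]
    have h1 : (CA : Set G) ⊆ (fun x => x * (a * x * a⁻¹)) '' (C1 : Set G) := by
      intro y hy
      obtain ⟨x, hx, x', hx', rfl⟩ := hsup y hy.1
      have h2 : a * (x * x') = x * x' * a := mem_centralizer_iff.1 hy.2 a ha
      have h3 : (a * x' * a⁻¹) * (a * x * a⁻¹) = x * x' := by
        calc (a * x' * a⁻¹) * (a * x * a⁻¹) = a * (x' * x) * a⁻¹ := by group
          _ = a * (x * x') * a⁻¹ := by rw [hYc x' (h2Y hx') x (h1Y hx)]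
          _ = x * x' * a * a⁻¹ := by rw [h2]
          _ = x * x' := by group
      obtain ⟨-, h4⟩ := uniq h12 (haP2 x' hx') hx (haP1 x hx) hx' h3
      refine ⟨x, ⟨hx, mem_centralizer_iff.2 fun b hb => ?_⟩, ?_⟩
      · exact (hcomp b hb x hx x' hx' (mem_centralizer_iff.1 hy.2 b (hA0A hb))).1
      · change x * (a * x * a⁻¹) = x * x'
        rw [h4]
    exact (Set.ncard_le_ncard h1 (Set.toFinite _)).trans (Set.ncard_image_le (Set.toFinite _))
  have haC : ∀ w ∈ C1, a * w * a⁻¹ ∈ P2 ⊓ centralizer (A0 : Set G) := by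
    intro w hw
    refine ⟨haP1 w hw.1, mem_centralizer_iff.2 fun b hb => ?_⟩
    have h1 : b * w = w * b := mem_centralizer_iff.1 hw.2 b hb
    have h2 : a * b = b * a := hAc a ha b (hA0A hb)
    calc b * (a * w * a⁻¹) = (b * a) * w * a⁻¹ := by group
      _ = (a * b) * w * a⁻¹ := by rw [h2]
      _ = a * (b * w) * a⁻¹ := by group
      _ = a * (w * b) * a⁻¹ := by rw [h1]
      _ = a * w * a⁻¹ * (a * b * a⁻¹) := by group
      _ = a * w * a⁻¹ * (b * a * a⁻¹) := by rw [h2]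
      _ = a * w * a⁻¹ * b := by group
  have hC0sq : Nat.card C1 * Nat.card C1 ≤ Nat.card C0 := by
    rw [← Nat.card_prod]
    refine Nat.card_le_card_of_injective (fun p : C1 × C1 =>
      (⟨p.1 * (a * p.2 * a⁻¹), mul_mem ⟨h1Y p.1.2.1, p.1.2.2⟩
        ⟨h2Y (haC _ p.2.2).1, (haC _ p.2.2).2⟩⟩ : C0)) ?_
    rintro ⟨x, y⟩ ⟨w, z⟩ e
    have e1 : (x : G) * (a * y * a⁻¹) = w * (a * z * a⁻¹) := congrArg Subtype.val e
    obtain ⟨h1, h2⟩ := uniq h12 x.2.1 w.2.1 (haC _ y.2).1 (haC _ z.2).1 e1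
    have h3 : (y : G) = z := by
      have h4 := congrArg (fun g => a⁻¹ * g * a) h2
      simpa [mul_assoc] using h4
    exact Prod.ext (Subtype.ext h1) (Subtype.ext h3)
  have hv1C : v1 ∈ C1 := ⟨hv1, mem_centralizer_iff.2 fun b hb => hA0c b hb⟩
  have hC1 : Nat.card C1 ≤ 2 := by
    have h1 : Nat.card C1 * Nat.card C1 ≤ 2 * Nat.card C1 :=
      hC0sq.trans (hC0A.trans (Nat.mul_le_mul_left _ hCA))
    exact Nat.le_of_mul_le_mul_right h1 Nat.card_pos
  have hC1' : ∀ x ∈ C1, x = 1 ∨ x = v1 := eq_of_card_two hC1 hv1C hv1'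
  -- `C_{P₀}(A₀)`
  have hv00 : v0 * v0 = 1 := hYs' v0 (h0Y hv0)
  have hfix : ∀ x ∈ P0, (∀ b ∈ A0, b * x = x * b) → x = 1 ∨ x = v0 := by
    intro x hx hbx
    obtain ⟨p1, hp1, p2, hp2, rfl⟩ := hsup x (h0Y hx)
    have h1 : ∀ b ∈ A0, b * p1 = p1 * b ∧ b * p2 = p2 * b := fun b hb => hcomp b hb p1 hp1 p2 hp2 (hbx b hb)
    have h2 : p1 = 1 ∨ p1 = v1 := hC1' p1 ⟨hp1, mem_centralizer_iff.2 fun b hb => (h1 b hb).1⟩
    have h3 : a * p2 * a⁻¹ = 1 ∨ a * p2 * a⁻¹ = v1 := by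
      refine hC1' _ ⟨haP2 p2 hp2, mem_centralizer_iff.2 fun b hb => ?_⟩
      have h4 : b * p2 = p2 * b := (h1 b hb).2
      have h5 : a * b = b * a := hAc a ha b (hA0A hb)
      calc b * (a * p2 * a⁻¹) = (b * a) * p2 * a⁻¹ := by group
        _ = (a * b) * p2 * a⁻¹ := by rw [h5]
        _ = a * (b * p2) * a⁻¹ := by group
        _ = a * (p2 * b) * a⁻¹ := by rw [h4]
        _ = a * p2 * a⁻¹ * (a * b * a⁻¹) := by group
        _ = a * p2 * a⁻¹ * (b * a * a⁻¹) := by rw [h5]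
        _ = a * p2 * a⁻¹ * b := by group
    have h4 : p2 = 1 ∨ p2 = v2 := by
      rcases h3 with h3 | h3
      · left
        have h5 := congrArg (fun g => a⁻¹ * g * a) h3
        simpa [mul_assoc] using h5
      · right
        have h5 : a * v2 * a⁻¹ = v1 := by
          have h6 : a * v0 * a⁻¹ = v0 := by rw [hAv a ha]; group
          calc a * v2 * a⁻¹ = (a * v0 * a⁻¹) * (a * v1 * a⁻¹) := by rw [hv]; group
            _ = v0 * (v0 * v1) := by rw [h6, hav, hv]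
            _ = (v0 * v0) * v1 := by group
            _ = v1 := by rw [hv00, one_mul]
        have h6 : a * p2 * a⁻¹ = a * v2 * a⁻¹ := by rw [h3, h5]
        exact mul_left_cancel (mul_right_cancel h6)
    rcases h2 with rfl | rfl
    · left
      rw [one_mul] at hx ⊢
      have h5 : p2 ∈ P0 ⊓ P2 := ⟨hx, hp2⟩
      rwa [h02, mem_bot] at h5
    · rcases h4 with rfl | rfl
      · exfalso
        rw [mul_one] at hx
        have h5 : p1 ∈ P0 ⊓ P1 := ⟨hx, hp1⟩
        rw [h01, mem_bot] at h5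
        exact hv1' h5
      · right
        rw [hv, ← mul_assoc, hYc p1 (h1Y hp1) v0 (h0Y hv0), mul_assoc, hYs' p1 (h1Y hp1), mul_one]
  -- the end
  by_contra hcon
  push Not at hcon
  obtain ⟨x0, hx0, hx01, hx0v⟩ := hcon
  have hnorm : A0 ⊔ P0 ≤ normalizer (P0 : Set G) :=
    sup_le (le_norm fun b hb x hx => hA0 b (hA0A hb) (hA0c b hb) x hx) le_normalizer
  have h2g : IsPGroup 2 (A0 ⊔ P0 : Subgroup G) := hT.to_le (sup_le (hA0A.trans hAT) (h0Y.trans hYT))
  obtain ⟨n, hn, hnB, hnf⟩ := exists_fix (B := {x | x = 1 ∨ x = v0}) h2g le_sup_right hnorm (Or.inl rfl) hx0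
    (by rintro (h | h); exacts [hx01 h, hx0v h])
  have hn1 : n ≠ 1 := fun h => hnB (Or.inl h)
  have hnv : n ≠ v0 := fun h => hnB (Or.inr h)
  let B : Subgroup G := A0 ⊓ centralizer {n}
  have hBA0 : B ≤ A0 := inf_le_left
  have hBn : ∀ b ∈ B, b * n = n * b := fun b hb => (mem_centralizer_iff.1 hb.2 n rfl).symm
  have hcB : Nat.card A0 ≤ 2 * Nat.card B := by
    by_cases hall : ∀ b ∈ A0, b * n = n * b
    · have h1 : A0 ≤ B := fun b hb => ⟨hb, mem_centralizer_iff.2 (by rintro x rfl; exact (hall b hb).symm)⟩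
      have h2 : Nat.card A0 ≤ Nat.card B := Subgroup.card_le_of_le h1
      omega
    · push Not at hall
      obtain ⟨b0, hb0, hb0n⟩ := hall
      have h1 : ∀ b ∈ A0, b * n = n * b ∨ b * n * b⁻¹ = v0 * n := by
        intro b hb
        rcases hnf b (mem_sup_left hb) with h | h
        · left
          exact mul_inv_eq_iff_eq_mul.1 (mul_inv_eq_one.1 h)
        · right
          exact mul_inv_eq_iff_eq_mul.1 h
      refine card_le_two (a := b0) fun b hb => ?_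
      rcases h1 b hb with h | h
      · exact Or.inl ⟨hb, mem_centralizer_iff.2 (by rintro x rfl; exact h.symm)⟩
      · right
        refine mem_inf.2 ⟨mul_mem (inv_mem hb0) hb, mem_centralizer_iff.2 ?_⟩
        intro x hx
        rw [Set.mem_singleton_iff.1 hx]
        have h2 : b0 * n * b0⁻¹ = v0 * n := (h1 b0 hb0).resolve_left hb0n
        have h3 : b * n = b0 * n * b0⁻¹ * b := by rw [h2, ← h]; group
        symm
        calc b0⁻¹ * b * n = b0⁻¹ * (b * n) := by group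
          _ = b0⁻¹ * (b0 * n * b0⁻¹ * b) := by rw [h3]
          _ = n * (b0⁻¹ * b) := by group
  -- `|C_Y(B)| ≥ 16`
  have hBc : ∀ {P : Subgroup G} {x : G}, x ∈ P → (∀ b ∈ B, b * x = x * b) → x ∈ P ⊓ centralizer (B : Set G) :=
    fun hx h => ⟨hx, mem_centralizer_iff.2 h⟩
  have hB0 : 4 ≤ Nat.card (P0 ⊓ centralizer (B : Set G) : Subgroup G) := by
    refine four_le (fun x hx => hYs x (h0Y hx.1)) (hBc hv0 fun b hb => hAv b (hA0A (hBA0 hb))) (hBc hn hBn)
      hv0' hn1 hnv.symm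
  obtain ⟨p1, hp1, p2, hp2, hnp⟩ := hsup n (h0Y hn)
  have hp1B : ∀ b ∈ B, b * p1 = p1 * b := by
    intro b hb
    refine (hcomp b (hBA0 hb) p1 hp1 p2 hp2 ?_).1
    rw [← hnp]
    exact hBn b hb
  have hB1 : 4 ≤ Nat.card (P1 ⊓ centralizer (B : Set G) : Subgroup G) := by
    refine four_le (fun x hx => hYs x (h1Y hx.1)) (hBc hv1 fun b hb => hA0c b (hBA0 hb)) (hBc hp1 hp1B)
      hv1' ?_ ?_
    · rintro rfl
      rw [one_mul] at hnp
      have h1 : n ∈ P0 ⊓ P2 := ⟨hn, by rw [hnp]; exact hp2⟩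
      rw [h02, mem_bot] at h1
      exact hn1 h1
    · rintro rfl
      -- `n v₀ = p₂ v₂ ∈ P₀ ∩ P₂`
      apply hnv
      have h1 : n * v0 = p2 * v2 := by
        rw [hnp, hv]
        calc v1 * p2 * v0 = p2 * v1 * v0 := by rw [hYc v1 (h1Y hv1) p2 (h2Y hp2)]
          _ = p2 * (v1 * v0) := by group
          _ = p2 * (v0 * v1) := by rw [hYc v1 (h1Y hv1) v0 (h0Y hv0)]
      have h2 : n * v0 ∈ P0 ⊓ P2 := ⟨mul_mem hn hv0, by rw [h1]; exact mul_mem hp2 hv2⟩
      rw [h02, mem_bot] at h2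
      exact mul_right_cancel (h2.trans hv00.symm)
  have hB16 : 16 ≤ Nat.card (Y ⊓ centralizer (B : Set G) : Subgroup G) := by
    have h1 : Nat.card (P0 ⊓ centralizer (B : Set G) : Subgroup G) *
        Nat.card (P1 ⊓ centralizer (B : Set G) : Subgroup G) ≤
        Nat.card (Y ⊓ centralizer (B : Set G) : Subgroup G) := by
      refine card_mul_le (inf_le_inf_right _ h0Y) (inf_le_inf_right _ h1Y) ?_
      rw [eq_bot_iff, ← h01]
      exact inf_le_inf inf_le_left inf_le_left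
    calc 16 = 4 * 4 := by norm_num
      _ ≤ _ := Nat.mul_le_mul hB0 hB1
      _ ≤ _ := h1
  have hfin := hoff B (hBA0.trans hA0A)
  have h1 : 0 < Nat.card B := Nat.card_pos
  have h2 : Nat.card CA ≤ 2 := hCA.trans hC1
  have h3 : Nat.card A ≤ 4 * Nat.card B := by omega
  have h4 : 16 * Nat.card B ≤ 4 * Nat.card B * 2 :=
    (Nat.mul_le_mul_right _ hB16).trans (hfin.trans (Nat.mul_le_mul h3 h2))
  omega

/-- `|C_Y(B)||B| ≤ |A||C_Y(A)|` if `A` has maximal order among the elementary abelian subgroups of `T ≥ Y`. -/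
theorem off_of_max [Finite G] {A Y T : Subgroup G} (hYT : Y ≤ T) (hYc : ∀ x ∈ Y, ∀ y ∈ Y, x * y = y * x)
    (hYs : ∀ x ∈ Y, x ^ 2 = 1) (hAT : A ≤ T) (hAc : ∀ x ∈ A, ∀ y ∈ A, x * y = y * x) (hAs : ∀ x ∈ A, x ^ 2 = 1)
    (hmax : ∀ B : Subgroup G, B ≤ T → (∀ x ∈ B, ∀ y ∈ B, x * y = y * x) → (∀ x ∈ B, x ^ 2 = 1) →
      Nat.card B ≤ Nat.card A) {B : Subgroup G} (hB : B ≤ A) :
    Nat.card (Y ⊓ centralizer (B : Set G) : Subgroup G) * Nat.card B ≤
      Nat.card A * Nat.card (Y ⊓ centralizer (A : Set G) : Subgroup G) := by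
  let C : Subgroup G := Y ⊓ centralizer (B : Set G)
  have hCB : ∀ x ∈ C, ∀ y ∈ B, x * y = y * x := fun x hx y hy => (mem_centralizer_iff.1 hx.2 y hy).symm
  -- the elementary abelian group `CB`
  have h1 : Nat.card (C ⊔ B : Subgroup G) ≤ Nat.card A := by
    refine hmax _ (sup_le (inf_le_left.trans hYT) (hB.trans hAT)) ?_ ?_
    · intro x hx y hy
      obtain ⟨c, hc, b, hb, rfl⟩ := mem_sup_comm hCB hx
      obtain ⟨c', hc', b', hb', rfl⟩ := mem_sup_comm hCB hy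
      have e1 := hYc c hc.1 c' hc'.1
      have e2 := hAc b (hB hb) b' (hB hb')
      calc c * b * (c' * b') = c * (b * c') * b' := by group
        _ = c * (c' * b) * b' := by rw [hCB c' hc' b hb]
        _ = (c * c') * (b * b') := by group
        _ = (c' * c) * (b' * b) := by rw [e1, e2]
        _ = c' * (c * b') * b := by group
        _ = c' * (b' * c) * b := by rw [hCB c hc b' hb']
        _ = c' * b' * (c * b) := by group
    · intro x hx
      obtain ⟨c, hc, b, hb, rfl⟩ := mem_sup_comm hCB hx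
      have e1 : c * c = 1 := by rw [← pow_two]; exact hYs c hc.1
      have e2 : b * b = 1 := by rw [← pow_two]; exact hAs b (hB hb)
      calc (c * b) ^ 2 = c * (b * c) * b := by rw [pow_two]; group
        _ = c * (c * b) * b := by rw [hCB c hc b hb]
        _ = (c * c) * (b * b) := by group
        _ = 1 := by rw [e1, e2, one_mul]
  -- `|C||B| ≤ |CB||C ∩ B|`
  have h2 : Nat.card C * Nat.card B ≤
      Nat.card (C ⊔ B : Subgroup G) * Nat.card (Y ⊓ centralizer (A : Set G) : Subgroup G) := by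
    rw [← Nat.card_prod]
    classical
    -- count the fibres of the product map
    have hfin : Finite (C × B) := inferInstance
    let f : C × B → (C ⊔ B : Subgroup G) := fun p => ⟨p.1 * p.2, mul_mem (mem_sup_left p.1.2) (mem_sup_right p.2.2)⟩
    have hf : ∀ z, Nat.card {p : C × B // f p = z} ≤ Nat.card (Y ⊓ centralizer (A : Set G) : Subgroup G) := by
      intro z
      by_cases hz : Nonempty {p : C × B // f p = z}
      · obtain ⟨⟨⟨c0, b0⟩, h0⟩⟩ := hz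
        have key : ∀ p : {p : C × B // f p = z}, (p.1.1 : G)⁻¹ * c0 ∈ Y ⊓ centralizer (A : Set G) := by
          rintro ⟨⟨c, b⟩, h⟩
          have e : (c : G) * b = c0 * b0 := by
            have e1 := congrArg Subtype.val (h.trans h0.symm)
            exact e1
          have e2 : (c : G)⁻¹ * c0 = b * (b0 : G)⁻¹ := by
            calc (c : G)⁻¹ * c0 = (c : G)⁻¹ * (c0 * b0) * (b0 : G)⁻¹ := by group
              _ = (c : G)⁻¹ * (c * b) * (b0 : G)⁻¹ := by rw [e]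
              _ = b * (b0 : G)⁻¹ := by group
          refine mem_inf.2 ⟨mul_mem (inv_mem c.2.1) c0.2.1, mem_centralizer_iff.2 fun x hx => ?_⟩
          change x * ((c : G)⁻¹ * c0) = (c : G)⁻¹ * c0 * x
          rw [e2]
          exact hAc x hx _ (mul_mem (hB b.2) (inv_mem (hB b0.2)))
        refine Nat.card_le_card_of_injective (fun p => (⟨(p.1.1 : G)⁻¹ * c0, key p⟩ :
          (Y ⊓ centralizer (A : Set G) : Subgroup G))) ?_
        rintro ⟨⟨c, b⟩, h⟩ ⟨⟨c', b'⟩, h'⟩ e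
        have e1 : (c : G)⁻¹ * c0 = (c' : G)⁻¹ * c0 := congrArg Subtype.val e
        have e2 : (c : G) = c' := inv_injective (mul_right_cancel e1)
        have e3 : (c : G) * b = c' * b' := congrArg Subtype.val (h.trans h'.symm)
        have e4 : (b : G) = b' := by rw [e2] at e3; exact mul_left_cancel e3
        exact Subtype.ext (Prod.ext (Subtype.ext e2) (Subtype.ext e4))
      · rw [not_nonempty_iff] at hz
        rw [Nat.card_of_isEmpty]
        exact Nat.zero_le _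
    have : Fintype (C ⊔ B : Subgroup G) := Fintype.ofFinite _
    have e := Nat.card_congr (Equiv.sigmaFiberEquiv f)
    rw [← e, Nat.card_sigma]
    refine (Finset.sum_le_sum fun z _ => hf z).trans ?_
    rw [Finset.sum_const, smul_eq_mul, Finset.card_univ, ← Nat.card_eq_fintype_card]
  exact h2.trans (Nat.mul_le_mul_right _ h1)

end Cfsg.Agent.Omega.OM.PG.Ten
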