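import Cfsg.Agent.Omega.OM.PG.PcK

/-!
# (E): the critical distance with `(1a)` for `[N_a, N_b] ≠ 1` only (helper627, THEOREM R_q (10)(c), (d))

* `TA' Z X` : `(1a)` of THEOREM R: a critical pair `(a, b)` with `[N_a, N_b] ≠ 1` has `X_a ≰ N_a C(X_b)`;
* `zero_of` : `X_u ≤ C(N_a)` for `a ~ u` (THEOREM PC): `(Z 0, Z 1)` is not critical. No `TA`;
* `redI` : a critical pair has `a ≤ N_b` or `b ≤ N_a`;
* `false_of_twoI` : distance two is impossible if the only points in `N_u ∩ N_b`, `u ~ b`, are `u` and `b`;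
* `false_of_pc` : `TA'`, `TB`, THEOREM PC, THEOREM I: contradiction.
-/

set_option autoImplicit false
set_option linter.unusedSectionVars false

namespace Cfsg.Agent.Omega.OM.PG.TwoI

open Subgroup Cfsg
open Cfsg.Agent.ZN Cfsg.Agent.Omega.OM.PG.Peel Cfsg.Agent.Omega.OM.PG.PeelQ Cfsg.Agent.Omega.OM.PG.ExactQ
open Cfsg.Agent.Omega.NO3S.EThree Cfsg.Agent.Omega.NO3S.EThree.ExactA
open Cfsg.Agent.Omega.NoFF.Basic (comm_symm conj_conj conj_le_iff)
open scoped commutatorElement Pointwise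

universe u

variable {G : Type u} [Group G]

/-- `(1a)` of THEOREM R: a critical pair with `[N_a, N_b] ≠ 1` has `X_a ≰ N_a C(X_b)` -/
def TA' (Z : Fin 2 → Subgroup G) (X : Subgroup G → Subgroup G) : Prop :=
  ∀ d a b, CX Z X d a b → ¬ NN Z a ≤ centralizer (NN Z b : Set G) →
    ¬ X a ≤ NN Z a ⊔ (X a ⊓ centralizer (X b : Set G))

theorem TA.toTA' {Z : Fin 2 → Subgroup G} {X : Subgroup G → Subgroup G} (h : TA Z X) : TA' Z X :=
  fun d a b hc _ => h d a b hc

variable [Finite G] {Z U : Fin 2 → Subgroup G} {X : Subgroup G → Subgroup G} {d : ℕ} {a b : Subgroup G}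

/-- **PC: the pair `(Z 0, Z 1)` is not critical.** -/
theorem zero_of (P : PP Z U) (F : XF Z X) (hti : TIp Z)
    (hpc : ∀ a u : Subgroup G, Adj Z a u → X u ≤ centralizer (NN Z a : Set G)) (h : CX Z X 0 (Z 0) (Z 1)) : False := by
  have h01 : Adj Z (Z 0) (Z 1) := ⟨1, by rw [map_one, one_smul], by rw [map_one, one_smul]⟩
  have h10 := P.adj_symm h01
  have h0 : IsPt Z (Z 0) := h01.pt
  have h1 : IsPt Z (Z 1) := h10.pt
  have hX0 : X (Z 0) ≤ QQ (Z 1) := P.f3 h10 (F.XQ _ h0) (hpc _ _ h10)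
  have hX1 : X (Z 1) ≤ QQ (Z 0) := P.f3 h01 (F.XQ _ h1) (hpc _ _ h01)
  have hne : Z 0 ≠ Z 1 := by
    intro e
    apply h.ne
    rw [← e]
    exact (eab_iff.1 (F.eab _ h0)).1
  apply h.ne
  intro x hx
  refine mem_centralizer_iff.2 fun y hy => ?_
  have e1 : x * y * x⁻¹ * y⁻¹ ∈ Z 0 := F.com _ h0 x hx y (hX1 hy)
  have e2 : x * y * x⁻¹ * y⁻¹ ∈ Z 1 := by
    have := inv_mem (F.com _ h1 y hy x (hX0 hx))
    have e : (y * x * y⁻¹ * x⁻¹)⁻¹ = x * y * x⁻¹ * y⁻¹ := by group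
    rwa [e] at this
  have e3 := ti_one hti h0 h1 hne e1 e2
  calc y * x = (x * y * x⁻¹ * y⁻¹)⁻¹ * (x * y) := by group
    _ = x * y := by rw [e3, inv_one, one_mul]

/-- some `m ∈ C_{N_b}(N_a)`, `m ∈ Q_a`, moves `X_a`: `a ≤ N_b` -/
theorem pt_le (hS : Sur Z U) {m : G} (hm : m ∈ NN Z b ⊓ centralizer (NN Z a : Set G)) (hmQ : m ∈ QQ a)
    (hmX : m ∉ centralizer (XW Z U a : Set G)) (hn : XW Z U a ≤ normalizer (NN Z b : Set G)) : a ≤ NN Z b := by
  obtain ⟨l, hl, hml⟩ : ∃ l, LnOn Z U a l ∧ m ∉ centralizer (l : Set G) := by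
    by_contra hcon
    push Not at hcon
    apply hmX
    have h1 : XW Z U a ≤ centralizer ({m} : Set G) := by
      refine sup_le (fun n hn => ?_) (iSup_le fun l n hn => ?_)
      · exact mem_centralizer_singleton_iff.2 (mem_centralizer_iff.1 hm.2 n hn)
      · exact mem_centralizer_singleton_iff.2 (mem_centralizer_iff.1 (hcon l l.2) n hn)
    exact mem_centralizer_iff.2 fun x hx => mem_centralizer_singleton_iff.1 (h1 hx)
  intro z hz
  obtain ⟨x, hx, e⟩ := hS.ln hl hmQ hml hz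
  rw [← e]
  exact mul_mem ((mem_normalizer_iff.1 (hn (ln_le_XW hl hx)) m).1 hm.1) (inv_mem hm.1)

/-- **THE REDUCTION** with `(1a)` for `[N_a, N_b] ≠ 1` only. -/
theorem redI (P : PP Z U) (F : XF Z (XW Z U)) (hN : NobX Z (XW Z U)) (hti : TIp Z) (hNO : NoP Z)
    (hG : TA' Z (XW Z U)) (hS : Sur Z U) (h : CX Z (XW Z U) d a b) : a ≤ NN Z b ∨ b ≤ NN Z a := by
  obtain ⟨a', b', ha', hb', hXa, hXb⟩ := h.ends P F
  have hc := crQ P F hN hti hNO h
  have hap : IsPt Z a := PP.pth_pt h.pth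
  have hbp : IsPt Z b := P.pth_pt' h.pth
  rcases hc.dich with h1 | ⟨m, hm, hmX⟩
  · right
    by_cases hNN : NN Z a ≤ centralizer (NN Z b : Set G)
    · -- `N_a` moves `X_b`
      obtain ⟨n, hn, hnX⟩ : ∃ n ∈ NN Z a, n ∉ centralizer (XW Z U b : Set G) := by
        by_contra hcon
        push Not at hcon
        exact h.ne (h1.trans (sup_le hcon inf_le_right))
      have hQ : XW Z U a ⊓ centralizer (NN Z b : Set G) ≤ QQ b :=
        P.f3 (P.adj_symm hb') (inf_le_left.trans hXa) inf_le_right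
      exact pt_le hS ⟨hn, hNN hn⟩ (hQ ⟨F.NX a hap hn, hNN hn⟩) hnX hc.YnN
    · exact (hG d a b h hNN h1).elim
  · left
    have hQ : XW Z U b ⊓ centralizer (NN Z a : Set G) ≤ QQ a :=
      P.f3 (P.adj_symm ha') (inf_le_left.trans hXb) inf_le_right
    exact pt_le hS hm (hQ ⟨F.NX b hbp hm.1, hm.2⟩) hmX hc.XnM

/-- no point of a critical pair at distance two is in the `N` of the other one -/
theorem two_aux (P : PP Z U) (F : XF Z (XW Z U))
    (hdis : ∀ a u b : Subgroup G, Adj Z u b → IsPt Z a → a ≤ NN Z u → a ≤ NN Z b → a = u ∨ a = b)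
    (h : CX Z (XW Z U) 1 a b) (h1 : a ≤ NN Z b) : False := by
  have h2 := h.pth
  have hap : IsPt Z a := PP.pth_pt h2
  cases h2 with
  | @succ _ _ u _ h3 h4 =>
    cases h3 with
    | @succ _ _ v _ h5 h6 =>
      cases h5 with
      | zero h7 =>
        rcases hdis a u b h4 hap (P.adj_symm h6).le_NN h1 with h8 | h8
        · subst h8
          exact h.ne (h.com 1 le_rfl _ _ (PP.pth_one h4))
        · subst h8
          exact h.ne (eab_iff.1 (F.eab a hap)).1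

/-- **`X`-distance `2` is impossible** if the only points in `N_u ∩ N_b`, `u ~ b`, are `u` and `b`. -/
theorem false_of_twoI (P : PP Z U) (F : XF Z (XW Z U)) (hN : NobX Z (XW Z U)) (hti : TIp Z) (hNO : NoP Z)
    (hG : TA' Z (XW Z U)) (hS : Sur Z U)
    (hdis : ∀ a u b : Subgroup G, Adj Z u b → IsPt Z a → a ≤ NN Z u → a ≤ NN Z b → a = u ∨ a = b)
    (h : CX Z (XW Z U) 1 a b) : False := by
  rcases redI P F hN hti hNO hG hS h with h1 | h1
  · exact two_aux P F hdis h h1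
  · exact two_aux P F hdis (h.symm P) h1

/-- **(E): THEOREM PC, `(1a)` (for `[N_a, N_b] ≠ 1`), `(1b)`, and no point `≠ a, b` in `N_a ∩ N_b`, `a ~ b`:
contradiction.** -/
theorem false_of_pc (P : PP Z U) (hab : IsElementaryAbelian 2 (XW Z U (Z 0)))
    (hle : XW Z U (Z 0) ≤ QQ (Z 0)) (hN : NobX Z (XW Z U)) (hti : TIp Z) (hNO : NoP Z) (hG : TA' Z (XW Z U))
    (hB : TB Z (XW Z U)) (hfx : FixN Z) (hS : Sur Z U)
    (hdis : ∀ a u b : Subgroup G, Adj Z u b → IsPt Z a → a ≤ NN Z u → a ≤ NN Z b → a = u ∨ a = b)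
    (hpc : ∀ a u : Subgroup G, Adj Z a u → XW Z U u ≤ centralizer (NN Z a : Set G)) : False := by
  rcases exists_cx P hab hle hN hti hNO hB hfx with h | ⟨a, b, h⟩
  · exact zero_of P (xf P hab hle) hti hpc h
  · exact false_of_twoI P (xf P hab hle) hN hti hNO hG hS hdis h

end Cfsg.Agent.Omega.OM.PG.TwoI
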