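import Cfsg.Agent.Omega.NO3b.NoEmp
import Cfsg.Agent.Omega.OM.PG.Peel
import Cfsg.Agent.ZN.Block

/-!
# EXACTNESS of a critical pair (helper609, TEXT R4 #19278 (1))

`Cr a b N M X Y`: `N ≤ X`, `M ≤ Y` elementary abelian, `X`, `Y` normalise each other, `N` and `M`;
`[X, C_Y(N)] ≤ a`, `[Y, C_X(M)] ≤ b`, `|a|, |b| ≤ 2`, `a ∩ b = 1`, and (NO) on `N` and `M`.

* `Cr.sup_eq` : `N C_X(M) = N C_X(Y)`;
* `Cr.dich` : `X = N C_X(Y)`, or `a = [x, m]` for some `x ∈ X`, `m ∈ C_M(N)`, and `a ≤ M`;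
* `Cr.red` : the reduction, with THEOREM G (if `[X, Y] ≤ N`, then `Y` centralises `N`);
* `CX Z X d a b` : a critical pair of the frame; `CX.cr` : it is a `Cr`; `CX.red` : the reduction;
  `CX.false_of_two` : no pair at distance `2` if `N_a ∩ N_u = 1` for `a ~ u`;
* `dist_one` : without radical the pair `(Z 0, Z 1)` is critical.
-/

set_option autoImplicit false
set_option linter.unusedSectionVars false

namespace Cfsg.Agent.Omega.OM.PG

open Subgroup Cfsg
open Cfsg.Agent.Omega.NO3b.NoEmp (comm_mem relIndex_le_of_pairing)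
open scoped commutatorElement

universe u

variable {G : Type u} [Group G]

/-- The data of a critical pair. -/
structure Cr (a b N M X Y : Subgroup G) : Prop where
  NX : N ≤ X
  MY : M ≤ Y
  Xc : ∀ x ∈ X, ∀ y ∈ X, x * y = y * x
  Yc : ∀ x ∈ Y, ∀ y ∈ Y, x * y = y * x
  XnY : X ≤ normalizer (Y : Set G)
  YnX : Y ≤ normalizer (X : Set G)
  XnM : X ≤ normalizer (M : Set G)
  YnN : Y ≤ normalizer (N : Set G)
  ca : ⁅X, Y ⊓ centralizer (N : Set G)⁆ ≤ a
  cb : ⁅Y, X ⊓ centralizer (M : Set G)⁆ ≤ b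
  /-- `|a| ≤ 2` -/
  a2 : ∀ x ∈ a, ∀ y ∈ a, x ≠ 1 → y ≠ 1 → x = y
  b2 : ∀ x ∈ b, ∀ y ∈ b, x ≠ 1 → y ≠ 1 → x = y
  ab : a ⊓ b = ⊥
  noN : Nat.card Y * Nat.card (N ⊓ centralizer (Y : Set G) : Subgroup G) ≤
    Nat.card (Y ⊓ centralizer (N : Set G) : Subgroup G) * Nat.card N
  noM : Nat.card X * Nat.card (M ⊓ centralizer (X : Set G) : Subgroup G) ≤
    Nat.card (X ⊓ centralizer (M : Set G) : Subgroup G) * Nat.card M

theorem card_mul_relIndex' {H K : Subgroup G} (h : H ≤ K) : Nat.card H * H.relIndex K = Nat.card K := by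
  rw [← relIndex_bot_left (H := H), ← relIndex_bot_left (H := K)]
  exact relIndex_mul_relIndex _ _ _ bot_le h

namespace Cr

theorem symm {a b N M X Y : Subgroup G} (h : Cr a b N M X Y) : Cr b a M N Y X where
  NX := h.MY
  MY := h.NX
  Xc := h.Yc
  Yc := h.Xc
  XnY := h.YnX
  YnX := h.XnY
  XnM := h.YnN
  YnN := h.XnM
  ca := h.cb
  cb := h.ca
  a2 := h.b2
  b2 := h.a2
  ab := by rw [inf_comm]; exact h.ab
  noN := h.noM
  noM := h.noN

theorem nor_inf_cent {X Y N : Subgroup G} (h1 : X ≤ normalizer (Y : Set G)) (h2 : X ≤ normalizer (N : Set G)) :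
    X ≤ normalizer ((Y ⊓ centralizer (N : Set G) : Subgroup G) : Set G) := by
  intro x hx
  rw [mem_normalizer_iff]
  intro y
  have hc : ∀ x ∈ X, ∀ y, y ∈ Y ⊓ centralizer (N : Set G) → x * y * x⁻¹ ∈ Y ⊓ centralizer (N : Set G) := by
    intro x hx y hy
    refine ⟨(mem_normalizer_iff.1 (h1 hx) y).1 hy.1, mem_centralizer_iff.2 fun n hn => ?_⟩
    have h3 : x⁻¹ * n * x ∈ N := by
      have h4 := (mem_normalizer_iff.1 (inv_mem (h2 hx)) n).1 hn
      rwa [inv_inv] at h4
    have h5 := mem_centralizer_iff.1 hy.2 _ h3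
    calc n * (x * y * x⁻¹) = x * ((x⁻¹ * n * x) * y) * x⁻¹ := by group
      _ = x * (y * (x⁻¹ * n * x)) * x⁻¹ := by rw [h5]
      _ = x * y * x⁻¹ * n := by group
  refine ⟨hc x hx y, fun hy => ?_⟩
  have h3 := hc x⁻¹ (inv_mem hx) _ hy
  have e : x⁻¹ * (x * y * x⁻¹) * x⁻¹⁻¹ = y := by group
  rwa [e] at h3

variable [Finite G] {a b N M X Y : Subgroup G}

/-- `|F| |N E| ≤ |L| |X|` for `F ≤ Y`, `[X, F] ≤ a`, `|a| = 2`. -/
theorem card_le_of_two {F U : Subgroup G} (Fc : ∀ x ∈ F, ∀ y ∈ F, x * y = y * x)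
    (Xc : ∀ x ∈ X, ∀ y ∈ X, x * y = y * x) (hXF : X ≤ normalizer (F : Set G)) (hFX : F ≤ normalizer (X : Set G))
    (ha : ⁅X, F⁆ ≤ a) (a2 : ∀ x ∈ a, ∀ y ∈ a, x ≠ 1 → y ≠ 1 → x = y) (hU : U ≤ X) (hUF : U ≤ centralizer (F : Set G)) :
    Nat.card F * Nat.card U ≤ Nat.card (F ⊓ centralizer (X : Set G) : Subgroup G) * Nat.card X := by
  have hcardX : Nat.card X = (centralizer (F : Set G)).relIndex X *
      Nat.card (X ⊓ centralizer (F : Set G) : Subgroup G) := by
    rw [← Subgroup.inf_relIndex_left, mul_comm]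
    exact (card_mul_relIndex' inf_le_left).symm
  have hcardF : Nat.card F = (centralizer (X : Set G)).relIndex F *
      Nat.card (F ⊓ centralizer (X : Set G) : Subgroup G) := by
    rw [← Subgroup.inf_relIndex_left, mul_comm]
    exact (card_mul_relIndex' inf_le_left).symm
  have hUle : Nat.card U ≤ Nat.card (X ⊓ centralizer (F : Set G) : Subgroup G) :=
    Subgroup.card_le_of_le (le_inf hU hUF)
  have hrel : (centralizer (X : Set G)).relIndex F ≤ (centralizer (F : Set G)).relIndex X := by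
    by_cases hc : F ≤ centralizer (X : Set G)
    · have h1 : (centralizer (X : Set G)).relIndex F = 1 := Subgroup.relIndex_eq_one.2 hc
      rw [h1]
      exact Nat.one_le_iff_ne_zero.2 index_ne_zero_of_finite
    · obtain ⟨f, hf, hfc⟩ := SetLike.not_le_iff_exists.1 hc
      have hex : ∃ x ∈ X, ⁅f, x⁆ ≠ 1 := by
        by_contra hcon
        push Not at hcon
        apply hfc
        rw [mem_centralizer_iff]
        intro x hx
        exact (commutatorElement_eq_one_iff_mul_comm.1 (hcon x hx)).symm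
      obtain ⟨x, hx, hfx⟩ := hex
      have hmema : ∀ f ∈ F, ∀ x ∈ X, ⁅f, x⁆ ∈ a := by
        intro f hf x hx
        have h1 : ⁅x, f⁆ ∈ a := ha (commutator_mem_commutator hx hf)
        rw [← commutatorElement_inv]
        exact inv_mem h1
      have huniq : ∀ g ∈ a, g ≠ 1 → g = ⁅f, x⁆ := fun g hg hg1 => a2 g hg _ (hmema f hf x hx) hg1 hfx
      let _ : CommGroup (F ⊓ X : Subgroup G) := { (inferInstance : Group (F ⊓ X : Subgroup G)) with
        mul_comm := fun a b => Subtype.ext (Fc a a.2.1 b b.2.1) }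
      obtain ⟨χ, hχ⟩ := CommGroup.exists_apply_ne_one_of_hasEnoughRootsOfUnity
        (F ⊓ X : Subgroup G) ℂ (a := (⟨⁅f, x⁆, comm_mem hXF hFX hf hx⟩ : (F ⊓ X : Subgroup G)))
        (fun h0 => hfx (congrArg Subtype.val h0))
      refine relIndex_le_of_pairing Xc Fc hXF hFX χ ?_
      intro v hv hall
      rw [mem_centralizer_iff]
      intro y hy
      by_contra hcon
      have h1 : ⁅v, y⁆ ≠ 1 := fun h => hcon (commutatorElement_eq_one_iff_mul_comm.1 h).symm
      have h2 := huniq _ (hmema v hv y hy) h1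
      apply hχ
      have e : (⟨⁅f, x⁆, comm_mem hXF hFX hf hx⟩ : (F ⊓ X : Subgroup G)) = ⟨⁅v, y⁆, comm_mem hXF hFX hv hy⟩ :=
        Subtype.ext h2.symm
      rw [e, hall y hy]
  calc Nat.card F * Nat.card U ≤ ((centralizer (X : Set G)).relIndex F *
        Nat.card (F ⊓ centralizer (X : Set G) : Subgroup G)) *
        Nat.card (X ⊓ centralizer (F : Set G) : Subgroup G) := by
        rw [← hcardF]; exact Nat.mul_le_mul_left _ hUle
    _ ≤ ((centralizer (F : Set G)).relIndex X * Nat.card (F ⊓ centralizer (X : Set G) : Subgroup G)) *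
        Nat.card (X ⊓ centralizer (F : Set G) : Subgroup G) :=
        Nat.mul_le_mul_right _ (Nat.mul_le_mul_right _ hrel)
    _ = Nat.card (F ⊓ centralizer (X : Set G) : Subgroup G) * Nat.card X := by rw [hcardX]; ring

variable (h : Cr a b N M X Y)
include h

theorem comm_EF : X ⊓ centralizer (M : Set G) ≤ centralizer ((Y ⊓ centralizer (N : Set G) : Subgroup G) : Set G) := by
  intro x hx
  rw [mem_centralizer_iff]
  intro y hy
  have h1 : ⁅x, y⁆ ∈ a := h.ca (commutator_mem_commutator hx.1 hy)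
  have h2 : ⁅y, x⁆ ∈ b := h.cb (commutator_mem_commutator hy.1 hx)
  rw [← commutatorElement_inv] at h2
  have h3 : ⁅x, y⁆ ∈ a ⊓ b := ⟨h1, (Subgroup.inv_mem_iff b).1 h2⟩
  rw [h.ab, mem_bot] at h3
  exact (commutatorElement_eq_one_iff_mul_comm.1 h3).symm

omit h in
theorem card_sup {X N K : Subgroup G} (Xc : ∀ x ∈ X, ∀ y ∈ X, x * y = y * x) (hN : N ≤ X) (hK : K ≤ X) :
    Nat.card N * Nat.card K = Nat.card (N ⊔ K : Subgroup G) * Nat.card (N ⊓ K : Subgroup G) := by
  have h1 : N ≤ normalizer (K : Set G) := by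
    refine le_trans (b := centralizer (K : Set G)) ?_ (centralizer_le_normalizer _)
    intro k hk
    rw [mem_centralizer_iff]
    intro n hn
    exact Xc _ (hK hn) _ (hN hk)
  exact (Cfsg.Agent.ZN.Block.card_sup_mul_card_inf h1).symm

theorem dualX : Nat.card (Y ⊓ centralizer (N : Set G) : Subgroup G) *
    Nat.card (N ⊔ (X ⊓ centralizer (M : Set G)) : Subgroup G) ≤
    Nat.card (Y ⊓ centralizer (X : Set G) : Subgroup G) * Nat.card X := by
  have hY : ∀ x ∈ Y ⊓ centralizer (N : Set G), ∀ y ∈ Y ⊓ centralizer (N : Set G), x * y = y * x :=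
    fun x hx y hy => h.Yc x hx.1 y hy.1
  have h1 := card_le_of_two (F := Y ⊓ centralizer (N : Set G)) (U := N ⊔ (X ⊓ centralizer (M : Set G))) hY h.Xc
    (nor_inf_cent h.XnY (le_trans (b := centralizer (N : Set G))
      (fun x hx => mem_centralizer_iff.2 fun y hy => h.Xc _ (h.NX hy) _ hx) (centralizer_le_normalizer _))) (inf_le_left.trans h.YnX) h.ca h.a2 (sup_le h.NX inf_le_left)
    (sup_le ?_ h.comm_EF)
  · have e : Y ⊓ centralizer (N : Set G) ⊓ centralizer (X : Set G) = Y ⊓ centralizer (X : Set G) := by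
      refine le_antisymm (inf_le_inf_right _ inf_le_left) (le_inf (le_inf inf_le_left ?_) inf_le_right)
      exact inf_le_right.trans (centralizer_le h.NX)
    rwa [e] at h1
  · rw [le_centralizer_iff]
    exact inf_le_right

theorem NK_le : N ⊔ (X ⊓ centralizer (Y : Set G)) ≤ N ⊔ (X ⊓ centralizer (M : Set G)) :=
  sup_le_sup_left (inf_le_inf_left _ (centralizer_le h.MY)) _

/-- `|Y| |K| |N E| ≤ |L| |X| |N K|` -/
theorem chain : Nat.card Y * Nat.card (X ⊓ centralizer (Y : Set G) : Subgroup G) *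
    Nat.card (N ⊔ (X ⊓ centralizer (M : Set G)) : Subgroup G) ≤
    Nat.card (Y ⊓ centralizer (X : Set G) : Subgroup G) * Nat.card X *
      Nat.card (N ⊔ (X ⊓ centralizer (Y : Set G)) : Subgroup G) := by
  have h1 := h.noN
  have h2 := h.dualX
  have h3 := card_sup h.Xc h.NX (inf_le_left : X ⊓ centralizer (Y : Set G) ≤ X)
  have e : N ⊓ (X ⊓ centralizer (Y : Set G)) = N ⊓ centralizer (Y : Set G) := by
    rw [← inf_assoc, inf_eq_left.2 h.NX]
  rw [e] at h3
  have hpos : 0 < Nat.card (N ⊓ centralizer (Y : Set G) : Subgroup G) := Nat.card_pos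
  refine Nat.le_of_mul_le_mul_right ?_ hpos
  calc Nat.card Y * Nat.card (X ⊓ centralizer (Y : Set G) : Subgroup G) *
        Nat.card (N ⊔ (X ⊓ centralizer (M : Set G)) : Subgroup G) *
        Nat.card (N ⊓ centralizer (Y : Set G) : Subgroup G)
      = (Nat.card Y * Nat.card (N ⊓ centralizer (Y : Set G) : Subgroup G)) *
        (Nat.card (X ⊓ centralizer (Y : Set G) : Subgroup G) *
        Nat.card (N ⊔ (X ⊓ centralizer (M : Set G)) : Subgroup G)) := by ring
    _ ≤ (Nat.card (Y ⊓ centralizer (N : Set G) : Subgroup G) * Nat.card N) *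
        (Nat.card (X ⊓ centralizer (Y : Set G) : Subgroup G) *
        Nat.card (N ⊔ (X ⊓ centralizer (M : Set G)) : Subgroup G)) := Nat.mul_le_mul_right _ h1
    _ = (Nat.card (Y ⊓ centralizer (N : Set G) : Subgroup G) *
        Nat.card (N ⊔ (X ⊓ centralizer (M : Set G)) : Subgroup G)) *
        (Nat.card N * Nat.card (X ⊓ centralizer (Y : Set G) : Subgroup G)) := by ring
    _ ≤ (Nat.card (Y ⊓ centralizer (X : Set G) : Subgroup G) * Nat.card X) *
        (Nat.card N * Nat.card (X ⊓ centralizer (Y : Set G) : Subgroup G)) := Nat.mul_le_mul_right _ h2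
    _ = _ := by rw [h3]; ring

/-- `|Y : C_Y(X)| = |X : C_X(Y)|` -/
theorem card_eq : Nat.card Y * Nat.card (X ⊓ centralizer (Y : Set G) : Subgroup G) =
    Nat.card X * Nat.card (Y ⊓ centralizer (X : Set G) : Subgroup G) := by
  have key : ∀ {a b N M X Y : Subgroup G}, Cr a b N M X Y →
      Nat.card Y * Nat.card (X ⊓ centralizer (Y : Set G) : Subgroup G) ≤
      Nat.card X * Nat.card (Y ⊓ centralizer (X : Set G) : Subgroup G) := by
    intro a b N M X Y h
    have h1 := h.chain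
    have h2 : Nat.card (N ⊔ (X ⊓ centralizer (Y : Set G)) : Subgroup G) ≤
        Nat.card (N ⊔ (X ⊓ centralizer (M : Set G)) : Subgroup G) := Subgroup.card_le_of_le h.NK_le
    have hpos : 0 < Nat.card (N ⊔ (X ⊓ centralizer (M : Set G)) : Subgroup G) := Nat.card_pos
    refine Nat.le_of_mul_le_mul_right (h1.trans ?_) hpos
    rw [mul_comm (Nat.card (Y ⊓ centralizer (X : Set G) : Subgroup G)) (Nat.card X)]
    exact Nat.mul_le_mul_left _ h2
  exact le_antisymm (key h) (key h.symm)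

/-- **EXACTNESS.** `N C_X(M) = N C_X(Y)` -/
theorem sup_eq : N ⊔ (X ⊓ centralizer (M : Set G)) = N ⊔ (X ⊓ centralizer (Y : Set G)) := by
  refine (Subgroup.eq_of_le_of_card_ge h.NK_le ?_).symm
  have h1 := h.chain
  rw [h.card_eq, mul_comm (Nat.card X)] at h1
  refine Nat.le_of_mul_le_mul_left h1 ?_
  exact Nat.mul_pos Nat.card_pos Nat.card_pos

/-- **The dichotomy.** `X = N C_X(Y)`, or `a = [x, m]` for some `x ∈ X`, `m ∈ C_M(N)`. -/
theorem dich : X ≤ N ⊔ (X ⊓ centralizer (Y : Set G)) ∨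
    (a ≤ M ∧ ∃ x ∈ X, ∃ m ∈ M ⊓ centralizer (N : Set G), ⁅x, m⁆ ≠ 1 ∧ ∀ g ∈ a, g = 1 ∨ g = ⁅x, m⁆) := by
  by_cases hX : X ≤ N ⊔ (X ⊓ centralizer (Y : Set G))
  · exact Or.inl hX
  right
  -- `C_Y(N)` does not centralise `X`
  have hF : ¬ Y ⊓ centralizer (N : Set G) ≤ centralizer (X : Set G) := by
    intro hF
    apply hX
    have hL : Y ⊓ centralizer (X : Set G) = Y ⊓ centralizer (N : Set G) :=
      le_antisymm (inf_le_inf_left _ (centralizer_le h.NX)) (le_inf inf_le_left hF)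
    -- `|Y| |N ∩ C(Y)| ≤ |L| |N|`
    have h1 := h.noN
    rw [← hL] at h1
    have h3 := card_sup h.Xc h.NX (inf_le_left : X ⊓ centralizer (Y : Set G) ≤ X)
    have e : N ⊓ (X ⊓ centralizer (Y : Set G)) = N ⊓ centralizer (Y : Set G) := by
      rw [← inf_assoc, inf_eq_left.2 h.NX]
    rw [e] at h3
    have h4 := h.card_eq
    have hposn : 0 < Nat.card (N ⊓ centralizer (Y : Set G) : Subgroup G) := Nat.card_pos
    have hposl : 0 < Nat.card (Y ⊓ centralizer (X : Set G) : Subgroup G) := Nat.card_pos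
    have h5 : N ⊔ (X ⊓ centralizer (Y : Set G)) = X := by
      refine Subgroup.eq_of_le_of_card_ge (sup_le h.NX inf_le_left) ?_
      refine Nat.le_of_mul_le_mul_right ?_ (Nat.mul_pos hposl hposn)
      calc Nat.card X * (Nat.card (Y ⊓ centralizer (X : Set G) : Subgroup G) *
            Nat.card (N ⊓ centralizer (Y : Set G) : Subgroup G))
          = (Nat.card Y * Nat.card (N ⊓ centralizer (Y : Set G) : Subgroup G)) *
            Nat.card (X ⊓ centralizer (Y : Set G) : Subgroup G) := by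
            rw [← mul_assoc, ← h4]; ring
        _ ≤ (Nat.card (Y ⊓ centralizer (X : Set G) : Subgroup G) * Nat.card N) *
            Nat.card (X ⊓ centralizer (Y : Set G) : Subgroup G) := Nat.mul_le_mul_right _ h1
        _ = Nat.card (Y ⊓ centralizer (X : Set G) : Subgroup G) *
            (Nat.card N * Nat.card (X ⊓ centralizer (Y : Set G) : Subgroup G)) := by ring
        _ = _ := by rw [h3]; ring
    exact h5.ge
  obtain ⟨f, hf, hfX⟩ := SetLike.not_le_iff_exists.1 hF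
  -- `f = m l`
  have h1 : f ∈ M ⊔ (Y ⊓ centralizer (X : Set G)) := by
    rw [← h.symm.sup_eq]
    exact le_sup_right (a := M) hf
  have hYn : (Y ⊓ centralizer (X : Set G) : Subgroup G) ≤ normalizer (M : Set G) := by
    refine le_trans (b := centralizer (M : Set G)) ?_ (centralizer_le_normalizer _)
    intro k hk
    rw [mem_centralizer_iff]
    intro n hn
    exact h.Yc _ (h.MY hn) _ hk.1
  rw [sup_comm, ← SetLike.mem_coe, Subgroup.coe_mul_of_left_le_normalizer_right _ _ hYn] at h1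
  obtain ⟨l, hl, m, hm, hlm⟩ := h1
  simp only at hlm
  have hm' : m = l⁻¹ * f := by rw [← hlm]; group
  have hmN : m ∈ centralizer (N : Set G) := by
    rw [hm']
    exact mul_mem (inv_mem (centralizer_le h.NX hl.2)) hf.2
  have hmX : m ∉ centralizer (X : Set G) := by
    intro hmX
    apply hfX
    rw [← hlm]
    exact mul_mem hl.2 hmX
  have hex : ∃ x ∈ X, ⁅x, m⁆ ≠ 1 := by
    by_contra hcon
    push Not at hcon
    apply hmX
    rw [mem_centralizer_iff]
    intro x hx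
    exact commutatorElement_eq_one_iff_mul_comm.1 (hcon x hx)
  obtain ⟨x, hx, hxm⟩ := hex
  have hma : ⁅x, m⁆ ∈ a := h.ca (commutator_mem_commutator hx ⟨h.MY hm, hmN⟩)
  have huniq : ∀ g ∈ a, g = 1 ∨ g = ⁅x, m⁆ := by
    intro g hg
    by_cases hg1 : g = 1
    · exact Or.inl hg1
    · exact Or.inr (h.a2 g hg _ hma hg1 hxm)
  have hmM : ⁅x, m⁆ ∈ M := by
    rw [commutatorElement_def]
    exact mul_mem ((mem_normalizer_iff.1 (h.XnM hx) m).1 hm) (inv_mem hm)
  refine ⟨fun g hg => ?_, x, hx, m, ⟨hm, hmN⟩, hxm, huniq⟩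
  rcases huniq g hg with h0 | h0
  · rw [h0]; exact one_mem M
  · rw [h0]; exact hmM

/-- **THE REDUCTION** (TEXT R5 #19750 (3)): with THEOREM G for `X` (a group centralising `X / N` centralises `N`) and
`[X, Y] ≠ 1`. -/
theorem red (hne : ¬ Y ≤ centralizer (X : Set G))
    (hG : (∀ x ∈ X, ∀ y ∈ Y, ⁅x, y⁆ ∈ N) → Y ≤ centralizer (N : Set G)) :
    a ≤ M ∧ ∃ x ∈ X, ∃ m ∈ M ⊓ centralizer (N : Set G), ⁅x, m⁆ ≠ 1 ∧ ∀ g ∈ a, g = 1 ∨ g = ⁅x, m⁆ := by
  rcases h.dich with h1 | h1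
  · exfalso
    have hXn : (X ⊓ centralizer (Y : Set G) : Subgroup G) ≤ normalizer (N : Set G) := by
      refine le_trans (b := centralizer (N : Set G)) ?_ (centralizer_le_normalizer _)
      intro k hk
      rw [mem_centralizer_iff]
      intro n hn
      exact h.Xc _ (h.NX hn) _ hk.1
    have h2 : ∀ x ∈ X, ∃ k ∈ X ⊓ centralizer (Y : Set G), ∃ n ∈ N, x = k * n := by
      intro x hx
      have h3 := h1 hx
      rw [sup_comm, ← SetLike.mem_coe, Subgroup.coe_mul_of_left_le_normalizer_right _ _ hXn] at h3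
      obtain ⟨k, hk, n, hn, hkn⟩ := h3
      exact ⟨k, hk, n, hn, hkn.symm⟩
    have h3 : Y ≤ centralizer (N : Set G) := by
      refine hG fun x hx y hy => ?_
      obtain ⟨k, hk, n, hn, rfl⟩ := h2 x hx
      have h4 : y * k = k * y := mem_centralizer_iff.1 hk.2 y hy
      have h5 : y * n * y⁻¹ ∈ N := (mem_normalizer_iff.1 (h.YnN hy) n).1 hn
      have h6 : k * (y * n⁻¹ * y⁻¹) = (y * n⁻¹ * y⁻¹) * k := by
        refine h.Xc _ hk.1 _ (h.NX ?_)
        exact (mem_normalizer_iff.1 (h.YnN hy) _).1 (inv_mem hn)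
      have e : ⁅k * n, y⁆ = n * (y * n⁻¹ * y⁻¹) := by
        rw [commutatorElement_def]
        have hkn : k * n = n * k := h.Xc _ hk.1 _ (h.NX hn)
        have h7 : k * y * k⁻¹ = y := by rw [← h4]; group
        calc k * n * y * (k * n)⁻¹ * y⁻¹ = n * (k * y * k⁻¹) * n⁻¹ * y⁻¹ := by rw [hkn]; group
          _ = n * (y * n⁻¹ * y⁻¹) := by rw [h7]; group
      rw [e]
      exact mul_mem hn ((mem_normalizer_iff.1 (h.YnN hy) _).1 (inv_mem hn))
    apply hne
    intro y hy
    rw [mem_centralizer_iff]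
    intro x hx
    obtain ⟨k, hk, n, hn, rfl⟩ := h2 x hx
    have h4 : y * k = k * y := mem_centralizer_iff.1 hk.2 y hy
    have h5 : n * y = y * n := mem_centralizer_iff.1 (h3 hy) n hn
    rw [mul_assoc, h5, ← mul_assoc, ← h4, mul_assoc]
  · exact h1

end Cr

/-! ### Critical pairs of the frame -/

open Cfsg.Agent.ZN Cfsg.Agent.Omega.OM.PG.Peel
open Cfsg.Agent.Omega.NO3S.EThree Cfsg.Agent.Omega.NO3S.EThree.ExactA
open Cfsg.Agent.Omega.NoFF.Basic (comm_symm)
open scoped Pointwise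

/-- A critical pair `(a, b)`, at least `X`-distance `d + 1`. -/
structure CX (Z : Fin 2 → Subgroup G) (X : Subgroup G → Subgroup G) (d : ℕ) (a b : Subgroup G) : Prop where
  pth : Pth Z (d + 1) a b
  ne : ¬ X a ≤ centralizer (X b : Set G)
  com : ∀ m ≤ d, ∀ a b : Subgroup G, Pth Z m a b → X a ≤ centralizer (X b : Set G)

namespace CX

variable {Z U : Fin 2 → Subgroup G} {X : Subgroup G → Subgroup G} {d : ℕ} {a b : Subgroup G}

theorem symm (P : PP Z U) (h : CX Z X d a b) : CX Z X d b a :=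
  ⟨P.pth_symm h.pth, fun h1 => h.ne (comm_symm h1), h.com⟩

/-- `X_x ≤ Q_c` at distance less than the critical distance -/
theorem X_le_QQ (P : PP Z U) (F : XF Z X) (h : CX Z X d a b) :
    ∀ m ≤ d, ∀ x c : Subgroup G, Pth Z m x c → X x ≤ QQ c := by
  intro m
  induction m with
  | zero =>
    intro _ x c hx
    cases hx with
    | zero h0 => exact F.XQ _ h0
  | succ m ih =>
    intro hm x c hx
    have h1 := h.com _ hm x c hx
    have hcp := P.pth_pt' hx
    cases hx with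
    | succ h2 h3 =>
      exact P.f3 (P.adj_symm h3) (ih (by omega) _ _ h2) (h1.trans (centralizer_le (F.NX _ hcp)))

theorem nor_X (F : XF Z X) {a : Subgroup G} (ha : IsPt Z a) : HH a ≤ normalizer (X a : Set G) := by
  intro g hg
  have h0 : MulAut.conj g • a = a := Cfsg.Agent.Omega.NOThreeL.Pair.conj_eq_of_mem hg
  refine ChoiceBase.mem_normalizer_iff_cj.2 ?_
  change MulAut.conj g • X a = X a
  rw [← F.conj g a ha, h0]

/-- The ends of the path. -/
theorem ends (P : PP Z U) (F : XF Z X) (h : CX Z X d a b) :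
    ∃ a' b', Adj Z a' a ∧ Adj Z b' b ∧ X a ≤ QQ b' ∧ X b ≤ QQ a' := by
  have hp := h.pth
  have hp' := P.pth_symm h.pth
  cases hp with
  | @succ _ _ b' _ h1 h2 =>
    cases hp' with
    | @succ _ _ a' _ h4 h5 =>
      exact ⟨a', b', h5, h2, h.X_le_QQ P F _ le_rfl _ _ h1, h.X_le_QQ P F _ le_rfl _ _ h4⟩

variable [Finite G]

/-- A critical pair is a `Cr`. -/
theorem cr (P : PP Z U) (F : XF Z X) (hc2 : Nat.card (Z 0) = 2) (hNO : NoP Z) (h : CX Z X d a b) :
    Cr a b (NN Z a) (NN Z b) (X a) (X b) := by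
  obtain ⟨a', b', ha', hb', hXa, hXb⟩ := h.ends P F
  have hap : IsPt Z a := PP.pth_pt h.pth
  have hbp : IsPt Z b := P.pth_pt' h.pth
  have two : ∀ {a : Subgroup G}, IsPt Z a → ∀ x ∈ a, ∀ y ∈ a, x ≠ 1 → y ≠ 1 → x = y := by
    intro a ha x hx y hy hx1 hy1
    obtain ⟨c, -, -, -, hall, -⟩ := pt_two hc2 ha
    rw [(hall x hx).resolve_left hx1, (hall y hy).resolve_left hy1]
  have card : ∀ {N B : Subgroup G}, (centralizer (N : Set G)).relIndex B ≤ (centralizer (B : Set G)).relIndex N →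
      Nat.card B * Nat.card (N ⊓ centralizer (B : Set G) : Subgroup G) ≤
        Nat.card (B ⊓ centralizer (N : Set G) : Subgroup G) * Nat.card N := by
    intro N B h1
    have h2 : Nat.card (B ⊓ centralizer (N : Set G) : Subgroup G) * (centralizer (N : Set G)).relIndex B =
        Nat.card B := by
      rw [← Subgroup.inf_relIndex_left]
      exact card_mul_relIndex' inf_le_left
    have h3 : Nat.card (N ⊓ centralizer (B : Set G) : Subgroup G) * (centralizer (B : Set G)).relIndex N =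
        Nat.card N := by
      rw [← Subgroup.inf_relIndex_left]
      exact card_mul_relIndex' inf_le_left
    calc Nat.card B * Nat.card (N ⊓ centralizer (B : Set G) : Subgroup G)
        = (Nat.card (B ⊓ centralizer (N : Set G) : Subgroup G) *
          Nat.card (N ⊓ centralizer (B : Set G) : Subgroup G)) * (centralizer (N : Set G)).relIndex B := by
          rw [← h2]; ring
      _ ≤ (Nat.card (B ⊓ centralizer (N : Set G) : Subgroup G) *
          Nat.card (N ⊓ centralizer (B : Set G) : Subgroup G)) * (centralizer (B : Set G)).relIndex N :=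
          Nat.mul_le_mul_left _ h1
      _ = Nat.card (B ⊓ centralizer (N : Set G) : Subgroup G) *
          (Nat.card (N ⊓ centralizer (B : Set G) : Subgroup G) * (centralizer (B : Set G)).relIndex N) := by ring
      _ = _ := by rw [h3]
  have hcc : ∀ {a b a' : Subgroup G}, IsPt Z a → Adj Z a' a → X b ≤ QQ a' →
      ⁅X a, X b ⊓ centralizer (NN Z a : Set G)⁆ ≤ a := by
    intro a b a' ha ha' hXb
    rw [commutator_le]
    intro x hx y hy
    have h1 : X b ⊓ centralizer (NN Z a : Set G) ≤ QQ a :=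
      P.f3 (P.adj_symm ha') (inf_le_left.trans hXb) inf_le_right
    exact F.com a ha x hx y (h1 hy)
  exact
  { NX := F.NX a hap
    MY := F.NX b hbp
    Xc := fun x hx y hy => (mem_centralizer_iff.1 ((eab_iff.1 (F.eab a hap)).1 hy) x hx)
    Yc := fun x hx y hy => (mem_centralizer_iff.1 ((eab_iff.1 (F.eab b hbp)).1 hy) x hx)
    XnY := (hXa.trans (P.QQ_le_HH (P.adj_symm hb'))).trans (nor_X F hbp)
    YnX := (hXb.trans (P.QQ_le_HH (P.adj_symm ha'))).trans (nor_X F hap)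
    XnM := (hXa.trans (P.QQ_le_HH (P.adj_symm hb'))).trans (PP.HH_le_NN b)
    YnN := (hXb.trans (P.QQ_le_HH (P.adj_symm ha'))).trans (PP.HH_le_NN a)
    ca := hcc hap ha' hXb
    cb := hcc hbp hb' hXa
    a2 := two hap
    b2 := two hbp
    ab := by
      rw [eq_bot_iff]
      intro x hx
      refine mem_bot.2 (pt_inf hc2 hap hbp ?_ hx.1 hx.2)
      rintro rfl
      exact h.ne (eab_iff.1 (F.eab a hap)).1
    noN := card (hNO a' a ha' (X b) (F.eab b hbp) hXb)
    noM := card (hNO b' b hb' (X a) (F.eab a hap) hXa) }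

/-- **THE REDUCTION** (TEXT R5 #19750 (3)). -/
theorem red (P : PP Z U) (F : XF Z X) (hc2 : Nat.card (Z 0) = 2) (hNO : NoP Z) (hG : ThmG Z X)
    (h : CX Z X d a b) : a ≤ NN Z b ∧ ∃ x ∈ X a, ∃ m ∈ NN Z b ⊓ centralizer (NN Z a : Set G),
      ⁅x, m⁆ ≠ 1 ∧ ∀ g ∈ a, g = 1 ∨ g = ⁅x, m⁆ := by
  obtain ⟨a', b', ha', hb', hXa, hXb⟩ := h.ends P F
  refine (h.cr P F hc2 hNO).red (fun h1 => h.ne (comm_symm h1)) fun h1 y hy => ?_
  refine hG a (PP.pth_pt h.pth) y (P.QQ_le_HH (P.adj_symm ha') (hXb hy)) fun x hx => ?_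
  exact h1 x hx y hy

/-- **R4 (4)**: `X`-distance `2` is impossible without radical. -/
theorem false_of_two (P : PP Z U) (F : XF Z X) (hc2 : Nat.card (Z 0) = 2) (hNO : NoP Z) (hG : ThmG Z X)
    (hdis : ∀ a u : Subgroup G, Adj Z a u → NN Z a ⊓ NN Z u = ⊥) (h : CX Z X 1 a b) : False := by
  have h1 := (h.red P F hc2 hNO hG).1
  have h2 := h.pth
  have hap : IsPt Z a := PP.pth_pt h2
  cases h2 with
  | @succ _ _ u _ h3 h4 =>
    cases h3 with
    | @succ _ _ v _ h5 h6 =>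
      cases h5 with
      | zero h7 =>
        have h8 : a ≤ NN Z u ⊓ NN Z b := le_inf (P.adj_symm h6).le_NN h1
        rw [hdis u b h4] at h8
        obtain ⟨c, hc, hc1, -⟩ := pt_two hc2 hap
        exact hc1 (mem_bot.1 (h8 hc))

end CX

/-- **(E), no radical: `[X_1, X_2] ≠ 1`** (TEXT R4 #19278 (4), TEXT R5 #19750 (3), (4)), with the outcome of
EXACTNESS. -/
theorem dist_one [Finite G] {Z U : Fin 2 → Subgroup G} (P : PP Z U) (hab : IsElementaryAbelian 2 (XW Z U (Z 0)))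
    (hle : XW Z U (Z 0) ≤ QQ (Z 0)) (hc2 : Nat.card (Z 0) = 2) (hNO : NoP Z) (hG : ThmG Z (XW Z U))
    (hdis : NN Z (Z 0) ⊓ NN Z (Z 1) = ⊥) : CX Z (XW Z U) 0 (Z 0) (Z 1) := by
  have F := xf P hab hle
  obtain ⟨d, a, b, hd, hp, hne, hcom⟩ := far P hab hle hc2 hNO hG
  have hdis' : ∀ a u : Subgroup G, Adj Z a u → NN Z a ⊓ NN Z u = ⊥ := by
    rintro _ _ ⟨k, rfl, rfl⟩
    rw [NN_conj, NN_conj, ← Subgroup.smul_inf, hdis, Subgroup.smul_bot]
  have h : CX Z (XW Z U) d a b := ⟨hp, hne, hcom⟩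
  have hd' : d = 0 ∨ d = 1 := by omega
  rcases hd' with rfl | rfl
  · cases hp with
    | @succ _ _ u _ h1 h2 =>
      cases h1 with
      | zero h3 =>
        obtain ⟨k, rfl, rfl⟩ := h2
        refine ⟨PP.pth_one ⟨1, by rw [map_one, one_smul], by rw [map_one, one_smul]⟩, fun h4 => hne ?_, hcom⟩
        rw [XW_conj, XW_conj]
        exact Cfsg.Agent.Omega.NoFF.Basic.conj_le_centralizer h4
  · exact (h.false_of_two P F hc2 hNO hG hdis').elim

/-- The same, literally: `[X_1, X_2] ≠ 1`, and some `x ∈ X_1`, `m ∈ C_{N_2}(N_1)` with `Z_1 = ⟨[x, m]⟩`. -/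
theorem dist_one_red [Finite G] {Z U : Fin 2 → Subgroup G} (P : PP Z U)
    (hab : IsElementaryAbelian 2 (XW Z U (Z 0)))
    (hle : XW Z U (Z 0) ≤ QQ (Z 0)) (hc2 : Nat.card (Z 0) = 2) (hNO : NoP Z) (hG : ThmG Z (XW Z U))
    (hdis : NN Z (Z 0) ⊓ NN Z (Z 1) = ⊥) :
    ∃ x ∈ XW Z U (Z 0), ∃ m ∈ NN Z (Z 1) ⊓ centralizer (NN Z (Z 0) : Set G),
      ⁅x, m⁆ ≠ 1 ∧ ∀ g ∈ Z 0, g = 1 ∨ g = ⁅x, m⁆ :=
  ((dist_one P hab hle hc2 hNO hG hdis).red P (xf P hab hle) hc2 hNO hG).2

end Cfsg.Agent.Omega.OM.PG
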