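import Mathlib

/-!
# Two centres, `d = 1`, `[N₁, N₂] = 1` : the module part (helper609, TEXT R4 #19278 (5), (a)-(e))
-/

set_option autoImplicit false
set_option linter.unusedSectionVars false

namespace Cfsg.Agent.Omega.OM.PG.DOne

open Module

theorem z2 (c : ZMod 2) : c = 0 ∨ c = 1 := by revert c; decide

theorem z2n {c : ZMod 2} (h : c ≠ 0) : c = 1 := (z2 c).resolve_left h

section basic

variable {H M : Type*} [Group H] [AddCommGroup M] [Module (ZMod 2) M] [DistribMulAction H M]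

theorem smulc (h : H) (c : ZMod 2) (m : M) : h • (c • m) = c • (h • m) := by
  rcases z2 c with rfl | rfl <;> simp

/-- the action of an element as a linear map -/
def lact (g : H) : M →ₗ[ZMod 2] M where
  toFun m := g • m
  map_add' := smul_add g
  map_smul' c m := smulc g c m

@[simp] theorem lact_apply (g : H) (m : M) : lact g m = g • m := rfl

/-- `φ` is the functional of a transvection with centre `u` in the image of `H`, or `0`. -/
def Ph (H : Type*) {M : Type*} [Group H] [AddCommGroup M] [Module (ZMod 2) M] [DistribMulAction H M] (u : M)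
    (φ : Dual (ZMod 2) M) : Prop := φ u = 0 ∧ ∃ h : H, ∀ m, h • m = m + φ m • u

theorem add_self' (m : M) : m + m = 0 := ZModModule.add_self m

theorem Ph.zero (u : M) : Ph H u 0 := ⟨rfl, 1, fun m => by simp⟩

theorem Ph.add {u : M} {φ ψ : Dual (ZMod 2) M} (h1 : Ph H u φ) (h2 : Ph H u ψ) : Ph H u (φ + ψ) := by
  obtain ⟨e1, a, ha⟩ := h1
  obtain ⟨e2, b, hb⟩ := h2
  refine ⟨by simp [e1, e2], b * a, fun m => ?_⟩
  rw [mul_smul, ha, smul_add, smulc, hb m, hb u, e2, zero_smul, add_zero, LinearMap.add_apply, add_smul]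
  abel

theorem Ph.conj {u : M} {φ : Dual (ZMod 2) M} (h : Ph H u φ) (g : H) : Ph H (g • u) (φ.comp (lact g⁻¹)) := by
  obtain ⟨e, a, ha⟩ := h
  refine ⟨by simp [e], g * a * g⁻¹, fun m => ?_⟩
  rw [mul_smul, mul_smul, ha, smul_add, smul_inv_smul, smulc]
  rfl

/-- `w` is perpendicular to `u`. -/
def Pp (H : Type*) {M : Type*} [Group H] [AddCommGroup M] [Module (ZMod 2) M] [DistribMulAction H M] (u w : M) :
    Prop := ∀ φ, Ph H u φ → φ w = 0

theorem Pp.self (u : M) : Pp H u u := fun _ h => h.1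

theorem Pp.zero (u : M) : Pp H u 0 := fun _ _ => map_zero _

theorem Pp.add {u w w' : M} (h1 : Pp H u w) (h2 : Pp H u w') : Pp H u (w + w') := fun φ h => by
  rw [map_add, h1 φ h, h2 φ h, add_zero]

theorem Pp.conj {u w : M} (h : Pp H u w) (g : H) : Pp H (g • u) (g • w) := fun φ hφ => by
  have h1 := hφ.conj g⁻¹
  rw [inv_smul_smul] at h1
  have h2 := h _ h1
  simpa using h2

theorem Pp.conj_iff {u w : M} (g : H) : Pp H (g • u) (g • w) ↔ Pp H u w :=
  ⟨fun h => by simpa using h.conj g⁻¹, fun h => h.conj g⟩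

theorem inv_tv {u : M} {φ : Dual (ZMod 2) M} (h1 : φ u = 0) {a : H} (ha : ∀ m, a • m = m + φ m • u) (m : M) :
    a⁻¹ • m = m + φ m • u := by
  rw [inv_smul_eq_iff, smul_add, smulc, ha m, ha u, h1, zero_smul, add_zero, add_assoc, add_self', add_zero]

theorem Ph.cancel {u w : M} {φ ψ : Dual (ZMod 2) M} (h1 : Ph H u φ) (h2 : φ w = 1) (h3 : Ph H w ψ) (h4 : ψ u = 0) :
    Ph H u ψ := by
  obtain ⟨e1, a, ha⟩ := h1
  obtain ⟨e2, b, hb⟩ := h3
  refine ⟨h4, b * (a * b * a⁻¹), fun m => ?_⟩
  have h5 : (a * b * a⁻¹) • m = m + ψ m • (w + u) := by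
    rw [mul_smul, mul_smul, inv_tv e1 ha, smul_add, smulc, hb m, hb u, h4, zero_smul, add_zero, smul_add, smul_add,
      smulc, smulc, ha m, ha w, ha u, e1, h2, zero_smul, add_zero, one_smul]
    have : φ m • u + φ m • u = 0 := add_self' _
    calc m + φ m • u + ψ m • (w + u) + φ m • u = m + ψ m • (w + u) + (φ m • u + φ m • u) := by abel
      _ = _ := by rw [this, add_zero]
  rw [mul_smul, h5, smul_add, smulc, smul_add, hb m, hb w, hb u, e2, h4, zero_smul, add_zero, add_zero,
    smul_add]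
  have : ψ m • w + ψ m • w = 0 := add_self' _
  calc m + ψ m • w + (ψ m • w + ψ m • u) = m + (ψ m • w + ψ m • w) + ψ m • u := by abel
    _ = _ := by rw [this, add_zero]

variable [Finite M]

theorem fin_dual : Finite (Dual (ZMod 2) M) := DFunLike.finite _

theorem ncard_conj (u : M) (g : H) : {φ | Ph H (g • u) φ}.ncard = {φ | Ph H u φ}.ncard := by
  have h1 : ∀ (u : M) (g : H), {φ | Ph H (g • u) φ}.ncard ≤ {φ | Ph H u φ}.ncard := by
    intro u g
    have := fin_dual (M := M)
    refine Set.ncard_le_ncard_of_injOn (fun φ => φ.comp (lact g)) ?_ ?_ (Set.toFinite _)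
    · intro φ hφ
      have := hφ.conj g⁻¹
      rwa [inv_smul_smul, inv_inv] at this
    · intro φ _ ψ _ h
      ext m
      have := LinearMap.congr_fun h (g⁻¹ • m)
      simpa using this
  refine le_antisymm (h1 u g) ?_
  have := h1 (g • u) g⁻¹
  rwa [inv_smul_smul] at this

theorem Pp.symm {v u w : M} (hu : u ∈ MulAction.orbit H v) (hw : w ∈ MulAction.orbit H v) (h : Pp H w u) :
    Pp H u w := by
  intro φ hφ
  by_contra h1
  have h1 := z2n h1
  have h2 : {ψ | Ph H w ψ} ⊆ {ψ | Ph H u ψ} := fun ψ hψ => hφ.cancel h1 hψ (h ψ hψ)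
  obtain ⟨g, rfl⟩ := hu
  obtain ⟨k, rfl⟩ := hw
  have h3 : {ψ | Ph H (k • v) ψ} = {ψ | Ph H (g • v) ψ} := by
    have := fin_dual (M := M)
    refine Set.eq_of_subset_of_ncard_le h2 ?_ (Set.toFinite _)
    rw [ncard_conj, ncard_conj]
  have h4 : Ph H (k • v) φ := by
    have : φ ∈ {ψ | Ph H (g • v) ψ} := hφ
    rw [← h3] at this
    exact this
  rw [h4.1] at h1
  exact absurd h1 (by decide)

/-- `Φ_u ∩ ann w = Φ_w ∩ ann u` if `u`, `w` are not perpendicular. -/
theorem Ph.swap {v u w : M} (hu : u ∈ MulAction.orbit H v) (hw : w ∈ MulAction.orbit H v) (h : ¬ Pp H u w)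
    {φ : Dual (ZMod 2) M} (h1 : Ph H u φ) (h2 : φ w = 0) : Ph H w φ := by
  have h3 : ¬ Pp H w u := fun h4 => h (h4.symm hu hw)
  unfold Pp at h3
  push Not at h3
  obtain ⟨ψ, h5, h6⟩ := h3
  exact h5.cancel (z2n h6) h1 h2

theorem Ph.add_centre {u w : M} {φ : Dual (ZMod 2) M} (h1 : Ph H u φ) (h2 : Ph H w φ) : Ph H (u + w) φ := by
  obtain ⟨e1, a, ha⟩ := h1
  obtain ⟨e2, b, hb⟩ := h2
  refine ⟨by rw [map_add, e1, e2, add_zero], a * b, fun m => ?_⟩
  rw [mul_smul, hb, smul_add, smulc, ha m, ha w, e2, zero_smul, add_zero, smul_add, add_assoc]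

theorem add_mem_orbit {v u w : M} (hw : w ∈ MulAction.orbit H v) (h : ¬ Pp H u w) : u + w ∈ MulAction.orbit H v := by
  unfold Pp at h
  push Not at h
  obtain ⟨φ, ⟨-, a, ha⟩, h2⟩ := h
  obtain ⟨g, rfl⟩ := hw
  refine ⟨a * g, ?_⟩
  simp only [mul_smul]
  rw [ha, z2n h2, one_smul, add_comm]

end basic

/-- The data of (5) on `M = N₁` (no radical) or `M = N₁Z₁/Z₁` (radical). `v` is a point, `V` the `T`-line on `v`,
`D = C_H(v)`. -/
structure Dat {H M : Type*} [Group H] [AddCommGroup M] [DistribMulAction H M] (v : M) (V : AddSubgroup M)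
    (T L : Subgroup H) : Prop where
  v0 : v ≠ 0
  vV : v ∈ V
  card : Nat.card V = 4
  pT : IsPGroup 2 T
  Tv : ∀ t ∈ T, t • v = v
  fix : ∀ m : M, (∀ t ∈ T, t • m = m) → m = 0 ∨ m = v
  TV : ∀ t ∈ T, ∀ m ∈ V, t • m ∈ V
  LV : ∀ l ∈ L, ∀ m ∈ V, l • m ∈ V
  tr : ∀ m ∈ V, m ≠ 0 → ∃ l ∈ L, l • v = m
  span : AddSubgroup.closure (MulAction.orbit H v) = ⊤
  gen : MulAction.stabilizer H v ⊔ L = ⊤
  /-- the `D`-span of `V` is proper -/
  ncl : ∃ U : AddSubgroup M, U ≠ ⊤ ∧ ∀ d : H, d • v = v → ∀ m ∈ V, d • m ∈ U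

namespace Dat

variable {H M : Type*} [Group H] [AddCommGroup M] [Module (ZMod 2) M] [DistribMulAction H M] [Finite H] [Finite M]
  {v : M} {V : AddSubgroup M} {T L : Subgroup H} (d : Dat v V T L)

include d

theorem four' {a b : M} (ha : a ∈ V) (hb : b ∈ V) (ha0 : a ≠ 0) (hb0 : b ≠ 0) (hab : b ≠ a) :
    ∀ m ∈ V, m = 0 ∨ m = a ∨ m = b ∨ m = a + b := by
  classical
  have h4 : ({0, a, b, a + b} : Set M) ⊆ V := by
    rintro m (rfl | rfl | rfl | rfl)
    · exact V.zero_mem
    · exact ha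
    · exact hb
    · exact V.add_mem ha hb
  have h5 : a + b ≠ 0 := fun h => hab (by rw [← add_self' a] at h; exact add_left_cancel h)
  have h6 : a + b ≠ a := fun h => hb0 (by simpa using h)
  have h7 : a + b ≠ b := fun h => ha0 (by simpa using h)
  have h8 : ({0, a, b, a + b} : Set M).ncard = 4 := by
    rw [Set.ncard_eq_toFinset_card']
    simp [h5.symm, h6.symm, h7.symm, ha0.symm, hb0.symm, hab.symm]
  have h9 : ({0, a, b, a + b} : Set M) = V := by
    refine Set.eq_of_subset_of_ncard_le h4 ?_ (Set.toFinite _)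
    rw [h8]
    exact d.card.le
  intro m hm
  have : m ∈ (V : Set M) := hm
  rw [← h9] at this
  simpa using this

theorem four : ∃ v' ∈ V, v' ≠ 0 ∧ v' ≠ v ∧ ∀ m ∈ V, m = 0 ∨ m = v ∨ m = v' ∨ m = v + v' := by
  have h1 : ∃ v' ∈ V, v' ≠ 0 ∧ v' ≠ v := by
    by_contra h
    push Not at h
    have h2 : (V : Set M) ⊆ {0, v} := by
      intro m hm
      by_cases h0 : m = 0
      · exact Or.inl h0
      · exact Or.inr (h m hm h0)
    have h3 : Nat.card V ≤ 2 := by
      have := Set.ncard_le_ncard h2 (Set.toFinite _)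
      have h4 : ({0, v} : Set M).ncard ≤ 2 := Set.ncard_insert_le _ _ |>.trans (by simp)
      exact this.trans h4
    have := d.card
    omega
  obtain ⟨v', h1, h2, h3⟩ := h1
  exact ⟨v', h1, h2, h3, d.four' d.vV h1 d.v0 h2 h3⟩

theorem mem_orbit {m : M} (hm : m ∈ V) (h0 : m ≠ 0) : m ∈ MulAction.orbit H v := by
  obtain ⟨l, -, h⟩ := d.tr m hm h0
  exact ⟨l, h⟩

theorem v_mem : v ∈ MulAction.orbit H v := MulAction.mem_orbit_self v

theorem ne_zero {u : M} (hu : u ∈ MulAction.orbit H v) : u ≠ 0 := by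
  obtain ⟨g, rfl⟩ := hu
  intro h
  have h1 : g • v = g • (0 : M) := by rw [smul_zero]; exact h
  exact d.v0 (smul_left_cancel g h1)

/-- a `T`-invariant subgroup not containing `v` is trivial -/
theorem eq_bot (U : AddSubgroup M) (hU : ∀ t ∈ T, ∀ m ∈ U, t • m ∈ U) (hv : v ∉ U) : U = ⊥ := by
  by_contra hne
  let act : MulAction T U :=
    { smul := fun t m => ⟨(t : H) • (m : M), hU t t.2 m m.2⟩
      one_smul := fun m => Subtype.ext (one_smul H (m : M))
      mul_smul := fun s t m => Subtype.ext (mul_smul (s : H) (t : H) (m : M)) }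
  have : Fact (Nat.Prime 2) := ⟨Nat.prime_two⟩
  have h2 : 2 ∣ Nat.card U := by
    obtain ⟨m, hm, h0⟩ := (AddSubgroup.ne_bot_iff_exists_ne_zero (H := U)).1 hne |>.elim fun a ha =>
      (⟨a.1, a.2, fun h => ha (Subtype.ext h)⟩ : ∃ m ∈ U, m ≠ 0)
    have h3 : addOrderOf (⟨m, hm⟩ : U) = 2 := by
      refine addOrderOf_eq_prime ?_ ?_
      · rw [two_nsmul]
        exact Subtype.ext (add_self' m)
      · intro h
        exact h0 (congrArg Subtype.val h)
    rw [← h3]
    exact addOrderOf_dvd_natCard _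
  obtain ⟨b, hb, hb0⟩ := d.pT.exists_fixed_point_of_prime_dvd_card_of_fixed_point U h2
    (a := 0) (fun t => Subtype.ext (smul_zero (t : H)))
  rcases d.fix b.1 (fun t ht => congrArg Subtype.val (hb ⟨t, ht⟩)) with h | h
  · exact hb0 (Subtype.ext h.symm)
  · exact hv (h ▸ b.2)

/-- (a), first half: if `v` is not perpendicular to `V`, the annihilator of `Φ_v` is `⟨v⟩`. -/
theorem ann {v' : M} (h1 : v' ∈ V) (h2 : v' ≠ 0) (h3 : v' ≠ v)
    (h4 : ∀ m ∈ V, m = 0 ∨ m = v ∨ m = v' ∨ m = v + v') (hn : ¬ Pp H v v') {m : M} (hm : Pp H v m) :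
    m = 0 ∨ m = v := by
  have hv := d.v_mem
  have hv' := d.mem_orbit h1 h2
  let U : AddSubgroup M :=
    { carrier := {m | ∀ p ∈ V, p ≠ 0 → Pp H p m}
      zero_mem' := fun p _ _ => Pp.zero p
      add_mem' := fun ha hb p hp h0 => (ha p hp h0).add (hb p hp h0)
      neg_mem' := fun ha p hp h0 => by
        have := ha p hp h0
        intro φ hφ
        rw [map_neg, this φ hφ, neg_zero] }
  have hU : U = ⊥ := by
    refine d.eq_bot U ?_ ?_
    · intro t ht m hm p hp h0
      have h5 := hm (t⁻¹ • p) (d.TV _ (inv_mem ht) p hp) (fun h => h0 (by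
        rw [inv_smul_eq_iff, smul_zero] at h
        exact h))
      have := h5.conj t
      rwa [smul_inv_smul] at this
    · intro h
      exact hn ((h v' h1 h2).symm hv hv')
  have hn' : ¬ Pp H v' v := fun h => hn (h.symm hv hv')
  have hn0 := hn
  unfold Pp at hn hn'
  push Not at hn hn'
  obtain ⟨φ₀, f1, f2⟩ := hn
  obtain ⟨φ₁, g1, g2⟩ := hn'
  have f2 := z2n f2
  have g2 := z2n g2
  -- `φ₂ = φ₀ + φ₁ ∈ Φ_{v+v'}`
  have k1 : Ph H (v + v') (φ₀ + φ₁) := by
    obtain ⟨e1, a, ha⟩ := id f1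
    have h5 := g1.conj a
    rw [ha v', f2, one_smul, add_comm v' v] at h5
    convert h5 using 1
    ext m
    simp only [LinearMap.add_apply, LinearMap.comp_apply, lact_apply]
    rw [inv_tv e1 ha, map_add, map_smul, g2, smul_eq_mul, mul_one, add_comm]
  have k2 : (φ₀ + φ₁) v = 1 := by rw [LinearMap.add_apply, f1.1, g2, zero_add]
  have hv'' : v + v' ∈ MulAction.orbit H v := add_mem_orbit hv' hn0
  -- the corrected vector
  obtain ⟨m', h6, h7, h8⟩ : ∃ m', Pp H v m' ∧ φ₁ m' = 0 ∧ (m = m' ∨ m = m' + v) := by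
    rcases z2 (φ₁ m) with h | h
    · exact ⟨m, hm, h, Or.inl rfl⟩
    · refine ⟨m + v, hm.add (Pp.self v), by rw [map_add, h, g2]; decide, Or.inr ?_⟩
      rw [add_assoc, add_self', add_zero]
  have h9 : m' ∈ U := by
    intro p hp h0 ψ hψ
    rcases h4 p hp with rfl | rfl | rfl | rfl
    · exact absurd rfl h0
    · exact h6 ψ hψ
    · have key : ∀ ψ, Ph H p ψ → ψ v = 0 → ψ m' = 0 := fun ψ hψ h =>
        h6 ψ (hψ.swap hv' hv (fun h => hn0 (h.symm hv hv')) h)
      rcases z2 (ψ v) with h | h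
      · exact key ψ hψ h
      · have := key _ (hψ.add g1) (by rw [LinearMap.add_apply, h, g2]; decide)
        rw [LinearMap.add_apply, h7, add_zero] at this
        exact this
    · have hn2 : ¬ Pp H (v + v') v := fun h => by
        have := h _ k1
        rw [k2] at this
        exact absurd this (by decide)
      have key : ∀ ψ, Ph H (v + v') ψ → ψ v = 0 → ψ m' = 0 := fun ψ hψ h =>
        h6 ψ (hψ.swap hv'' hv hn2 h)
      rcases z2 (ψ v) with h | h
      · exact key ψ hψ h
      · have := key _ (hψ.add k1) (by rw [LinearMap.add_apply, h, k2]; decide)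
        rw [LinearMap.add_apply, LinearMap.add_apply, h7, add_zero, h6 _ f1, add_zero] at this
        exact this
  rw [hU, AddSubgroup.mem_bot] at h9
  rcases h8 with rfl | rfl
  · exact Or.inl h9
  · right
    rw [h9, zero_add]

/-- (a): every functional which kills `v` lies in `Φ_v`. -/
theorem full {v' : M} (h1 : v' ∈ V) (h2 : v' ≠ 0) (h3 : v' ≠ v)
    (h4 : ∀ m ∈ V, m = 0 ∨ m = v ∨ m = v' ∨ m = v + v') (hn : ¬ Pp H v v') {φ : Dual (ZMod 2) M} (hφ : φ v = 0) :
    Ph H v φ := by
  let E : Submodule (ZMod 2) (Dual (ZMod 2) M) :=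
    { carrier := {φ | Ph H v φ}
      zero_mem' := Ph.zero v
      add_mem' := fun h1 h2 => h1.add h2
      smul_mem' := fun c x hx => by
        rcases z2 c with rfl | rfl
        · rw [zero_smul]
          exact Ph.zero v
        · rwa [one_smul] }
  have := fin_dual (M := M)
  have h5 : φ ∈ E.dualCoannihilator.dualAnnihilator := by
    rw [Submodule.mem_dualAnnihilator]
    intro m hm
    rw [Submodule.mem_dualCoannihilator] at hm
    rcases d.ann h1 h2 h3 h4 hn (m := m) hm with rfl | rfl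
    · exact map_zero _
    · exact hφ
  rw [Subspace.dualCoannihilator_dualAnnihilator_eq] at h5
  exact h5

theorem full' {v' : M} (h1 : v' ∈ V) (h2 : v' ≠ 0) (h3 : v' ≠ v)
    (h4 : ∀ m ∈ V, m = 0 ∨ m = v ∨ m = v' ∨ m = v + v') (hn : ¬ Pp H v v') {u : M} (hu : u ∈ MulAction.orbit H v)
    {φ : Dual (ZMod 2) M} (hφ : φ u = 0) : Ph H u φ := by
  obtain ⟨g, rfl⟩ := hu
  have h5 : Ph H v (φ.comp (lact g)) := d.full h1 h2 h3 h4 hn hφ
  have h6 := h5.conj g
  convert h6 using 1
  ext m
  simp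

theorem exists_functional {p : Submodule (ZMod 2) M} {x : M} (hx : x ∉ p) :
    ∃ φ : Dual (ZMod 2) M, φ x = 1 ∧ ∀ m ∈ p, φ m = 0 := by
  obtain ⟨f, hf, hp⟩ := Submodule.exists_le_ker_of_notMem hx
  exact ⟨f, z2n hf, fun m hm => hp hm⟩

/-- (a): `V` is totally perpendicular -/
theorem pV {m : M} (hm : m ∈ V) : Pp H v m := by
  obtain ⟨v', h1, h2, h3, h4⟩ := d.four
  by_contra hm0
  have hn : ¬ Pp H v v' := by
    intro h
    apply hm0
    rcases h4 m hm with rfl | rfl | rfl | rfl
    · exact Pp.zero v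
    · exact Pp.self _
    · exact h
    · exact (Pp.self v).add h
  have hpt : ∀ m : M, m ≠ 0 → m ∈ MulAction.orbit H v := by
    let U : AddSubgroup M :=
      { carrier := {m | m = 0 ∨ m ∈ MulAction.orbit H v}
        zero_mem' := Or.inl rfl
        add_mem' := by
          rintro a b (rfl | ha) (rfl | hb)
          · exact Or.inl (add_zero 0)
          · rw [zero_add]
            exact Or.inr hb
          · rw [add_zero]
            exact Or.inr ha
          · by_cases hab : a = b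
            · left
              rw [hab]
              exact add_self' b
            · right
              refine add_mem_orbit hb (fun h => ?_)
              have hb' : b ∉ Submodule.span (ZMod 2) {a} := by
                rw [Submodule.mem_span_singleton]
                rintro ⟨c, hc⟩
                rcases z2 c with rfl | rfl
                · rw [zero_smul] at hc
                  exact d.ne_zero hb hc.symm
                · rw [one_smul] at hc
                  exact hab hc
              obtain ⟨φ, k1, k2⟩ := d.exists_functional hb'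
              have := h φ (d.full' h1 h2 h3 h4 hn ha (k2 a (Submodule.mem_span_singleton_self a)))
              rw [k1] at this
              exact absurd this (by decide)
        neg_mem' := by
          rintro a ha
          have : -a = a := by
            rw [neg_eq_iff_add_eq_zero]
            exact add_self' a
          rw [this]
          exact ha }
    have hU : AddSubgroup.closure (MulAction.orbit H v) ≤ U :=
      (AddSubgroup.closure_le U).2 (fun m hm => Or.inr hm)
    rw [d.span] at hU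
    intro m h0
    exact (hU (AddSubgroup.mem_top m)).resolve_left h0
  obtain ⟨U, hU, hD⟩ := d.ncl
  apply hU
  rw [eq_top_iff]
  intro m _
  by_cases hmV : m ∈ V
  · have := hD 1 (one_smul H v) m hmV
    rwa [one_smul] at this
  · have hm0 : m ≠ 0 := fun h => hmV (h ▸ V.zero_mem)
    have hmv : m ≠ v := fun h => hmV (h ▸ d.vV)
    have hmv' : m ≠ v' := fun h => hmV (h ▸ h1)
    have hu0 : m + v' ≠ 0 := fun h => hmv' (by
      rw [← add_self' v'] at h
      exact add_right_cancel h)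
    have hx : v' ∉ Submodule.span (ZMod 2) {m + v', v} := by
      rw [Submodule.mem_span_pair]
      rintro ⟨a, b, hab⟩
      rcases z2 a with rfl | rfl <;> rcases z2 b with rfl | rfl
      · simp only [zero_smul, add_zero] at hab
        exact h2 hab.symm
      · simp only [zero_smul, one_smul, zero_add] at hab
        exact h3 hab.symm
      · simp only [zero_smul, one_smul, add_zero] at hab
        exact hm0 (by simpa using hab)
      · simp only [one_smul] at hab
        have h5 : m + v = 0 := by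
          have h6 : m + v + v' = 0 + v' := by
            rw [zero_add, add_right_comm]
            exact hab
          exact add_right_cancel h6
        exact hmv (by
          rw [← add_self' v] at h5
          exact add_right_cancel h5)
    obtain ⟨φ, k1, k2⟩ := d.exists_functional hx
    obtain ⟨-, a, ha⟩ := d.full' h1 h2 h3 h4 hn (hpt _ hu0) (k2 _ (Submodule.subset_span (by simp)))
    have h5 : a • v = v := by
      rw [ha, k2 v (Submodule.subset_span (by simp)), zero_smul, add_zero]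
    have h6 : a • v' = m := by
      rw [ha, k1, one_smul, add_comm m v', ← add_assoc, add_self', zero_add]
    rw [← h6]
    exact hD a h5 v' h1

theorem pVV {p m : M} (hp : p ∈ V) (h0 : p ≠ 0) (hm : m ∈ V) : Pp H p m := by
  obtain ⟨l, hl, rfl⟩ := d.tr p hp h0
  have h1 := (d.pV (m := l⁻¹ • m) (d.LV _ (inv_mem hl) m hm)).conj l
  rwa [smul_inv_smul] at h1

theorem conn (S : Set H) (g₀ : H) (h0 : g₀ ∈ S) (hD : ∀ g ∈ S, ∀ x : H, x • v = v → g * x ∈ S)
    (hL : ∀ g ∈ S, ∀ l ∈ L, g * l ∈ S) (g : H) : g ∈ S := by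
  let K : Subgroup H :=
    { carrier := {k | ∀ g, g ∈ S ↔ g * k ∈ S}
      one_mem' := fun g => by rw [mul_one]
      mul_mem' := fun {a b} ha hb g => by rw [← mul_assoc, ← hb (g * a), ← ha g]
      inv_mem' := fun {a} ha g => by rw [ha (g * a⁻¹), inv_mul_cancel_right] }
  have h1 : MulAction.stabilizer H v ≤ K := by
    intro x hx g
    have hx : x • v = v := hx
    refine ⟨fun h => hD g h x hx, fun h => ?_⟩
    have := hD _ h x⁻¹ (by rw [inv_smul_eq_iff, hx])
    rwa [mul_inv_cancel_right] at this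
  have h2 : L ≤ K := by
    intro x hx g
    refine ⟨fun h => hL g h x hx, fun h => ?_⟩
    have := hL _ h x⁻¹ (inv_mem hx)
    rwa [mul_inv_cancel_right] at this
  have h3 : K = ⊤ := by
    rw [eq_top_iff, ← d.gen]
    exact sup_le h1 h2
  have h4 : g₀⁻¹ * g ∈ K := by
    rw [h3]
    exact Subgroup.mem_top _
  have := (h4 g₀).1 h0
  rwa [mul_inv_cancel_left] at this

theorem meet {w : M} (hw : w ∈ MulAction.orbit H v) (g : H) : ∃ q ∈ V, q ≠ 0 ∧ Pp H w (g • q) := by
  obtain ⟨v', h1, h2, h3, h4⟩ := d.four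
  have key : ∀ w ∈ MulAction.orbit H v, ∃ q ∈ V, q ≠ 0 ∧ Pp H w q := by
    intro w hw
    by_cases h : ∀ m ∈ V, Pp H w m
    · exact ⟨v, d.vV, d.v0, h v d.vV⟩
    · push Not at h
      obtain ⟨m, hm, h⟩ := h
      unfold Pp at h
      push Not at h
      obtain ⟨ψ, k1, k2⟩ := h
      obtain ⟨q, hq, hq0, hq1⟩ : ∃ q ∈ V, q ≠ 0 ∧ ψ q = 0 := by
        rcases z2 (ψ v) with h5 | h5
        · exact ⟨v, d.vV, d.v0, h5⟩
        · rcases z2 (ψ v') with h6 | h6
          · exact ⟨v', h1, h2, h6⟩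
          · refine ⟨v + v', V.add_mem d.vV h1, ?_, by rw [map_add, h5, h6]; decide⟩
            intro h
            rw [← add_self' v] at h
            exact h3 (add_left_cancel h)
      refine ⟨q, hq, hq0, ?_⟩
      by_contra hc
      exact k2 (d.pVV hq hq0 hm ψ (k1.swap hw (d.mem_orbit hq hq0) hc hq1))
  obtain ⟨k, rfl⟩ := hw
  obtain ⟨q, hq, hq0, h⟩ := key ((g⁻¹ * k) • v) ⟨_, rfl⟩
  refine ⟨q, hq, hq0, ?_⟩
  have := h.conj g
  rwa [← mul_smul, mul_inv_cancel_left] at this

theorem ext_orbit {φ : Dual (ZMod 2) M} (h : ∀ u ∈ MulAction.orbit H v, φ u = 0) : φ = 0 := by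
  have h1 : AddSubgroup.closure (MulAction.orbit H v) ≤ φ.toAddMonoidHom.ker :=
    (AddSubgroup.closure_le _).2 (fun u hu => h u hu)
  rw [d.span] at h1
  ext m
  exact h1 (AddSubgroup.mem_top m)

theorem ext_orbit' {φ ψ : Dual (ZMod 2) M} (h : ∀ u ∈ MulAction.orbit H v, φ u = ψ u) : φ = ψ := by
  rw [← sub_eq_zero]
  exact d.ext_orbit (fun u hu => by rw [LinearMap.sub_apply, h u hu, sub_self])

/-- (b): `|Φ_v| = 2` -/
theorem uniq {φ ψ : Dual (ZMod 2) M} (h1 : Ph H v φ) (h2 : Ph H v ψ) (h3 : φ ≠ 0) (h4 : ψ ≠ 0) : φ = ψ := by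
  by_contra hne
  -- every `Φ_p` has another element
  have more : ∀ p ∈ MulAction.orbit H v, ∀ φ', ∃ ψ', Ph H p ψ' ∧ ψ' ≠ 0 ∧ ψ' ≠ φ' := by
    rintro _ ⟨g, rfl⟩ φ'
    have inj : ∀ ψ₁ ψ₂ : Dual (ZMod 2) M, ψ₁.comp (lact g⁻¹) = ψ₂.comp (lact g⁻¹) → ψ₁ = ψ₂ := by
      intro ψ₁ ψ₂ h
      ext m
      have := LinearMap.congr_fun h (g • m)
      simpa using this
    by_cases h : φ.comp (lact g⁻¹) = φ'
    · refine ⟨_, h2.conj g, fun h0 => h4 (inj _ _ (by rw [h0, LinearMap.zero_comp])), fun h5 => hne (inj _ _ ?_)⟩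
      rw [h, h5]
    · exact ⟨_, h1.conj g, fun h0 => h3 (inj _ _ (by rw [h0, LinearMap.zero_comp])), h⟩
  -- (ii)
  have two : ∀ p ∈ MulAction.orbit H v, Ph H p φ → ∃ p' ∈ MulAction.orbit H v, ¬ Pp H p p' ∧ φ p' = 0 := by
    intro p hp hφ
    by_contra hc
    push Not at hc
    obtain ⟨ψ', k1, k2, k3⟩ := more p hp φ
    have hz : ∀ p' ∈ MulAction.orbit H v, φ p' = 0 → ψ' p' = 0 := by
      intro p' hp' h0
      by_contra h5
      exact hc p' hp' (fun h => h5 (h ψ' k1)) h0
    obtain ⟨w₁, hw₁, a1, a2⟩ : ∃ w ∈ MulAction.orbit H v, φ w = 1 ∧ ψ' w = 0 := by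
      by_contra hno
      push Not at hno
      refine k3 (d.ext_orbit' (fun u hu => ?_))
      rcases z2 (φ u) with h | h
      · rw [h, hz u hu h]
      · rw [h, z2n (hno u hu h)]
    obtain ⟨w₂, hw₂, b1, b2⟩ : ∃ w ∈ MulAction.orbit H v, φ w = 1 ∧ ψ' w = 1 := by
      by_contra hno
      push Not at hno
      refine k2 (d.ext_orbit (fun u hu => ?_))
      rcases z2 (φ u) with h | h
      · exact hz u hu h
      · exact (z2 _).resolve_right (hno u hu h)
    have c1 : ¬ Pp H p w₁ := fun h => by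
      have := h φ hφ
      rw [a1] at this
      exact absurd this (by decide)
    have c2 : Ph H w₁ ψ' := k1.swap hp hw₁ c1 a2
    have c3 : ¬ Pp H w₁ w₂ := fun h => by
      have := h ψ' c2
      rw [b2] at this
      exact absurd this (by decide)
    have c4 := hz _ (add_mem_orbit hw₂ c3) (by rw [map_add, a1, b1]; decide)
    rw [map_add, a2, b2, zero_add] at c4
    exact absurd c4 (by decide)
  -- (iii)
  have three : ∀ g : H, ∀ p ∈ V, p ≠ 0 → Ph H (g • p) φ → ∀ x ∈ V, x ≠ 0 → Ph H (g • x) φ := by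
    intro g p hp hp0 hφ x hx hx0
    have hpo : g • p ∈ MulAction.orbit H v := by
      obtain ⟨l, -, rfl⟩ := d.tr p hp hp0
      exact ⟨g * l, by simp only [mul_smul]⟩
    obtain ⟨p', hp', k1, k2⟩ := two _ hpo hφ
    have k3 : Ph H p' φ := hφ.swap hpo hp' k1 k2
    have k1' : ¬ Pp H p' (g • p) := fun h => k1 (h.symm hpo hp')
    obtain ⟨q, hq, hq0, k4⟩ := d.meet hp' g
    have hqp : q ≠ p := by
      rintro rfl
      exact k1' k4
    have hr : p + q ∈ V := V.add_mem hp hq
    have hr0 : p + q ≠ 0 := fun h => hqp (by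
      rw [← add_self' p] at h
      exact add_left_cancel h)
    have hro : g • (p + q) ∈ MulAction.orbit H v := by
      obtain ⟨l, -, h⟩ := d.tr _ hr hr0
      exact ⟨g * l, by simp only [mul_smul, h]⟩
    have k5 : ¬ Pp H p' (g • (p + q)) := by
      intro h
      have := h.add k4
      rw [smul_add, add_assoc, add_self', add_zero] at this
      exact k1' this
    have k6 : φ (g • (p + q)) = 0 := ((d.pVV hp hp0 hr).conj g) φ hφ
    have k7 : Ph H (g • (p + q)) φ := k3.swap hp' hro k5 k6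
    have k8 : Ph H (g • q) φ := by
      have := hφ.add_centre k7
      rwa [smul_add, ← add_assoc, add_self', zero_add] at this
    rcases d.four' hp hq hp0 hq0 hqp x hx with rfl | rfl | rfl | rfl
    · exact absurd rfl hx0
    · exact hφ
    · exact k8
    · exact k7
  have all : ∀ g : H, Ph H (g • v) φ := by
    intro g
    refine d.conn {g | Ph H (g • v) φ} 1 (by simpa using h1) ?_ ?_ g
    · intro g hg x hx
      change Ph H ((g * x) • v) φ
      rw [mul_smul, hx]
      exact hg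
    · intro g hg l hl
      change Ph H ((g * l) • v) φ
      rw [mul_smul]
      refine three g v d.vV d.v0 hg _ (d.LV l hl v d.vV) ?_
      exact d.ne_zero ⟨l, rfl⟩
  exact h3 (d.ext_orbit (by
    rintro _ ⟨g, rfl⟩
    exact (all g).1))

end Dat

/-- the functional of an element acting as a transvection -/
theorem exists_fun {H K : Type*} [Group H] [AddCommGroup K] [Module (ZMod 2) K] [DistribMulAction H K] {n : K}
    (hn : n ≠ 0) {x : H} (h : ∀ q : K, x • q = q ∨ x • q = q + n) :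
    ∃ κ : Dual (ZMod 2) K, κ n = 0 ∧ ∀ q, x • q = q + κ q • n := by
  classical
  let f : K → ZMod 2 := fun q => if x • q = q then 0 else 1
  have hf : ∀ q, x • q = q + f q • n := by
    intro q
    by_cases h1 : x • q = q
    · simp [f, h1]
    · rcases h q with h2 | h2
      · exact absurd h2 h1
      · simp only [f, h1, if_false, one_smul]
        exact h2
  have hinj : ∀ a b : ZMod 2, a • n = b • n → a = b := by
    intro a b hab
    rcases z2 a with rfl | rfl <;> rcases z2 b with rfl | rfl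
    · rfl
    · rw [zero_smul, one_smul] at hab
      exact absurd hab.symm hn
    · rw [zero_smul, one_smul] at hab
      exact absurd hab hn
    · rfl
  have hadd : ∀ a b, f (a + b) = f a + f b := by
    intro a b
    apply hinj
    have h1 := hf (a + b)
    rw [smul_add, hf a, hf b] at h1
    rw [add_smul]
    have h2 : a + b + f (a + b) • n = a + b + (f a • n + f b • n) := by
      rw [← h1]
      abel
    exact add_left_cancel h2
  let κ₀ : K →+ ZMod 2 := { toFun := f, map_zero' := by simp [f], map_add' := hadd }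
  refine ⟨κ₀.toZModLinearMap 2, ?_, hf⟩
  change f n = 0
  rcases z2 (f n) with h1 | h1
  · exact h1
  · exfalso
    have := hf n
    rw [h1, one_smul, add_self', ← smul_zero x] at this
    exact hn (smul_left_cancel x this)

namespace Dat

variable {H M : Type*} [Group H] [AddCommGroup M] [Module (ZMod 2) M] [DistribMulAction H M] [Finite H] [Finite M]
  {v : M} {V : AddSubgroup M} {T L : Subgroup H} (d : Dat v V T L)

include d

/-- **(b)**: two elements inducing transvections with centre `v` act equally. -/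
theorem two {x y : H} (hx : ∀ m : M, x • m = m ∨ x • m = m + v) (hy : ∀ m : M, y • m = m ∨ y • m = m + v)
    (hx0 : ∃ m : M, x • m ≠ m) (hy0 : ∃ m : M, y • m ≠ m) (m : M) : x • m = y • m := by
  obtain ⟨φ, h1, h2⟩ := exists_fun d.v0 hx
  obtain ⟨ψ, h3, h4⟩ := exists_fun d.v0 hy
  have h5 : φ = ψ := by
    refine d.uniq ⟨h1, x, h2⟩ ⟨h3, y, h4⟩ ?_ ?_
    · rintro rfl
      obtain ⟨m, hm⟩ := hx0
      exact hm (by rw [h2, LinearMap.zero_apply, zero_smul, add_zero])
    · rintro rfl
      obtain ⟨m, hm⟩ := hy0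
      exact hm (by rw [h4, LinearMap.zero_apply, zero_smul, add_zero])
  rw [h2, h4, h5]

variable {φ₀ : Dual (ZMod 2) M} (h₀ : Ph H v φ₀) (h₀' : φ₀ ≠ 0)

include h₀ h₀'

theorem comp_eq {g k : H} (h : g • v = k • v) : φ₀.comp (lact g⁻¹) = φ₀.comp (lact k⁻¹) := by
  have h1 := h₀.conj (k⁻¹ * g)
  have h2 : (k⁻¹ * g) • v = v := by rw [mul_smul, h, inv_smul_smul]
  rw [h2] at h1
  have h3 : φ₀.comp (lact (k⁻¹ * g)⁻¹) = φ₀ := by
    refine d.uniq h1 h₀ ?_ h₀'
    intro h0
    apply h₀'
    ext m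
    have := LinearMap.congr_fun h0 ((k⁻¹ * g) • m)
    rwa [LinearMap.comp_apply, lact_apply, inv_smul_smul] at this
  ext m
  have := LinearMap.congr_fun h3 (k⁻¹ • m)
  simpa [mul_smul] using this

theorem pp_iff (g k : H) : Pp H (g • v) (k • v) ↔ φ₀ (g⁻¹ • k • v) = 0 := by
  constructor
  · intro h
    exact h _ (h₀.conj g)
  · intro h φ hφ
    by_cases h0 : φ = 0
    · rw [h0, LinearMap.zero_apply]
    · have h1 : φ.comp (lact g) = φ₀ := by
        refine d.uniq ?_ h₀ ?_ h₀'
        · have := hφ.conj g⁻¹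
          rwa [inv_smul_smul, inv_inv] at this
        · intro h2
          apply h0
          ext m
          have := LinearMap.congr_fun h2 (g⁻¹ • m)
          simpa using this
      have := LinearMap.congr_fun h1 (g⁻¹ • k • v)
      rw [h] at this
      simpa using this

theorem form_symm (g k : H) : φ₀ (g⁻¹ • k • v) = φ₀ (k⁻¹ • g • v) := by
  have h1 := d.pp_iff h₀ h₀' g k
  have h2 := d.pp_iff h₀ h₀' k g
  have h3 : Pp H (g • v) (k • v) ↔ Pp H (k • v) (g • v) :=
    ⟨fun h => h.symm (v := v) ⟨k, rfl⟩ ⟨g, rfl⟩, fun h => h.symm (v := v) ⟨g, rfl⟩ ⟨k, rfl⟩⟩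
  rcases z2 (φ₀ (g⁻¹ • k • v)) with a | a <;> rcases z2 (φ₀ (k⁻¹ • g • v)) with b | b
  · rw [a, b]
  · have := h2.1 (h3.1 (h1.2 a))
    rw [b] at this
    exact absurd this (by decide)
  · have := h1.1 (h3.2 (h2.2 b))
    rw [a] at this
    exact absurd this (by decide)
  · rw [a, b]

theorem ker_all {m : M} (h : ∀ g : H, φ₀ (g⁻¹ • m) = 0) : m = 0 := by
  let U : AddSubgroup M :=
    { carrier := {m | ∀ g : H, φ₀ (g⁻¹ • m) = 0}
      zero_mem' := fun g => by rw [smul_zero, map_zero]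
      add_mem' := fun {a b} ha hb g => by rw [smul_add, map_add, ha g, hb g, add_zero]
      neg_mem' := fun {a} ha g => by rw [smul_neg, map_neg, ha g, neg_zero] }
  have hU : U = ⊥ := by
    refine d.eq_bot U ?_ ?_
    · intro t _ m hm g
      have := hm (t⁻¹ * g)
      rwa [mul_inv_rev, inv_inv, mul_smul] at this
    · intro hv
      refine h₀' (d.ext_orbit ?_)
      rintro _ ⟨g, rfl⟩
      have := hv g
      rw [← one_smul H v, d.form_symm h₀ h₀' g 1] at this
      simpa using this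
  have h1 : m ∈ U := h
  rwa [hU, AddSubgroup.mem_bot] at h1

/-- **(c)**: a functional fixed by `T` is `0` or `φ_v`. -/
theorem fixT {f : Dual (ZMod 2) M} (hf : ∀ t ∈ T, ∀ m, f (t • m) = f m) : f = 0 ∨ f = φ₀ := by
  obtain ⟨m₀, hm⟩ : ∃ m₀ : M, ∀ g : H, f (g • v) = φ₀ (g⁻¹ • m₀) := by
    let E : Submodule (ZMod 2) (Dual (ZMod 2) M) :=
      { carrier := {f | ∃ m₀ : M, ∀ g : H, f (g • v) = φ₀ (g⁻¹ • m₀)}
        zero_mem' := ⟨0, fun g => by simp⟩
        add_mem' := by
          rintro a b ⟨m, hm⟩ ⟨m', hm'⟩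
          exact ⟨m + m', fun g => by rw [LinearMap.add_apply, hm, hm', smul_add, map_add]⟩
        smul_mem' := by
          rintro c a ⟨m, hm⟩
          exact ⟨c • m, fun g => by rw [LinearMap.smul_apply, hm, smulc, LinearMap.map_smul]⟩ }
    have := fin_dual (M := M)
    have h5 : f ∈ E.dualCoannihilator.dualAnnihilator := by
      rw [Submodule.mem_dualAnnihilator]
      intro m hm
      rw [Submodule.mem_dualCoannihilator] at hm
      have : m = 0 := by
        refine d.ker_all h₀ h₀' (fun g => ?_)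
        refine hm (φ₀.comp (lact g⁻¹)) ⟨g • v, fun k => ?_⟩
        rw [LinearMap.comp_apply, lact_apply]
        exact d.form_symm h₀ h₀' g k
      rw [this, map_zero]
    rw [Subspace.dualCoannihilator_dualAnnihilator_eq] at h5
    exact h5
  have h1 : ∀ t ∈ T, t • m₀ = m₀ := by
    intro t ht
    rw [← sub_eq_zero]
    refine d.ker_all h₀ h₀' (fun g => ?_)
    have h2 : φ₀ (g⁻¹ • t • m₀) = φ₀ (g⁻¹ • m₀) := by
      rw [← hm g, ← hf t⁻¹ (inv_mem ht) (g • v), ← mul_smul t⁻¹ g v, hm, mul_inv_rev, inv_inv, mul_smul]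
    rw [smul_sub, map_sub, h2, sub_self]
  rcases d.fix m₀ h1 with rfl | rfl
  · left
    refine d.ext_orbit ?_
    rintro _ ⟨g, rfl⟩
    change f (g • v) = 0
    rw [hm, smul_zero, map_zero]
  · right
    refine d.ext_orbit' ?_
    rintro _ ⟨g, rfl⟩
    change f (g • m₀) = φ₀ (g • m₀)
    rw [hm]
    have := d.form_symm h₀ h₀' g 1
    simpa using this

theorem fixTL {f : Dual (ZMod 2) M} (hf : ∀ t ∈ T, ∀ m, f (t • m) = f m) (hl : ∀ l ∈ L, ∀ m, f (l • m) = f m) :
    f = 0 := by
  rcases d.fixT h₀ h₀' hf with h | rfl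
  · exact h
  · exfalso
    obtain ⟨w, hw, h1⟩ : ∃ w ∈ MulAction.orbit H v, f w = 1 := by
      by_contra hno
      push Not at hno
      exact h₀' (d.ext_orbit fun u hu => (z2 _).resolve_right (hno u hu))
    obtain ⟨q, hq, hq0, h2⟩ := d.meet hw 1
    rw [one_smul] at h2
    obtain ⟨l, hl', rfl⟩ := d.tr q hq hq0
    have h3 := (h2.symm (v := v) ⟨l, rfl⟩ hw) _ (h₀.conj l)
    rw [LinearMap.comp_apply, lact_apply, hl _ (inv_mem hl'), h1] at h3
    exact absurd h3 (by decide)

end Dat

/-- The second half of the data: `K = Q₁/C_{Q₁}(W₁)`, `n` the image of `N₂`, `X` the image of `X₂` (on `M` and on `K`),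
`α` the pairing with an element of `V₁ - Z₁`. -/
structure Dat2 {H M K : Type*} [Group H] [AddCommGroup M] [DistribMulAction H M] [AddCommGroup K] [DistribMulAction H K]
    (v : M) (n : K) (T L X : Subgroup H) (α : K →+ ZMod 2) : Prop where
  idx : ¬ 2 ∣ T.index
  tv : ∀ x ∈ X, ∀ m : M, x • m = m ∨ x • m = m + v
  nt : ∃ x ∈ X, ∃ m : M, x • m ≠ m
  XD : ∀ g : H, g • v = v → ∀ x ∈ X, g * x * g⁻¹ ∈ X
  Dn : ∀ g : H, g • v = v → g • n = n
  tn : ∀ x ∈ X, ∀ q : K, x • q = q ∨ x • q = q + n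
  tr : ∀ x ∈ X, (∀ m : M, x • m = m) → ∀ q : K, x • q = q
  αT : ∀ t ∈ T, ∀ q, α (t • q) = α q
  αL : ∀ l ∈ L, ∀ q, α (l • q) = α q
  αn : α n = 0
  αne : ∃ h : H, α (h • n) ≠ 0

namespace Dat2

variable {H M K : Type*} [Group H] [AddCommGroup M] [Module (ZMod 2) M] [DistribMulAction H M] [Finite H] [Finite M]
  [AddCommGroup K] [Module (ZMod 2) K] [DistribMulAction H K]
  {v : M} {V : AddSubgroup M} {n : K} {T L X : Subgroup H} {α : K →+ ZMod 2}

theorem n0 (e : Dat2 v n T L X α) : n ≠ 0 := by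
  rintro rfl
  obtain ⟨h, h1⟩ := e.αne
  exact h1 (by rw [smul_zero, map_zero])

theorem Dnk (e : Dat2 v n T L X α) {g k : H} (h : g • v = k • v) : g • n = k • n := by
  have := e.Dn (k⁻¹ * g) (by rw [mul_smul, h, inv_smul_smul])
  rwa [mul_smul, inv_smul_eq_iff] at this

/-- the frame: `x₀ ∈ X` with its two functionals -/
structure Fr (H : Type*) {M K : Type*} [Group H] [AddCommGroup M] [Module (ZMod 2) M] [DistribMulAction H M]
    [AddCommGroup K] [Module (ZMod 2) K] [DistribMulAction H K] (v : M) (n : K) (x₀ : H) (φ₀ : Dual (ZMod 2) M)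
    (κ : Dual (ZMod 2) K) : Prop where
  φv : φ₀ v = 0
  φ0 : φ₀ ≠ 0
  κn : κ n = 0
  xM : ∀ m : M, x₀ • m = m + φ₀ m • v
  xK : ∀ q : K, x₀ • q = q + κ q • n

theorem exists_fr (e : Dat2 v n T L X α) (v0 : v ≠ 0) : ∃ x₀ ∈ X, ∃ φ₀ κ, Fr H v n x₀ φ₀ κ := by
  obtain ⟨x, hx, hm⟩ := e.nt
  obtain ⟨φ, h1, h2⟩ := exists_fun v0 (e.tv x hx)
  obtain ⟨κ, h3, h4⟩ := exists_fun e.n0 (e.tn x hx)
  refine ⟨x, hx, φ, κ, h1, ?_, h3, h2, h4⟩
  rintro rfl
  obtain ⟨m, hm⟩ := hm
  exact hm (by rw [h2, LinearMap.zero_apply, zero_smul, add_zero])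

variable {x₀ : H} {φ₀ : Dual (ZMod 2) M} {κ : Dual (ZMod 2) K}

theorem Fr.ph (f : Fr H v n x₀ φ₀ κ) : Ph H v φ₀ := ⟨f.φv, x₀, f.xM⟩

theorem Fr.conjM (f : Fr H v n x₀ φ₀ κ) (g : H) (m : M) : (g * x₀ * g⁻¹) • m = m + φ₀ (g⁻¹ • m) • g • v := by
  rw [mul_smul, mul_smul, f.xM, smul_add, smul_inv_smul, smulc]

theorem Fr.conjK (f : Fr H v n x₀ φ₀ κ) (g : H) (q : K) : (g * x₀ * g⁻¹) • q = q + κ (g⁻¹ • q) • g • n := by
  rw [mul_smul, mul_smul, f.xK, smul_add, smul_inv_smul, smulc]

theorem smul_inj {n : K} (hn : n ≠ 0) {a b : ZMod 2} (h : a • n = b • n) : a = b := by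
  rcases z2 a with rfl | rfl <;> rcases z2 b with rfl | rfl
  · rfl
  · rw [zero_smul, one_smul] at h
    exact absurd h.symm hn
  · rw [zero_smul, one_smul] at h
    exact absurd h hn
  · rfl

variable (d : Dat v V T L) (e : Dat2 v n T L X α) (hx₀ : x₀ ∈ X) (f : Fr H v n x₀ φ₀ κ)

include d e hx₀ f

theorem κ_congr {g k : H} (h : g • v = k • v) (q : K) : κ (g⁻¹ • q) = κ (k⁻¹ • q) := by
  -- first the case of the stabiliser
  have key : ∀ a : H, a • v = v → ∀ q, κ (a⁻¹ • q) = κ q := by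
    intro a ha q
    have h1 := e.XD a ha x₀ hx₀
    have h2 : ∀ m : M, (a * x₀ * a⁻¹) • m = x₀ • m := by
      intro m
      refine d.two (e.tv _ h1) (e.tv _ hx₀) ?_ ?_ m
      · by_contra hno
        push Not at hno
        apply f.φ0
        ext m
        have h3 := hno (a • m)
        rw [f.conjM, inv_smul_smul, ha] at h3
        rcases z2 (φ₀ m) with h4 | h4
        · rw [h4, LinearMap.zero_apply]
        · rw [h4, one_smul] at h3
          exact absurd (by simpa using h3) d.v0
      · by_contra hno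
        push Not at hno
        apply f.φ0
        ext m
        have h3 := hno m
        rw [f.xM] at h3
        rcases z2 (φ₀ m) with h4 | h4
        · rw [h4, LinearMap.zero_apply]
        · rw [h4, one_smul] at h3
          exact absurd (by simpa using h3) d.v0
    have h3 : (a * x₀ * a⁻¹) * x₀⁻¹ ∈ X := mul_mem h1 (inv_mem hx₀)
    have h4 := e.tr _ h3 (fun m => by rw [mul_smul, h2, smul_inv_smul]) (x₀ • q)
    rw [mul_smul, inv_smul_smul, f.conjK, f.xK, e.Dn a ha] at h4
    exact smul_inj e.n0 (add_left_cancel h4)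
  have h1 := key (k⁻¹ * g) (by rw [mul_smul, h, inv_smul_smul]) (k⁻¹ • q)
  rwa [mul_inv_rev, inv_inv, mul_smul, smul_inv_smul] at h1

/-- collinear points have different `n` -/
theorem ne_line {l : H} (hl : l ∈ L) (h1 : l • v ≠ v) : l • n ≠ n := by
  intro h2
  have hlV : l • v ∈ V := d.LV l hl v d.vV
  have hl0 : l • v ≠ 0 := d.ne_zero ⟨l, rfl⟩
  have four := d.four' d.vV hlV d.v0 hl0 h1
  -- all three are equal
  have all : ∀ k ∈ L, k • n = n := by
    have third : ∀ k ∈ L, k • v = v + l • v → k • n = n := by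
      intro k hk h3
      -- `k • l • v ≠ k • v`
      have h4 : k • l • v = v ∨ k • l • v = l • v := by
        rcases four (k • l • v) (d.LV k hk _ hlV) with h | h | h | h
        · exact absurd h (d.ne_zero ⟨k * l, by simp only [mul_smul]⟩)
        · exact Or.inl h
        · exact Or.inr h
        · rw [← h3] at h
          exact absurd (smul_left_cancel k h) h1
      have h5 : k • l • n = k • n := by rw [h2]
      rw [← h5]
      rcases h4 with h | h
      · have := e.Dn (k * l) (by rw [mul_smul, h])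
        rwa [mul_smul] at this
      · have := e.Dnk (g := k * l) (k := l) (by rw [mul_smul, h])
        rw [mul_smul] at this
        rw [this, h2]
    intro k hk
    rcases four (k • v) (d.LV k hk v d.vV) with h | h | h | h
    · exact absurd h (d.ne_zero ⟨k, rfl⟩)
    · exact e.Dn k h
    · rw [e.Dnk h, h2]
    · exact third k hk h
  have h3 : ∀ g : H, g • n = n := by
    intro g
    refine d.conn {g | g • n = n} 1 (one_smul _ _) ?_ ?_ g
    · intro g hg x hx
      change (g * x) • n = n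
      rw [mul_smul, e.Dn x hx]
      exact hg
    · intro g hg x hx
      change (g * x) • n = n
      rw [mul_smul, all x hx]
      exact hg
  obtain ⟨g, hg⟩ := e.αne
  rw [h3 g, e.αn] at hg
  exact hg rfl

/-- the dichotomy -/
theorem dich {g k : H} (h : φ₀ (g⁻¹ • k • v) = 1) :
    (κ (g⁻¹ • k • n) = 1) ∨ (κ (g⁻¹ • k • n) = 0 ∧ κ (k⁻¹ • g • n) = 0 ∧ k • n = g • n) := by
  have h' : φ₀ (k⁻¹ • g • v) = 1 := by rw [← d.form_symm f.ph f.φ0, h]
  have h1 : ((g * x₀ * g⁻¹) * k) • v = ((k * x₀ * k⁻¹) * g) • v := by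
    rw [mul_smul (g * x₀ * g⁻¹) k, mul_smul (k * x₀ * k⁻¹) g, f.conjM, f.conjM, h, h', one_smul, one_smul, add_comm]
  have h2 := e.Dnk h1
  rw [mul_smul (g * x₀ * g⁻¹) k, mul_smul (k * x₀ * k⁻¹) g, f.conjK, f.conjK] at h2
  have hn := e.n0
  have hk0 : k • n ≠ 0 := fun h => hn (smul_left_cancel k (by rw [h, smul_zero]))
  have hg0 : g • n ≠ 0 := fun h => hn (smul_left_cancel g (by rw [h, smul_zero]))
  rcases z2 (κ (g⁻¹ • k • n)) with a | a <;> rcases z2 (κ (k⁻¹ • g • n)) with b | b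
  · rw [a, b, zero_smul, zero_smul, add_zero, add_zero] at h2
    exact Or.inr ⟨a, b, h2⟩
  · rw [a, b, zero_smul, one_smul, add_zero] at h2
    exact absurd (by simpa using h2) hg0
  · exact Or.inl a
  · exact Or.inl a

/-- (d): `n_{u+w} = n_u + n_w` if `u`, `w` are not perpendicular -/
theorem κ_one {g k : H} (h : φ₀ (g⁻¹ • k • v) = 1) : κ (g⁻¹ • k • n) = 1 := by
  rcases dich d e hx₀ f h with h1 | ⟨h1, h2, h3⟩
  · exact h1
  · exfalso
    have h' : φ₀ (k⁻¹ • g • v) = 1 := by rw [← d.form_symm f.ph f.φ0, h]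
    have e1 : ((g * x₀ * g⁻¹) * k) • v = ((k * x₀ * k⁻¹) * g) • v := by
      rw [mul_smul (g * x₀ * g⁻¹) k, mul_smul (k * x₀ * k⁻¹) g, f.conjM, f.conjM, h, h', one_smul, one_smul, add_comm]
    -- `κ_u = κ_w`
    have conjInv : ∀ (g : H) (q : K), (g * x₀ * g⁻¹)⁻¹ • q = q + κ (g⁻¹ • q) • g • n := by
      intro g q
      rw [inv_smul_eq_iff, smul_add, smulc, f.conjK, f.conjK, inv_smul_smul, f.κn, zero_smul, add_zero, add_assoc,
        add_self', add_zero]
    have k1 : ∀ q : K, κ (g⁻¹ • q) = κ (k⁻¹ • q) := by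
      intro q
      have h4 := κ_congr d e hx₀ f e1 q
      rw [mul_inv_rev (g * x₀ * g⁻¹) k, mul_inv_rev (k * x₀ * k⁻¹) g, mul_smul k⁻¹, mul_smul g⁻¹, conjInv, conjInv, smul_add, smul_add, smulc, smulc, map_add,
        map_add, LinearMap.map_smul, LinearMap.map_smul, h1, h2, smul_zero, smul_zero, add_zero, add_zero] at h4
      exact h4.symm
    -- the line on `u`
    obtain ⟨q, hq, hq0, h4⟩ := d.meet (w := k • v) ⟨k, rfl⟩ g
    have hqv : q ≠ v := by
      rintro rfl
      have := (d.pp_iff f.ph f.φ0 k g).1 h4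
      rw [h'] at this
      exact absurd this (by decide)
    have hr : v + q ∈ V := V.add_mem d.vV hq
    have hr0 : v + q ≠ 0 := fun h => hqv (by
      rw [← add_self' v] at h
      exact add_left_cancel h)
    obtain ⟨l, hl, hlr⟩ := d.tr _ hr hr0
    have hlv : l • v ≠ v := by
      rw [hlr]
      intro h
      exact hq0 (by simpa using h)
    have h5 : φ₀ (k⁻¹ • (g * l) • v) = 1 := by
      rw [mul_smul, hlr]
      obtain ⟨l', hl', rfl⟩ := d.tr q hq hq0
      have h6 : φ₀ (k⁻¹ • g • l' • v) = 0 := by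
        have := (d.pp_iff f.ph f.φ0 k (g * l')).1 (by rwa [mul_smul])
        rwa [mul_smul] at this
      rw [smul_add, smul_add, map_add, h', h6, add_zero]
    have h6 : κ (k⁻¹ • (g * l) • n) = 1 := by
      rcases dich d e hx₀ f h5 with h7 | ⟨-, -, h7⟩
      · exact h7
      · exfalso
        rw [h3, mul_smul] at h7
        exact ne_line d e hx₀ f hl hlv (smul_left_cancel g h7)
    rw [← k1, mul_smul, inv_smul_smul] at h6
    -- but `x₀` fixes `l • v`
    have h7 : (x₀ * l) • v = l • v := by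
      rw [mul_smul, f.xM, hlr]
      rw [(d.pV hr) φ₀ f.ph, zero_smul, add_zero]
    have h8 := e.Dnk h7
    rw [mul_smul, f.xK, h6, one_smul] at h8
    exact e.n0 (by simpa using h8)

theorem κ_eq (h : H) : κ (h • n) = φ₀ (h • v) := by
  rcases z2 (φ₀ (h • v)) with h1 | h1
  · rw [h1]
    have h2 : (x₀ * h) • v = h • v := by rw [mul_smul, f.xM, h1, zero_smul, add_zero]
    have h3 := e.Dnk h2
    rw [mul_smul, f.xK] at h3
    rcases z2 (κ (h • n)) with h4 | h4
    · exact h4
    · rw [h4, one_smul] at h3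
      exact absurd (by simpa using h3) e.n0
  · rw [h1]
    have := κ_one d e hx₀ f (g := 1) (k := h) (by simpa using h1)
    simpa using this

/-- the functions on `K` whose restriction to the `n_u` is linear in `u` -/
def Lin (H : Type*) {M K : Type*} [Group H] [AddCommGroup M] [Module (ZMod 2) M] [DistribMulAction H M]
    [AddCommGroup K] [DistribMulAction H K] (v : M) (n : K) : AddSubgroup (K → ZMod 2) where
  carrier := {β | ∃ ψ : Dual (ZMod 2) M, ∀ g : H, β (g • n) = ψ (g • v)}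
  zero_mem' := ⟨0, fun _ => rfl⟩
  add_mem' := by
    rintro a b ⟨ψ, h⟩ ⟨ψ', h'⟩
    exact ⟨ψ + ψ', fun g => by rw [Pi.add_apply, h, h', LinearMap.add_apply]⟩
  neg_mem' := by
    rintro a ⟨ψ, h⟩
    exact ⟨-ψ, fun g => by rw [Pi.neg_apply, h, LinearMap.neg_apply]⟩

omit [Module (ZMod 2) K] [Finite H] [Finite M] d e hx₀ f in
theorem Lin.comp {β : K → ZMod 2} (h : β ∈ Lin H v n) (g : H) : (fun q => β (g • q)) ∈ Lin H v n := by
  obtain ⟨ψ, h⟩ := h
  refine ⟨ψ.comp (lact g), fun k => ?_⟩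
  change β (g • k • n) = _
  rw [LinearMap.comp_apply, lact_apply, ← mul_smul, ← mul_smul]
  exact h (g * k)

/-- the stabiliser of the coset `α + Lin` -/
def R₀ (v : M) (n : K) (α : K →+ ZMod 2) : Subgroup H where
  carrier := {r | (fun q => α (r • q) + α q) ∈ Lin H v n}
  one_mem' := by
    change (fun q => α ((1 : H) • q) + α q) ∈ Lin H v n
    have : (fun q => α ((1 : H) • q) + α q) = 0 := by
      funext q
      rw [one_smul, CharTwo.add_self_eq_zero]
      rfl
    rw [this]
    exact zero_mem _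
  mul_mem' := by
    intro a b ha hb
    change (fun q => α ((a * b) • q) + α q) ∈ Lin H v n
    have : (fun q => α ((a * b) • q) + α q)
        = (fun q => (fun q => α (a • q) + α q) (b • q)) + fun q => α (b • q) + α q := by
      funext q
      simp only [Pi.add_apply, mul_smul]
      have := CharTwo.add_self_eq_zero (α (b • q))
      calc α (a • b • q) + α q = α (a • b • q) + (α (b • q) + α (b • q)) + α q := by rw [this, add_zero]
        _ = _ := by ring
    rw [this]
    have h1 := Lin.comp (β := fun q => α (a • q) + α q) ha b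
    exact add_mem h1 hb
  inv_mem' := by
    intro a ha
    change (fun q => α (a⁻¹ • q) + α q) ∈ Lin H v n
    have : (fun q => α (a⁻¹ • q) + α q) = fun q => (fun q => α (a • q) + α q) (a⁻¹ • q) := by
      funext q
      simp only [smul_inv_smul]
      exact add_comm _ _
    rw [this]
    exact Lin.comp (β := fun q => α (a • q) + α q) ha a⁻¹

omit [Module (ZMod 2) K] [Finite H] [Finite M] d e hx₀ f in
theorem mem_R₀ {r : H} : r ∈ R₀ v n α ↔ (fun q => α (r • q) + α q) ∈ Lin H v n := Iff.rfl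

/-- **(e)** -/
theorem false_core : False := by
  classical
  -- `T` and the transvections lie in `R₀`
  have hT : T ≤ R₀ v n α := by
    intro t ht
    rw [mem_R₀]
    have : (fun q => α (t • q) + α q) = 0 := by
      funext q
      rw [e.αT t ht, CharTwo.add_self_eq_zero]
      rfl
    rw [this]
    exact zero_mem _
  have hX : ∀ g : H, g * x₀ * g⁻¹ ∈ R₀ v n α := by
    intro g
    rw [mem_R₀]
    refine ⟨(α (g • n)) • φ₀.comp (lact g⁻¹), fun k => ?_⟩
    change α ((g * x₀ * g⁻¹) • k • n) + α (k • n) = _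
    rw [f.conjK, map_add, LinearMap.smul_apply, LinearMap.comp_apply, lact_apply, smul_eq_mul]
    have h1 : κ (g⁻¹ • k • n) = φ₀ (g⁻¹ • k • v) := by
      rw [← mul_smul, ← mul_smul]
      exact κ_eq d e hx₀ f _
    rw [h1]
    rcases z2 (φ₀ (g⁻¹ • k • v)) with h | h
    · rw [h, zero_smul, map_zero, add_zero, CharTwo.add_self_eq_zero, mul_zero]
    · rw [h, one_smul, mul_one]
      have := CharTwo.add_self_eq_zero (α (k • n))
      calc α (k • n) + α (g • n) + α (k • n) = α (g • n) + (α (k • n) + α (k • n)) := by ring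
        _ = _ := by rw [this, add_zero]
  -- the orbit of `α`
  let R : Subgroup H := R₀ v n α
  have hodd : ¬ 2 ∣ T.relIndex R := fun h => e.idx (h.trans (Subgroup.relIndex_dvd_index_of_le hT))
  let act : MulAction R (K → ZMod 2) := arrowAction
  have hact : ∀ (r : R) (β : K → ZMod 2) (q : K), (r • β) q = β (((r⁻¹ : R) : H) • q) := fun _ _ _ => rfl
  let α' : K → ZMod 2 := fun q => α q
  let O : Set (K → ZMod 2) := MulAction.orbit R α'
  have hOcard : ¬ 2 ∣ O.ncard := by
    rw [← MulAction.index_stabilizer]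
    intro h
    apply hodd
    refine h.trans ?_
    refine Subgroup.index_dvd_of_le ?_
    intro t ht
    rw [MulAction.mem_stabilizer_iff]
    funext q
    rw [hact]
    exact e.αT _ (by
      have : ((t⁻¹ : R) : H) ∈ T := by
        rw [Subgroup.mem_subgroupOf] at ht
        rw [Subgroup.coe_inv]
        exact inv_mem ht
      exact this) q
  have hOfin : O.Finite := Set.finite_range _
  let S : Finset (K → ZMod 2) := hOfin.toFinset
  have hS : ∀ β, β ∈ S ↔ β ∈ O := fun β => hOfin.mem_toFinset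
  have hScard : ¬ 2 ∣ S.card := by
    rwa [← Set.ncard_eq_toFinset_card O hOfin]
  let A : K → ZMod 2 := ∑ β ∈ S, β
  -- (1) `A` is `R`-invariant
  have hA1 : ∀ r ∈ R, ∀ q, A (r • q) = A q := by
    intro r hr q
    change (∑ β ∈ S, β) (r • q) = (∑ β ∈ S, β) q
    rw [Finset.sum_apply, Finset.sum_apply]
    refine Finset.sum_bij (fun β _ => (⟨r, hr⟩⁻¹ : R) • β) ?_ ?_ ?_ ?_
    · intro β hβ
      rw [hS] at hβ ⊢
      exact MulAction.mem_orbit_of_mem_orbit _ hβ
    · intro a _ b _ h
      exact smul_left_cancel _ h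
    · intro b hb
      refine ⟨(⟨r, hr⟩ : R) • b, ?_, by rw [inv_smul_smul]⟩
      rw [hS] at hb ⊢
      exact MulAction.mem_orbit_of_mem_orbit _ hb
    · intro β _
      rw [hact]
      rw [inv_inv]
  -- (2) `A` is additive
  have hA2 : ∀ a b, A (a + b) = A a + A b := by
    intro a b
    change (∑ β ∈ S, β) (a + b) = (∑ β ∈ S, β) a + (∑ β ∈ S, β) b
    rw [Finset.sum_apply, Finset.sum_apply, Finset.sum_apply, ← Finset.sum_add_distrib]
    refine Finset.sum_congr rfl (fun β hβ => ?_)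
    rw [hS] at hβ
    obtain ⟨r, rfl⟩ := hβ
    change α _ = α _ + α _
    rw [smul_add, map_add]
  -- (3) `A + α ∈ Lin`
  have hA3 : A + α' ∈ Lin H v n := by
    have h1 : A + α' = ∑ β ∈ S, (β + α') := by
      rw [Finset.sum_add_distrib, Finset.sum_const]
      congr 1
      obtain ⟨m, hm⟩ : ∃ m, S.card = 2 * m + 1 := by
        rcases Nat.even_or_odd' S.card with ⟨m, h | h⟩
        · exact absurd ⟨m, h⟩ hScard
        · exact ⟨m, h⟩
      rw [hm, add_nsmul, one_nsmul, mul_comm, mul_nsmul]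
      funext q
      simp only [Pi.add_apply, two_nsmul, CharTwo.add_self_eq_zero, Pi.zero_apply, zero_add]
    rw [h1]
    refine AddSubgroup.sum_mem _ (fun β hβ => ?_)
    rw [hS] at hβ
    obtain ⟨r, rfl⟩ := hβ
    exact (r⁻¹).2
  -- (4) `A` kills all `n_u`
  have hA4 : ∀ g : H, A (g • n) = 0 := by
    intro g
    obtain ⟨w, hw⟩ : ∃ w : H, φ₀ (w • v) = 1 := by
      by_contra hno
      push Not at hno
      apply f.φ0
      refine d.ext_orbit ?_
      rintro _ ⟨g, rfl⟩
      exact (z2 _).resolve_right (hno g)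
    have h2 := hA1 _ (hX g) ((g * w) • n)
    rw [f.conjK, ← mul_smul g⁻¹, inv_mul_cancel_left, κ_eq d e hx₀ f w, hw, one_smul, hA2] at h2
    simpa using h2
  obtain ⟨ψ, hψ⟩ := hA3
  have hα : ∀ g : H, α (g • n) = ψ (g • v) := by
    intro g
    rw [← hψ g, Pi.add_apply, hA4, zero_add]
  have h0 : ψ = 0 := by
    refine d.fixTL f.ph f.φ0 ?_ ?_
    · intro t ht m
      have : ψ.comp (lact t) = ψ := d.ext_orbit' (by
        rintro _ ⟨g, rfl⟩
        change ψ (t • g • v) = ψ (g • v)
        rw [← mul_smul, ← hα, ← hα, mul_smul, e.αT t ht])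
      exact LinearMap.congr_fun this m
    · intro t ht m
      have : ψ.comp (lact t) = ψ := d.ext_orbit' (by
        rintro _ ⟨g, rfl⟩
        change ψ (t • g • v) = ψ (g • v)
        rw [← mul_smul, ← hα, ← hα, mul_smul, e.αL t ht])
      exact LinearMap.congr_fun this m
  obtain ⟨h, h1⟩ := e.αne
  apply h1
  rw [hα, h0, LinearMap.zero_apply]

end Dat2

/-- **(5)** of helper609's TEXT R4: the two halves of the data contradict each other. -/
theorem Dat.false {H M K : Type*} [Group H] [AddCommGroup M] [DistribMulAction H M] [Finite H] [Finite M]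
    [AddCommGroup K] [DistribMulAction H K] {v : M} {V : AddSubgroup M} {n : K} {T L X : Subgroup H}
    {α : K →+ ZMod 2} (hM : ∀ m : M, m + m = 0) (hK : ∀ q : K, q + q = 0) (d : Dat v V T L)
    (e : Dat2 v n T L X α) : False := by
  let : Module (ZMod 2) M := AddCommGroup.zmodModule (n := 2) (fun m => by rw [two_nsmul, hM])
  let : Module (ZMod 2) K := AddCommGroup.zmodModule (n := 2) (fun q => by rw [two_nsmul, hK])
  obtain ⟨x₀, hx₀, φ₀, κ, f⟩ := e.exists_fr d.v0
  exact Dat2.false_core d e hx₀ f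

/-- **(b)**: two elements of `H` inducing transvections with centre `v` act equally. -/
theorem Dat.two_eq {H M : Type*} [Group H] [AddCommGroup M] [DistribMulAction H M] [Finite H] [Finite M]
    {v : M} {V : AddSubgroup M} {T L : Subgroup H} (hM : ∀ m : M, m + m = 0) (d : Dat v V T L) {x y : H}
    (hx : ∀ m : M, x • m = m ∨ x • m = m + v) (hy : ∀ m : M, y • m = m ∨ y • m = m + v)
    (hx0 : ∃ m : M, x • m ≠ m) (hy0 : ∃ m : M, y • m ≠ m) (m : M) : x • m = y • m := by
  let : Module (ZMod 2) M := AddCommGroup.zmodModule (n := 2) (fun m => by rw [two_nsmul, hM])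
  exact d.two hx hy hx0 hy0 m

end Cfsg.Agent.Omega.OM.PG.DOne
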