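import Cfsg.Agent.Omega.OM.PG.Peel

/-!
# (E), least distance at least 3, all `q` (helper997, TEXT Q4 #20474 (2); helper609, TEXT R5 #19750 (4))

`Peel.false_of_three` without `|Z_0| = 2`: points of arbitrary order.

* `ThmC2 Z X` : THEOREM C for 2-subgroups `B ≤ C(a)`: `[X_a, B] ≤ N_a` implies `[N_a, B] = 1`; `TB Z X` : what is used
  of it; `tb_of`;
* `TIp Z` : points are t.i.; `NobX Z X` : `|B : C_B(X_a)| ≤ |X_a : C(B)|` for `B ≤ Q_a` (the pairing `X_a × Q_a → a`);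
* `FixN Z` : an element of `Q_b`, `b ~ a`, which normalises all points `u ~ a` centralises `N_a`;
* `false_of_three`, `far`;
* `fixN_of`, `nobX_of` : `FixN`, `NobX` from the lines.
-/

set_option autoImplicit false
set_option linter.unusedSectionVars false

namespace Cfsg.Agent.Omega.OM.PG.PeelQ

open Subgroup Cfsg Cfsg.Agent.ZN Cfsg.Agent.Omega.MinPar
open Cfsg.Agent.Omega.OM.PG Cfsg.Agent.Omega.OM.PG.Peel
open Cfsg.Agent.Omega.NO3S.EThree Cfsg.Agent.Omega.NO3S.EThree.ExactA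
open Cfsg.Agent.ZN.ChoiceBase (AA mm mm_eq mem_AA_iff AA_nonempty card_le_mm cj_mem_AA mm_cj mm_mono)
open Cfsg.Agent.Omega.NoFF.Basic (conj_conj mem_conj conj_le_iff conj_le_centralizer comm_symm comm_mono)
open Cfsg.Agent.Omega.NO3S.ML (card_mul_relIndex card_sup_mul_of_comm)
open scoped Pointwise

universe u

variable {G : Type u} [Group G]

/-- THEOREM C for 2-subgroups of `C(a)`. -/
def ThmC2 (Z : Fin 2 → Subgroup G) (X : Subgroup G → Subgroup G) : Prop :=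
  ∀ a : Subgroup G, IsPt Z a → ∀ B : Subgroup G, IsPGroup 2 B → B ≤ centralizer (a : Set G) →
    (∀ x ∈ X a, ∀ g ∈ B, x * g * x⁻¹ * g⁻¹ ∈ NN Z a) → B ≤ centralizer (NN Z a : Set G)

/-- `(1b)` of THEOREM R / THEOREM C: `B ∈ AA Q_a`, `a ~ u`, `C_B(N_u)` centralises `X_u`: `B` centralises `N_u` -/
def TB (Z : Fin 2 → Subgroup G) (X : Subgroup G → Subgroup G) : Prop :=
  ∀ a u : Subgroup G, Adj Z a u → ∀ B ∈ AA (QQ a),
    B ⊓ centralizer (NN Z u : Set G) ≤ centralizer (X u : Set G) → B ≤ centralizer (NN Z u : Set G)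

/-- points are t.i. -/
def TIp (Z : Fin 2 → Subgroup G) : Prop :=
  ∀ a b : Subgroup G, IsPt Z a → IsPt Z b → a ≠ b → a ⊓ b = ⊥

/-- `(NO)` for `Q_a` on `X_a` -/
def NobX (Z : Fin 2 → Subgroup G) (X : Subgroup G → Subgroup G) : Prop :=
  ∀ a : Subgroup G, IsPt Z a → ∀ B : Subgroup G, IsElementaryAbelian 2 B → B ≤ QQ a → Nob (X a) B

/-- an element of `Q_b` which normalises all points `u ~ a` centralises `N_a`, `a ~ b` -/
def FixN (Z : Fin 2 → Subgroup G) : Prop :=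
  ∀ a b : Subgroup G, Adj Z a b → ∀ x ∈ QQ b, (∀ u : Subgroup G, Adj Z a u → MulAut.conj x • u = u) →
    x ∈ centralizer (NN Z a : Set G)

theorem ti_one {Z : Fin 2 → Subgroup G} (hti : TIp Z) {a b : Subgroup G} (ha : IsPt Z a) (hb : IsPt Z b)
    (hne : a ≠ b) {x : G} (hxa : x ∈ a) (hxb : x ∈ b) : x = 1 := by
  have h1 : x ∈ a ⊓ b := ⟨hxa, hxb⟩
  rwa [hti a b ha hb hne, mem_bot] at h1

variable [Finite G]

section main

variable {Z U : Fin 2 → Subgroup G} (P : PP Z U) {X : Subgroup G → Subgroup G} (F : XF Z X)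
  (hX : ∀ m ≤ 2, ∀ a b : Subgroup G, Pth Z m a b → X a ≤ centralizer (X b : Set G))
  (hN : NobX Z X)

include P F hX
include hN

/-- `(NO)` for `C_{Q_a}(M_a)` on `Y_a` -/
theorem nobY0 {a B : Subgroup G} (hB : IsElementaryAbelian 2 B) (hBQ : B ≤ QQ a)
    (hBM : B ≤ centralizer (MM Z a : Set G)) : Nob (YY Z X a) B := by
  refine no_sup (ι := {u : Subgroup G // Adj Z a u}) (N := fun u => X u) (M := YY Z X a)
    (Q := QQ a ⊓ centralizer (MM Z a : Set G)) (fun u => X_le_YY u.2) le_rfl (fun u B hB hBQ => ?_) B hB (le_inf hBQ hBM)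
  exact hN _ (P.adj_pt u.2) _ hB (cent_MM_le P F hX u.2 (hBQ.trans inf_le_left) (hBQ.trans inf_le_right))

variable (hNO : NoP Z)
include hNO

/-- `(NO)` for `Q_a` on `Y_a` -/
theorem nobY1 {a B : Subgroup G} (hB : IsElementaryAbelian 2 B) (hBQ : B ≤ QQ a) : Nob (YY Z X a) B :=
  nob_of (MM_le_YY P F hX) (MM_no P (hC P F hX) hNO hB hBQ)
    (nobY0 P F hX hN (eab_mono hB inf_le_left) (inf_le_left.trans hBQ) inf_le_right)

/-- `(NO)` for `Q_b` on `Y_a`, `a ~ b` -/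
theorem nobY2 {a b B : Subgroup G} (h : Adj Z a b) (hB : IsElementaryAbelian 2 B) (hBQ : B ≤ QQ b) :
    Nob (YY Z X a) B :=
  nob_of (NN_le_YY P F hX) (hNO b a (P.adj_symm h) B hB hBQ)
    (nobY1 P F hX hN hNO (eab_mono hB inf_le_left) (P.f3 h (inf_le_left.trans hBQ) inf_le_right))

theorem nobT1 {a B : Subgroup G} (ha : IsPt Z a) (hB : IsElementaryAbelian 2 B) (hBQ : B ≤ QQ a) :
    Nob (MM Z a ⊔ NN Z a) B :=
  nob_of le_sup_left (MM_no P (hC P F hX) hNO hB hBQ) (nob_of_le (comm_symm (sup_le (comm_symm inf_le_right)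
    (comm_symm (inf_le_left.trans (hBQ.trans (P.QQ_le_cent ha)))))))

theorem nobT2 {a b B : Subgroup G} (h : Adj Z a b) (hB : IsElementaryAbelian 2 B) (hBQ : B ≤ QQ b) :
    Nob (MM Z a ⊔ NN Z a) B :=
  nob_of le_sup_right (hNO b a (P.adj_symm h) B hB hBQ)
    (nobT1 P F hX hN hNO h.pt (eab_mono hB inf_le_left) (P.f3 h (inf_le_left.trans hBQ) inf_le_right))

/-- `AA Q` for `Q ≥ Y` : exact on `Y_a` -/
theorem exaY {a A Q : Subgroup G} (hYQ : YY Z X a ≤ Q) (hA : A ∈ AA Q) (h : Nob (YY Z X a) A) :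
    Exa (YY Z X a) A :=
  (swp (YY_eab P F hX) hYQ hA h).1

/-- THEOREM C for 2-subgroups gives `TB` (critical distance at least `3`) -/
theorem tb_of (hG : ThmC2 Z X) : TB Z X := by
  intro a u hau B hB h3
  obtain ⟨-, h4⟩ := exa_peel (N := YY Z X a) (V := NN Z u) (B := B)
    ((F.NX _ (P.adj_pt hau)).trans (X_le_YY hau))
    (exaY P F hX hN hNO (YY_le_QQ P F hX) hB (nobY1 P F hX hN hNO hB.1 hB.2.1))
    (hNO a u hau B hB.1 hB.2.1)
    (nobY1 P F hX hN hNO (eab_mono hB.1 inf_le_left) (inf_le_left.trans hB.2.1))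
  refine hG u (P.adj_pt hau) B (MinSimple.VModule.o2_isPGroup _ |>.to_le hB.2.1)
    (hB.2.1.trans ((P.QQ_le_cent hau.pt).trans (centralizer_le hau.le_NN))) fun x hx g hg => ?_
  have hgu : g ∈ HH u := P.QQ_le_HH (P.adj_symm hau) (hB.2.1 hg)
  have h5 : x ∈ YY Z X a ⊓ centralizer ((B ⊓ centralizer (NN Z u : Set G) : Subgroup G) : Set G) :=
    ⟨X_le_YY hau hx, mem_centralizer_iff.2 fun b hb => (mem_centralizer_iff.1 (h3 hb) x hx).symm⟩
  obtain ⟨n, hn, y, hy, rfl⟩ := exists_mul_of_comm (V := NN Z u) (D := YY Z X a ⊓ centralizer (B : Set G))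
    (((F.NX _ (P.adj_pt hau)).trans (X_le_YY hau)).trans ((YY_comm P F hX).trans (centralizer_le inf_le_left))) (h4 h5)
  have e1 : g * y = y * g := mem_centralizer_iff.1 hy.2 g hg
  have e2 : n * y * g * (n * y)⁻¹ * g⁻¹ = n * (g * n⁻¹ * g⁻¹) := by
    calc n * y * g * (n * y)⁻¹ * g⁻¹ = n * (y * g) * y⁻¹ * n⁻¹ * g⁻¹ := by group
      _ = n * (g * y) * y⁻¹ * n⁻¹ * g⁻¹ := by rw [e1]
      _ = _ := by group
  rw [e2]
  exact mul_mem hn ((mem_normalizer_iff.1 (PP.HH_le_NN u hgu) _).1 (inv_mem hn))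

variable (hG : TB Z X) (hti : TIp Z)

include hG in
/-- some `B ∈ AA Q_a` centralises `M_a` and moves `Y_a` -/
theorem exists_B (hne : jj (QQ (Z 0)) ≠ ⊥) {a u₀ : Subgroup G} (h₀ : Adj Z a u₀) :
    ∃ B ∈ AA (QQ a), B ≤ centralizer (MM Z a : Set G) ∧ ¬ B ≤ centralizer (YY Z X a : Set G) := by
  obtain ⟨B, hB⟩ := exists_minA_MM P (hC P F hX) hne h₀
  obtain ⟨⟨u, hau⟩, hu⟩ := not_le_iSup hB.mov
  replace hu : ¬ B ≤ centralizer (NN Z u : Set G) := hu
  obtain ⟨h1, -, -, -, -⟩ := hB.nbr P (hC P F hX) hNO hau hu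
  obtain ⟨-, -, h2, -⟩ := exact P (hC1 P (hC P F hX)) hNO hau hB.mem
  refine ⟨_, h2, sup_le h1 ((NN_le_MM P (hC P F hX) hau).trans (MM_comm P (hC P F hX))), fun hcon => ?_⟩
  -- `C_B(N_u)` centralises `X_u`
  exact hu (hG a u hau B hB.mem ((le_sup_left.trans hcon).trans (centralizer_le (X_le_YY hau))))

include hG hti in
/-- **(a)** -/
theorem sep (hne : jj (QQ (Z 0)) ≠ ⊥) {a u : Subgroup G} (h : Adj Z a u) : Sep Z X a u := by
  obtain ⟨B, hB, hBM, hBY⟩ := exists_B P F hX hN hNO hG hne h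
  set Q' := QQ a ⊓ centralizer (MM Z a : Set G) with hQ'
  have hBQ' : B ∈ AA Q' := ⟨hB.1, le_inf hB.2.1 hBM, fun D hD hDQ => hB.2.2 D hD (hDQ.trans inf_le_left)⟩
  obtain ⟨C, hCm⟩ := exists_minA hBQ' hBY
  obtain ⟨⟨u', hau'⟩, hu'⟩ := not_le_iSup hCm.mov
  replace hu' : ¬ C ≤ centralizer (X u' : Set G) := hu'
  have hCQ : C ≤ QQ a := hCm.mem.2.1.trans inf_le_left
  have hCM : C ≤ centralizer (MM Z a : Set G) := hCm.mem.2.1.trans inf_le_right
  have hCu : ∀ p, Adj Z a p → C ≤ QQ p := fun p hp => cent_MM_le P F hX hp hCQ hCM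
  have hYQ' : YY Z X a ≤ Q' :=
    le_inf (YY_le_QQ P F hX) ((YY_comm P F hX).trans (centralizer_le (MM_le_YY P F hX)))
  obtain ⟨-, -, -, h4⟩ := hCm.cap (YY_eab P F hX) hYQ' (X_le_YY hau') hu'
    (hN _ (P.adj_pt hau') _ hCm.mem.1 (hCu _ hau'))
  obtain ⟨g, hgC, hgu⟩ := SetLike.not_le_iff_exists.1 hu'
  have h5 : Sep Z X a u' := by
    refine ⟨g, hCQ hgC, hCM hgC, fun p hp hne' => ?_, hgu⟩
    refine mem_centralizer_iff.2 fun x hx => ?_
    have h6 : x * g * x⁻¹ * g⁻¹ ∈ u' := by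
      obtain ⟨v, hv, e⟩ := h4 x (X_le_YY hp hx) g hgC
      rw [e]
      exact F.com u' (P.adj_pt hau') v hv g (hCu _ hau' hgC)
    have h7 : x * g * x⁻¹ * g⁻¹ ∈ p := F.com p (P.adj_pt hp) x hx g (hCu _ hp hgC)
    have h8 := ti_one hti (P.adj_pt hp) (P.adj_pt hau') hne' h7 h6
    calc x * g = (x * g * x⁻¹ * g⁻¹) * (g * x) := by group
      _ = g * x := by rw [h8, one_mul]
  -- all pairs are conjugate
  obtain ⟨k, hk0, hk1⟩ := hau'
  obtain ⟨l, hl0, hl1⟩ := h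
  have h9 := h5.conj P F ⟨k, hk0, hk1⟩ (l * k⁻¹)
  have e : ∀ A B C : Subgroup G, A = MulAut.conj k • C → B = MulAut.conj l • C → MulAut.conj (l * k⁻¹) • A = B := by
    rintro _ _ C rfl rfl
    rw [conj_conj, inv_mul_cancel_right]
  rwa [e _ _ _ hk0 hl0, e _ _ _ hk1 hl1] at h9

include hG hti in
/-- **TEXT R5 (4)**: least distance at least three is impossible. -/
theorem false_of_three (hne : jj (QQ (Z 0)) ≠ ⊥) (hfx : FixN Z) : False := by
  have h0 : IsPt Z (Z 0) := ⟨1, by rw [map_one, one_smul]⟩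
  have hab : Adj Z (Z 0) (Z 1) := ⟨1, by rw [map_one, one_smul], by rw [map_one, one_smul]⟩
  obtain ⟨A, hA, hmov⟩ := moves P hne (P.adj_symm hab)
  set a := Z 0 with ha
  set b := Z 1 with hb
  obtain ⟨x, hxA, hxN⟩ := SetLike.not_le_iff_exists.1 hmov
  obtain ⟨u, hau, hxu⟩ : ∃ u : Subgroup G, Adj Z a u ∧ MulAut.conj x • u ≠ u := by
    by_contra hcon
    push Not at hcon
    exact hxN (hfx a b hab x (hA.2.1 hxA) hcon)
  have hAab := (eab_iff.1 hA.1).1
  have hAa : A ≤ HH a := hA.2.1.trans (P.QQ_le_HH hab)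
  have hxa : MulAut.conj x • a = a := Cfsg.Agent.Omega.NOThreeL.Pair.conj_eq_of_mem (hAa hxA)
  set u' := MulAut.conj x • u with hu'
  have hau' : Adj Z a u' := by
    have h1 := hau.conj x
    rwa [hxa] at h1
  have hupt := P.adj_pt hau
  have hne' : u' ≠ u := hxu
  obtain ⟨g, hgQ, hgM, hgX, hgu⟩ := sep P F hX hN hNO hG hti hne hau
  set T := MM Z a ⊔ NN Z a with hT
  have hTY : T ≤ YY Z X a := sup_le (MM_le_YY P F hX) (NN_le_YY P F hX)
  set AM := A ⊓ centralizer (T : Set G) with hAM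
  have hAMQ : AM ≤ QQ a := P.f3 hab (inf_le_left.trans hA.2.1) (inf_le_right.trans (centralizer_le (le_sup_right : NN Z a ≤ T)))
  have hAMe : IsElementaryAbelian 2 AM := eab_mono hA.1 inf_le_left
  have hAMM : AM ≤ centralizer (MM Z a : Set G) := inf_le_right.trans (centralizer_le (le_sup_left : MM Z a ≤ T))
  have hAMu : ∀ p, Adj Z a p → AM ≤ QQ p := fun p hp => cent_MM_le P F hX hp hAMQ hAMM
  have hE := exaY P F hX hN hNO (YY_le_QQ' P F hX hab) hA (nobY2 P F hX hN hNO hab hA.1 hA.2.1)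
  obtain ⟨h1, h2⟩ := exa_peel hTY hE (nobT2 P F hX hN hNO hab hA.1 hA.2.1) (nobY1 P F hX hN hNO hAMe hAMQ)
  obtain ⟨-, h3⟩ := exa_peel (X_le_YY hau) h1 (hN _ hupt _ hAMe (hAMu _ hau))
    (nobY1 P F hX hN hNO (eab_mono hAMe inf_le_left) (inf_le_left.trans hAMQ))
  have hYc := YY_comm P F hX (a := a)
  have hXu' : X u' = MulAut.conj x • X u := F.conj x u hupt
  -- `A_M` centralises `X_u'`
  have h4 : AM ≤ centralizer (X u' : Set G) := by
    intro y hy
    refine mem_centralizer_iff.2 fun s hs => ?_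
    have h5 : s ∈ YY Z X a ⊓ centralizer ((AM ⊓ centralizer (X u : Set G) : Subgroup G) : Set G) := by
      refine ⟨X_le_YY hau' hs, mem_centralizer_iff.2 fun w hw => ?_⟩
      rw [hXu'] at hs
      obtain ⟨t, ht, rfl⟩ := hs
      have e1 : x * w = w * x := mem_centralizer_iff.1 (hAab hw.1.1) x hxA
      have e2 : t * w = w * t := mem_centralizer_iff.1 hw.2 t ht
      change w * (x * t * x⁻¹) = x * t * x⁻¹ * w
      have e3 : x⁻¹ * w = w * x⁻¹ := mem_centralizer_iff.1 (hAab hw.1.1) x⁻¹ (inv_mem hxA)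
      calc w * (x * t * x⁻¹) = (w * x) * t * x⁻¹ := by group
        _ = x * (w * t) * x⁻¹ := by rw [← e1]; group
        _ = x * t * (w * x⁻¹) := by rw [← e2]; group
        _ = x * t * x⁻¹ * w := by rw [← e3]; group
    obtain ⟨v, hv, w, hw, rfl⟩ := exists_mul_of_comm (V := X u)
      (D := YY Z X a ⊓ centralizer (AM : Set G)) ((X_le_YY hau).trans (hYc.trans (centralizer_le inf_le_left))) (h3 h5)
    have e1 : y * w = w * y := mem_centralizer_iff.1 hw.2 y hy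
    have e2 : v * w * y * (v * w)⁻¹ * y⁻¹ = v * y * v⁻¹ * y⁻¹ := by
      calc v * w * y * (v * w)⁻¹ * y⁻¹ = v * (w * y) * w⁻¹ * v⁻¹ * y⁻¹ := by group
        _ = v * (y * w) * w⁻¹ * v⁻¹ * y⁻¹ := by rw [e1]
        _ = _ := by group
    have h6 : v * w * y * (v * w)⁻¹ * y⁻¹ ∈ u := by
      rw [e2]
      exact F.com u hupt v hv y (hAMu _ hau hy)
    have h7 : v * w * y * (v * w)⁻¹ * y⁻¹ ∈ u' := F.com u' (P.adj_pt hau') _ hs y (hAMu _ hau' hy)
    have h8 := ti_one hti (P.adj_pt hau') hupt hne' h7 h6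
    calc v * w * y = (v * w * y * (v * w)⁻¹ * y⁻¹) * (y * (v * w)) := by group
      _ = y * (v * w) := by rw [h8, one_mul]
  -- `A_M` centralises `X_u`
  have h5 : AM ≤ centralizer (X u : Set G) := by
    intro y hy
    have e1 : x * y * x⁻¹ = y := by
      have : x * y = y * x := mem_centralizer_iff.1 (hAab hy.1) x hxA
      rw [this]; group
    have h6 := h4 hy
    rw [hXu', ← e1, mem_cent_conj] at h6
    exact h6
  -- `X_u ≤ T X_u'`
  apply hgu
  refine mem_centralizer_iff.2 fun s hs => ?_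
  have hgT : g ∈ centralizer (T : Set G) := by
    have h6 : T ≤ centralizer ({g} : Set G) := by
      refine sup_le (fun t ht => ?_) fun t ht => ?_
      · rw [mem_centralizer_singleton_iff]
        exact mem_centralizer_iff.1 hgM t ht
      · rw [mem_centralizer_singleton_iff]
        exact mem_centralizer_iff.1 (P.QQ_le_cent h0 hgQ) t ht
    exact mem_centralizer_iff.2 fun t ht => mem_centralizer_singleton_iff.1 (h6 ht)
  have hxT : ∀ t ∈ T, x * t * x⁻¹ ∈ T := by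
    intro t ht
    have h6 : MulAut.conj x • T = T := by
      rw [hT, Subgroup.smul_sup, ← MM_conj, ← NN_conj, hxa]
    rw [← h6]
    exact ⟨t, ht, rfl⟩
  obtain ⟨t, ht, c, hc, rfl⟩ := exists_mul_of_comm (V := T) (D := YY Z X a ⊓ centralizer (A : Set G))
    (hTY.trans (hYc.trans (centralizer_le inf_le_left)))
    (h2 ⟨X_le_YY hau hs, mem_centralizer_iff.2 fun y hy => (mem_centralizer_iff.1 (h5 hy) s hs).symm⟩)
  have e1 : x * c = c * x := mem_centralizer_iff.1 hc.2 x hxA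
  have e2 : x * (t * c) * x⁻¹ = x * t * x⁻¹ * c := by
    calc x * (t * c) * x⁻¹ = x * t * x⁻¹ * (x * c) * x⁻¹ := by group
      _ = x * t * x⁻¹ * (c * x) * x⁻¹ := by rw [e1]
      _ = x * t * x⁻¹ * c := by group
  have k1 : t ∈ centralizer ({g} : Set G) := by
    rw [mem_centralizer_singleton_iff]
    exact mem_centralizer_iff.1 hgT t ht
  have k2 : x * t * x⁻¹ ∈ centralizer ({g} : Set G) := by
    rw [mem_centralizer_singleton_iff]
    exact mem_centralizer_iff.1 hgT _ (hxT t ht)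
  have k3 : x * t * x⁻¹ * c ∈ centralizer ({g} : Set G) := by
    rw [mem_centralizer_singleton_iff, ← e2]
    refine mem_centralizer_iff.1 (hgX u' hau' hne') _ ?_
    rw [hXu']
    exact ⟨_, hs, rfl⟩
  have k4 : c ∈ centralizer ({g} : Set G) := by
    have := mul_mem (inv_mem k2) k3
    rwa [inv_mul_cancel_left] at this
  exact mem_centralizer_singleton_iff.1 (mul_mem k1 k4)

end main

/-! ### `FixN`, `NobX` from the lines -/

section lines

variable {Z U : Fin 2 → Subgroup G}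

/-- A 2-element acting on a nontrivial elementary abelian 2-group has a nontrivial fixed point. -/
theorem exists_fx {M : Subgroup G} {x : G} (hx : IsPGroup 2 (zpowers x)) (hM : ∀ y ∈ M, y ^ 2 = 1) (hM1 : M ≠ ⊥)
    (hn : x ∈ normalizer (M : Set G)) : ∃ v ∈ M, v ≠ 1 ∧ x * v * x⁻¹ = v := by
  have : Fact (Nat.Prime 2) := ⟨Nat.prime_two⟩
  have hn' : ∀ y ∈ zpowers x, ∀ v ∈ M, y * v * y⁻¹ ∈ M := fun y hy v hv =>
    (mem_normalizer_iff.1 ((zpowers_le (H := normalizer (M : Set G))).2 hn hy) v).1 hv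
  let act : MulAction (zpowers x) M :=
    { smul := fun x v => ⟨(x : G) * v * (x : G)⁻¹, hn' x x.2 v v.2⟩
      one_smul := fun v => Subtype.ext (by show (1 : G) * v * (1 : G)⁻¹ = v; group)
      mul_smul := fun x y v => Subtype.ext (by
        show ((x : G) * y) * v * ((x : G) * y)⁻¹ = x * (y * v * (y : G)⁻¹) * (x : G)⁻¹; group) }
  have hMp : IsPGroup 2 M := fun y => ⟨1, Subtype.ext (hM y y.2)⟩
  have h2 : 2 ∣ Nat.card M := by
    obtain ⟨n, hn⟩ := IsPGroup.iff_card.1 hMp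
    rcases Nat.eq_zero_or_pos n with h0 | h0
    · rw [h0, pow_zero] at hn
      exact absurd (Subgroup.card_eq_one.1 hn) hM1
    · rw [hn]; exact dvd_pow_self 2 h0.ne'
  obtain ⟨v, hv, hv1⟩ := hx.exists_fixed_point_of_prime_dvd_card_of_fixed_point M h2 (a := (1 : M))
    (fun x => Subtype.ext (by show (x : G) * 1 * (x : G)⁻¹ = 1; group))
  exact ⟨v, v.2, fun h => hv1 (Subtype.ext h.symm),
    congrArg Subtype.val (hv ⟨x, mem_zpowers x⟩)⟩

/-- a 2-element normalising all points of a line centralises the points of the line -/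
theorem fix_line {l : Subgroup G} {Pt : Subgroup G → Prop} (hl : ∀ y ∈ l, ∀ z ∈ l, y * z = z * y)
    (hsq : ∀ y ∈ l, y ^ 2 = 1) (hPl : ∀ u, Pt u → u ≤ l) (hP1 : ∀ u, Pt u → u ≠ ⊥)
    (hti : ∀ u v, Pt u → Pt v → u ≠ v → u ⊓ v = ⊥)
    (hcov : ∀ y ∈ l, y ≠ 1 → ∃ u, Pt u ∧ y ∈ u) {x : G} (hx : IsPGroup 2 (zpowers x))
    (hfx : ∀ u, Pt u → x ∈ normalizer (u : Set G)) {u u' : Subgroup G} (hu : Pt u) (hu' : Pt u') (hne : u' ≠ u) :
    x ∈ centralizer (u : Set G) := by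
  obtain ⟨v', hv', hv'1, hv'x⟩ := exists_fx hx (fun y hy => hsq y (hPl u' hu' hy)) (hP1 u' hu') (hfx u' hu')
  refine mem_centralizer_iff.2 fun v hv => ?_
  by_cases hv1 : v = 1
  · rw [hv1, one_mul, mul_one]
  have hvl := hPl u hu hv
  have hvl' := hPl u' hu' hv'
  have hvv : v * v' ≠ 1 := by
    intro e
    have h1 : v' ∈ u := by
      have h0 : v' = v⁻¹ := (inv_eq_of_mul_eq_one_right e).symm
      rw [h0]; exact inv_mem hv
    have h2 : v' ∈ u' ⊓ u := ⟨hv', h1⟩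
    rw [hti u' u hu' hu hne, mem_bot] at h2
    exact hv'1 h2
  obtain ⟨w, hw, hvw⟩ := hcov _ (mul_mem hvl hvl') hvv
  have hwu : w ≠ u := by
    rintro rfl
    have h1 : v' ∈ w := by
      have h3 := mul_mem (inv_mem hv) hvw
      rwa [inv_mul_cancel_left] at h3
    have h2 : v' ∈ u' ⊓ w := ⟨hv', h1⟩
    rw [hti u' w hu' hu hne, mem_bot] at h2
    exact hv'1 h2
  have h3 : x * (v * v') * x⁻¹ ∈ w := (mem_normalizer_iff.1 (hfx w hw) _).1 hvw
  have hxv : x * v * x⁻¹ ∈ u := (mem_normalizer_iff.1 (hfx u hu) _).1 hv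
  have e1 : x * (v * v') * x⁻¹ = x * v * x⁻¹ * v' := by
    calc x * (v * v') * x⁻¹ = x * v * x⁻¹ * (x * v' * x⁻¹) := by group
      _ = _ := by rw [hv'x]
  have h4 : x * v * x⁻¹ * v⁻¹ ∈ w := by
    have h5 := mul_mem h3 (inv_mem hvw)
    have e2 : x * (v * v') * x⁻¹ * (v * v')⁻¹ = x * v * x⁻¹ * v⁻¹ := by
      rw [e1, mul_inv_rev]; group
    rwa [e2] at h5
  have h5 : x * v * x⁻¹ * v⁻¹ ∈ w ⊓ u := ⟨h4, u.mul_mem hxv (u.inv_mem hv)⟩
  rw [hti w u hw hu hwu, mem_bot] at h5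
  have e3 := mul_inv_eq_one.1 h5
  calc v * x = (x * v * x⁻¹) * x := by rw [e3]
    _ = x * v := by group

/-- the points of a line of `N_a` are neighbours of `a` -/
theorem adj_of_line (P : PP Z U) {k m : G} (h : MulAut.conj m • Z 0 ≤ MulAut.conj k • U 1) :
    Adj Z (MulAut.conj k • Z 0) (MulAut.conj m • Z 0) := by
  obtain ⟨s, h0, h1, h2, h3⟩ := P.swap
  have h4 : MulAut.conj ((k * s)⁻¹ * m) • Z 0 ≤ U 0 := by
    rw [← h2, conj_conj] at h
    have h5 := conj_le_iff (g := (k * s)⁻¹) |>.2 h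
    rwa [conj_conj, inv_conj_conj] at h5
  obtain ⟨l, hl0, hl1, -, -⟩ := P.tr _ h4
  refine P.adj_symm ⟨k * s * l, ?_, ?_⟩
  · rw [← conj_conj (k * s) l, hl0, conj_conj, mul_inv_cancel_left]
  · rw [← conj_conj (k * s) l, hl1, ← conj_conj k s, h1]

/-- every element `≠ 1` of `U 0` lies in a point of `U 0` -/
def Pts (Z U : Fin 2 → Subgroup G) : Prop :=
  ∀ x ∈ U 0, x ≠ 1 → ∃ k : G, MulAut.conj k • Z 0 ≤ U 0 ∧ x ∈ MulAut.conj k • Z 0

/-- **`FixN`.** -/
theorem fixN_of (P : PP Z U) (hti : TIp Z) (hpts : Pts Z U) (hU : IsElementaryAbelian 2 (U 0))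
    (hne : ¬ U 0 ≤ Z 0) : FixN Z := by
  intro a b hab x hx hfx
  have hx2 : IsPGroup 2 (zpowers x) := (MinSimple.VModule.o2_isPGroup _).to_le (zpowers_le.2 hx)
  obtain ⟨s, h0, h1, h2, h3⟩ := P.swap
  have hZ1 : Z 1 = MulAut.conj s • Z 0 := h0.symm
  -- `x` centralises every neighbour
  have key : ∀ u, Adj Z a u → x ∈ centralizer (u : Set G) := by
    rintro u ⟨k, hka, rfl⟩
    have hlU : MulAut.conj k • U 1 = MulAut.conj (k * s) • U 0 := by rw [← h2, conj_conj]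
    have hlE : IsElementaryAbelian 2 (MulAut.conj k • U 1 : Subgroup G) := by
      rw [hlU]; exact Peel.eab_conj hU _
    have hlE' := eab_iff.1 hlE
    have hkZ : MulAut.conj k • Z 1 = MulAut.conj (k * s) • Z 0 := by rw [hZ1, conj_conj]
    have hPadj : ∀ w : Subgroup G, ((∃ m : G, w = MulAut.conj m • Z 0) ∧ w ≤ MulAut.conj k • U 1) → Adj Z a w := by
      rintro _ ⟨⟨m, rfl⟩, hm⟩
      rw [hka]
      exact adj_of_line P hm
    have hu : (∃ m : G, (MulAut.conj k • Z 1 : Subgroup G) = MulAut.conj m • Z 0) ∧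
        (MulAut.conj k • Z 1 : Subgroup G) ≤ MulAut.conj k • U 1 := by
      refine ⟨⟨k * s, hkZ⟩, ?_⟩
      rw [hlU, hkZ]
      exact conj_le_iff.2 P.ZU
    have hcov : ∀ y ∈ (MulAut.conj k • U 1 : Subgroup G), y ≠ 1 → ∃ w : Subgroup G,
        ((∃ m : G, w = MulAut.conj m • Z 0) ∧ w ≤ MulAut.conj k • U 1) ∧ y ∈ w := by
      intro y hy hy1
      rw [hlU] at hy ⊢
      obtain ⟨y0, hy0, rfl⟩ := hy
      obtain ⟨m, hm, hym⟩ := hpts y0 hy0 (fun e => hy1 (by rw [e]; exact map_one _))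
      exact ⟨MulAut.conj (k * s) • (MulAut.conj m • Z 0), ⟨⟨(k * s) * m, conj_conj _ _ _⟩, conj_le_iff.2 hm⟩,
        ⟨y0, hym, rfl⟩⟩
    -- another point
    obtain ⟨y, hy, hyu⟩ : ∃ y ∈ (MulAut.conj k • U 1 : Subgroup G), y ∉ (MulAut.conj k • Z 1 : Subgroup G) := by
      by_contra hcon
      push Not at hcon
      apply hne
      have h4 : (MulAut.conj k • U 1 : Subgroup G) ≤ MulAut.conj k • Z 1 := hcon
      rw [hlU, hkZ] at h4
      exact conj_le_iff.1 h4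
    obtain ⟨u', hu', hyu'⟩ := hcov y hy (fun e => hyu (e ▸ one_mem _))
    have hne' : u' ≠ MulAut.conj k • Z 1 := fun e => hyu (e ▸ hyu')
    refine fix_line (l := MulAut.conj k • U 1)
      (Pt := fun w => (∃ m : G, w = MulAut.conj m • Z 0) ∧ w ≤ MulAut.conj k • U 1)
      (fun y hy z hz => (mem_centralizer_iff.1 (hlE'.1 hz) y hy)) hlE'.2 (fun w hw => hw.2) ?_ ?_ hcov hx2
      (fun w hw => ChoiceBase.mem_normalizer_iff_cj.2 (hfx w (hPadj w hw))) hu hu' hne'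
    · rintro _ ⟨⟨m, rfl⟩, -⟩ e
      apply P.ne
      have h4 : MulAut.conj m • Z 0 ≤ MulAut.conj m • (⊥ : Subgroup G) := by rw [e]; exact bot_le
      exact le_bot_iff.1 (conj_le_iff.1 h4)
    · rintro _ _ ⟨⟨m, rfl⟩, -⟩ ⟨⟨m', rfl⟩, -⟩ hne
      exact hti _ _ ⟨m, rfl⟩ ⟨m', rfl⟩ hne
  have h5 : NN Z a ≤ centralizer ({x} : Set G) := sSup_le fun u hu y hy =>
    mem_centralizer_singleton_iff.2 (mem_centralizer_iff.1 (key u hu) y hy)
  exact mem_centralizer_iff.2 fun y hy => mem_centralizer_singleton_iff.1 (h5 hy)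

theorem nob_conj {N B : Subgroup G} (h : Nob N B) (g : G) : Nob (MulAut.conj g • N) (MulAut.conj g • B) := by
  unfold Nob at *
  have e1 : centralizer ((MulAut.conj g • N : Subgroup G) : Set G) = MulAut.conj g • centralizer (N : Set G) :=
    (ZN.ChoiceBase.cj_centralizer g _).symm
  have e2 : centralizer ((MulAut.conj g • B : Subgroup G) : Set G) = MulAut.conj g • centralizer (B : Set G) :=
    (ZN.ChoiceBase.cj_centralizer g _).symm
  rw [e1, e2, relIndex_pointwise_smul, relIndex_pointwise_smul]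
  exact h

/-- `(NO)` for `Q(Z 0)` on `U 0` -/
def NobU (Z U : Fin 2 → Subgroup G) : Prop :=
  ∀ B : Subgroup G, IsElementaryAbelian 2 B → B ≤ QQ (Z 0) → Nob (U 0) B

/-- **`NobX`** -/
theorem nobX_of (P : PP Z U) (hN : NobU Z U) : NobX Z (XW Z U) := by
  intro a ha B hB hBQ
  refine no_sup (ι := Option {l : Subgroup G // LnOn Z U a l})
    (N := fun o => o.elim (NN Z a) fun l => (l : Subgroup G)) (M := XW Z U a) (Q := QQ a) ?_ ?_ ?_ B hB hBQ
  · rintro (_ | l)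
    · exact le_sup_left
    · exact ln_le_XW l.2
  · refine sup_le ?_ (iSup_le fun l => ?_)
    · exact le_iSup (fun o : Option {l : Subgroup G // LnOn Z U a l} =>
        o.elim (NN Z a) fun l => (l : Subgroup G)) none
    · exact le_iSup (fun o : Option {l : Subgroup G // LnOn Z U a l} =>
        o.elim (NN Z a) fun l => (l : Subgroup G)) (some l)
  · rintro (_ | ⟨l, k, hk, rfl⟩) B hB hBQ
    · exact nob_of_le (hBQ.trans (P.QQ_le_cent ha))
    · change Nob (MulAut.conj k • U 0) B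
      have h1 : B = MulAut.conj k • (MulAut.conj k⁻¹ • B) := (conj_inv_conj k B).symm
      rw [h1]
      refine nob_conj (hN _ (Peel.eab_conj hB _) ?_) k
      rw [hk, QQ_conj] at hBQ
      have h2 := conj_le_iff (g := k⁻¹) |>.2 hBQ
      rwa [inv_conj_conj] at h2

/-- `NobU` from the root group structure on `U 0`. -/
theorem nobU_of (P : PP Z U) (hUZ : ¬ U 0 ≤ Z 0)
    (hfree : ∀ y ∈ QQ (Z 0), ∀ v ∈ U 0, v ∉ Z 0 → y * v = v * y → y ∈ centralizer (U 0 : Set G))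
    (hcard : Nat.card (U 0) = Nat.card (Z 0) * Nat.card (Z 0)) : NobU Z U := by
  intro B hB hBQ
  by_cases hc : B ≤ centralizer (U 0 : Set G)
  · exact nob_of_le hc
  obtain ⟨b, hb, hbU⟩ := SetLike.not_le_iff_exists.1 hc
  unfold Nob
  have hZpos : 0 < Nat.card (Z 0) := Nat.card_pos
  -- `C_U(B) ≤ Z`
  have h1 : Nat.card (Z 0) ≤ (centralizer (B : Set G)).relIndex (U 0) := by
    have h2 : U 0 ⊓ centralizer (B : Set G) ≤ Z 0 := by
      rintro v ⟨hv, hvB⟩
      by_contra hvZ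
      exact hbU (hfree b (hBQ hb) v hv hvZ (mem_centralizer_iff.1 hvB b hb))
    have h3 : Nat.card (U 0 ⊓ centralizer (B : Set G) : Subgroup G) * (centralizer (B : Set G)).relIndex (U 0) =
        Nat.card (U 0) := by
      rw [← inf_relIndex_left]
      exact Cfsg.Agent.Omega.NO3S.ML.card_mul_relIndex inf_le_left
    have h4 : Nat.card (U 0 ⊓ centralizer (B : Set G) : Subgroup G) ≤ Nat.card (Z 0) := card_le_of_le h2
    have h5 : Nat.card (Z 0) * Nat.card (Z 0) ≤ Nat.card (Z 0) * (centralizer (B : Set G)).relIndex (U 0) := by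
      rw [← hcard, ← h3]
      exact Nat.mul_le_mul_right _ h4
    exact Nat.le_of_mul_le_mul_left h5 hZpos
  refine le_trans ?_ h1
  -- the commutator with a fixed vector
  obtain ⟨v, hv, hvZ⟩ := SetLike.not_le_iff_exists.1 hUZ
  have hcom : ∀ y : B, v * (y : G) * v⁻¹ * (y : G)⁻¹ ∈ Z 0 := fun y =>
    P.comm_mem (a := Z 0) ⟨1, by rw [map_one, one_smul], by rw [map_one, one_smul]⟩ hv (hBQ y.2)
  set K := (centralizer (U 0 : Set G)).subgroupOf B with hK
  let f : B ⧸ K → Z 0 := fun q => ⟨_, hcom q.out⟩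
  have hf : Function.Injective f := by
    intro p q hpq
    have e : v * (p.out : G) * v⁻¹ * (p.out : G)⁻¹ = v * (q.out : G) * v⁻¹ * (q.out : G)⁻¹ := congrArg Subtype.val hpq
    have e1 : (p.out : G)⁻¹ * (q.out : G) * v = v * ((p.out : G)⁻¹ * (q.out : G)) := by
      have e0 : (p.out : G) * v * (p.out : G)⁻¹ = (q.out : G) * v * (q.out : G)⁻¹ := by
        calc (p.out : G) * v * (p.out : G)⁻¹ = (v * (p.out : G) * v⁻¹ * (p.out : G)⁻¹)⁻¹ * v := by group
          _ = (v * (q.out : G) * v⁻¹ * (q.out : G)⁻¹)⁻¹ * v := by rw [e]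
          _ = _ := by group
      calc (p.out : G)⁻¹ * (q.out : G) * v = (p.out : G)⁻¹ * ((q.out : G) * v * (q.out : G)⁻¹) * (q.out : G) := by group
        _ = (p.out : G)⁻¹ * ((p.out : G) * v * (p.out : G)⁻¹) * (q.out : G) := by rw [e0]
        _ = _ := by group
    rw [← QuotientGroup.out_eq' p, ← QuotientGroup.out_eq' q]
    refine QuotientGroup.eq.2 ?_
    refine mem_subgroupOf.2 ?_
    exact hfree _ (mul_mem (inv_mem (hBQ p.out.2)) (hBQ q.out.2)) v hv hvZ e1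
  calc (centralizer (U 0 : Set G)).relIndex B = Nat.card (B ⧸ K) := rfl
    _ ≤ Nat.card (Z 0) := Nat.card_le_card_of_injective f hf

/-- **TEXT Q4 (2) / TEXT R5 (4), for `X_a = W_a N_a`, all `q`.** -/
theorem farQ (P : PP Z U) (hab : IsElementaryAbelian 2 (XW Z U (Z 0))) (hle : XW Z U (Z 0) ≤ QQ (Z 0))
    (hN : NobX Z (XW Z U)) (hNO : NoP Z) (hG : TB Z (XW Z U)) (hti : TIp Z) (hfx : FixN Z) :
    ∃ d a b, d ≤ 1 ∧ Pth Z (d + 1) a b ∧ ¬ XW Z U a ≤ centralizer (XW Z U b : Set G) ∧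
      ∀ m ≤ d, ∀ a b, Pth Z m a b → XW Z U a ≤ centralizer (XW Z U b : Set G) := by
  classical
  have F := xf P hab hle
  have hex : ∃ n ≤ 2, ∃ a b, Pth Z n a b ∧ ¬ XW Z U a ≤ centralizer (XW Z U b : Set G) := by
    by_contra hcon
    push Not at hcon
    exact false_of_three P F hcon hN hNO hG hti (jj_ne P) hfx
  obtain ⟨n, ⟨hn2, a, b, hab', hne⟩, hmin⟩ : ∃ n, (n ≤ 2 ∧ ∃ a b, Pth Z n a b ∧
      ¬ XW Z U a ≤ centralizer (XW Z U b : Set G)) ∧
      ∀ m < n, ¬ (m ≤ 2 ∧ ∃ a b, Pth Z m a b ∧ ¬ XW Z U a ≤ centralizer (XW Z U b : Set G)) :=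
    ⟨Nat.find hex, Nat.find_spec hex, fun m hm => Nat.find_min hex hm⟩
  have hn : n ≠ 0 := by
    rintro rfl
    cases hab' with
    | zero h => exact hne (eab_iff.1 (F.eab _ h)).1
  obtain ⟨d, rfl⟩ := Nat.exists_eq_succ_of_ne_zero hn
  refine ⟨d, a, b, by omega, hab', hne, fun m hm a b h => ?_⟩
  by_contra h1
  exact hmin m (by omega) ⟨by omega, a, b, h, h1⟩

end lines

end Cfsg.Agent.Omega.OM.PG.PeelQ
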