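import Cfsg.Agent.Omega.OM.PG.Exact
import Cfsg.Agent.Omega.OM.PG.PeelQ

/-!
# EXACTNESS of a critical pair, all `q` (helper997, TEXT Q4 #20474 (2))

`Exact.lean` without `|Z_0| = 2`: the pairing `X × C_Y(N) → a` is replaced by `(NO)` for `C_Y(N)` on `X`.

* `CrQ N M X Y`, `CrQ.sup_eq`, `CrQ.dich`, `CrQ.red`; `TA Z X` : `X_a ≰ N_a C(X_b)` for critical pairs (from THEOREM C:
  `ta_of`, from `(1a)` of THEOREM R: `ta_of_comm`);
* `CX.crQ`, `CX.redQ` : a critical pair `(a, b)` has `a ≤ N_b`, `b ≤ N_a`;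
* `Sur Z U` : `[U 0, y] = Z 0` for `y ∈ Q(Z 0)` which moves `U 0`; `sur_of`;
* `false_of_twoQ`, `dist_oneQ`.
-/

set_option autoImplicit false
set_option linter.unusedSectionVars false

namespace Cfsg.Agent.Omega.OM.PG.ExactQ

open Subgroup Cfsg
open Cfsg.Agent.ZN Cfsg.Agent.Omega.OM.PG.Peel Cfsg.Agent.Omega.OM.PG.PeelQ
open Cfsg.Agent.Omega.NO3S.EThree Cfsg.Agent.Omega.NO3S.EThree.ExactA
open Cfsg.Agent.Omega.NoFF.Basic (comm_symm conj_conj conj_le_iff)
open scoped commutatorElement Pointwise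

universe u

variable {G : Type u} [Group G]

/-- The data of a critical pair. -/
structure CrQ (a b N M X Y : Subgroup G) : Prop where
  NX : N ≤ X
  MY : M ≤ Y
  Xc : ∀ x ∈ X, ∀ y ∈ X, x * y = y * x
  Yc : ∀ x ∈ Y, ∀ y ∈ Y, x * y = y * x
  XnY : X ≤ normalizer (Y : Set G)
  YnX : Y ≤ normalizer (X : Set G)
  XnM : X ≤ normalizer (M : Set G)
  YnN : Y ≤ normalizer (N : Set G)
  ca : ⁅X, Y ⊓ centralizer (N : Set G)⁆ ≤ a
  cb : ⁅Y, X ⊓ centralizer (M : Set G)⁆ ≤ b
  ab : a ⊓ b = ⊥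
  pX : Nob X (Y ⊓ centralizer (N : Set G))
  pY : Nob Y (X ⊓ centralizer (M : Set G))
  noN : Nat.card Y * Nat.card (N ⊓ centralizer (Y : Set G) : Subgroup G) ≤
    Nat.card (Y ⊓ centralizer (N : Set G) : Subgroup G) * Nat.card N
  noM : Nat.card X * Nat.card (M ⊓ centralizer (X : Set G) : Subgroup G) ≤
    Nat.card (X ⊓ centralizer (M : Set G) : Subgroup G) * Nat.card M

namespace CrQ

theorem symm {a b N M X Y : Subgroup G} (h : CrQ a b N M X Y) : CrQ b a M N Y X where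
  NX := h.MY
  MY := h.NX
  Xc := h.Yc
  Yc := h.Xc
  XnY := h.YnX
  YnX := h.XnY
  XnM := h.YnN
  YnN := h.XnM
  ca := h.cb
  cb := h.ca
  ab := by rw [inf_comm]; exact h.ab
  pX := h.pY
  pY := h.pX
  noN := h.noM
  noM := h.noN

variable [Finite G] {a b N M X Y : Subgroup G}

variable (h : CrQ a b N M X Y)
include h

theorem comm_EF : X ⊓ centralizer (M : Set G) ≤ centralizer ((Y ⊓ centralizer (N : Set G) : Subgroup G) : Set G) := by
  intro x hx
  rw [mem_centralizer_iff]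
  intro y hy
  have h1 : ⁅x, y⁆ ∈ a := h.ca (commutator_mem_commutator hx.1 hy)
  have h2 : ⁅y, x⁆ ∈ b := h.cb (commutator_mem_commutator hy.1 hx)
  rw [← commutatorElement_inv] at h2
  have h3 : ⁅x, y⁆ ∈ a ⊓ b := ⟨h1, (Subgroup.inv_mem_iff b).1 h2⟩
  rw [h.ab, mem_bot] at h3
  exact (commutatorElement_eq_one_iff_mul_comm.1 h3).symm

theorem dualX : Nat.card (Y ⊓ centralizer (N : Set G) : Subgroup G) *
    Nat.card (N ⊔ (X ⊓ centralizer (M : Set G)) : Subgroup G) ≤
    Nat.card (Y ⊓ centralizer (X : Set G) : Subgroup G) * Nat.card X := by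
  set F := Y ⊓ centralizer (N : Set G) with hF
  have hcardX : Nat.card X = (centralizer (F : Set G)).relIndex X *
      Nat.card (X ⊓ centralizer (F : Set G) : Subgroup G) := by
    rw [← Subgroup.inf_relIndex_left, mul_comm]
    exact (card_mul_relIndex' inf_le_left).symm
  have hcardF : Nat.card F = (centralizer (X : Set G)).relIndex F *
      Nat.card (F ⊓ centralizer (X : Set G) : Subgroup G) := by
    rw [← Subgroup.inf_relIndex_left, mul_comm]
    exact (card_mul_relIndex' inf_le_left).symm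
  have hUle : Nat.card (N ⊔ (X ⊓ centralizer (M : Set G)) : Subgroup G) ≤
      Nat.card (X ⊓ centralizer (F : Set G) : Subgroup G) := by
    refine Subgroup.card_le_of_le (le_inf (sup_le h.NX inf_le_left) (sup_le ?_ h.comm_EF))
    rw [le_centralizer_iff]
    exact inf_le_right
  have e : F ⊓ centralizer (X : Set G) = Y ⊓ centralizer (X : Set G) := by
    refine le_antisymm (inf_le_inf_right _ inf_le_left) (le_inf (le_inf inf_le_left ?_) inf_le_right)
    exact inf_le_right.trans (centralizer_le h.NX)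
  have hrel : (centralizer (X : Set G)).relIndex F ≤ (centralizer (F : Set G)).relIndex X := h.pX
  rw [← e]
  calc Nat.card F * Nat.card (N ⊔ (X ⊓ centralizer (M : Set G)) : Subgroup G)
      ≤ ((centralizer (X : Set G)).relIndex F *
        Nat.card (F ⊓ centralizer (X : Set G) : Subgroup G)) *
        Nat.card (X ⊓ centralizer (F : Set G) : Subgroup G) := by
        rw [← hcardF]; exact Nat.mul_le_mul_left _ hUle
    _ ≤ ((centralizer (F : Set G)).relIndex X * Nat.card (F ⊓ centralizer (X : Set G) : Subgroup G)) *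
        Nat.card (X ⊓ centralizer (F : Set G) : Subgroup G) :=
        Nat.mul_le_mul_right _ (Nat.mul_le_mul_right _ hrel)
    _ = Nat.card (F ⊓ centralizer (X : Set G) : Subgroup G) * Nat.card X := by rw [hcardX]; ring

theorem NK_le : N ⊔ (X ⊓ centralizer (Y : Set G)) ≤ N ⊔ (X ⊓ centralizer (M : Set G)) :=
  sup_le_sup_left (inf_le_inf_left _ (centralizer_le h.MY)) _

/-- `|Y| |K| |N E| ≤ |L| |X| |N K|` -/
theorem chain : Nat.card Y * Nat.card (X ⊓ centralizer (Y : Set G) : Subgroup G) *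
    Nat.card (N ⊔ (X ⊓ centralizer (M : Set G)) : Subgroup G) ≤
    Nat.card (Y ⊓ centralizer (X : Set G) : Subgroup G) * Nat.card X *
      Nat.card (N ⊔ (X ⊓ centralizer (Y : Set G)) : Subgroup G) := by
  have h1 := h.noN
  have h2 := h.dualX
  have h3 := Cr.card_sup h.Xc h.NX (inf_le_left : X ⊓ centralizer (Y : Set G) ≤ X)
  have e : N ⊓ (X ⊓ centralizer (Y : Set G)) = N ⊓ centralizer (Y : Set G) := by
    rw [← inf_assoc, inf_eq_left.2 h.NX]
  rw [e] at h3
  have hpos : 0 < Nat.card (N ⊓ centralizer (Y : Set G) : Subgroup G) := Nat.card_pos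
  refine Nat.le_of_mul_le_mul_right ?_ hpos
  calc Nat.card Y * Nat.card (X ⊓ centralizer (Y : Set G) : Subgroup G) *
        Nat.card (N ⊔ (X ⊓ centralizer (M : Set G)) : Subgroup G) *
        Nat.card (N ⊓ centralizer (Y : Set G) : Subgroup G)
      = (Nat.card Y * Nat.card (N ⊓ centralizer (Y : Set G) : Subgroup G)) *
        (Nat.card (X ⊓ centralizer (Y : Set G) : Subgroup G) *
        Nat.card (N ⊔ (X ⊓ centralizer (M : Set G)) : Subgroup G)) := by ring
    _ ≤ (Nat.card (Y ⊓ centralizer (N : Set G) : Subgroup G) * Nat.card N) *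
        (Nat.card (X ⊓ centralizer (Y : Set G) : Subgroup G) *
        Nat.card (N ⊔ (X ⊓ centralizer (M : Set G)) : Subgroup G)) := Nat.mul_le_mul_right _ h1
    _ = (Nat.card (Y ⊓ centralizer (N : Set G) : Subgroup G) *
        Nat.card (N ⊔ (X ⊓ centralizer (M : Set G)) : Subgroup G)) *
        (Nat.card N * Nat.card (X ⊓ centralizer (Y : Set G) : Subgroup G)) := by ring
    _ ≤ (Nat.card (Y ⊓ centralizer (X : Set G) : Subgroup G) * Nat.card X) *
        (Nat.card N * Nat.card (X ⊓ centralizer (Y : Set G) : Subgroup G)) := Nat.mul_le_mul_right _ h2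
    _ = _ := by rw [h3]; ring

/-- `|Y : C_Y(X)| = |X : C_X(Y)|` -/
theorem card_eq : Nat.card Y * Nat.card (X ⊓ centralizer (Y : Set G) : Subgroup G) =
    Nat.card X * Nat.card (Y ⊓ centralizer (X : Set G) : Subgroup G) := by
  have key : ∀ {a b N M X Y : Subgroup G}, CrQ a b N M X Y →
      Nat.card Y * Nat.card (X ⊓ centralizer (Y : Set G) : Subgroup G) ≤
      Nat.card X * Nat.card (Y ⊓ centralizer (X : Set G) : Subgroup G) := by
    intro a b N M X Y h
    have h1 := h.chain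
    have h2 : Nat.card (N ⊔ (X ⊓ centralizer (Y : Set G)) : Subgroup G) ≤
        Nat.card (N ⊔ (X ⊓ centralizer (M : Set G)) : Subgroup G) := Subgroup.card_le_of_le h.NK_le
    have hpos : 0 < Nat.card (N ⊔ (X ⊓ centralizer (M : Set G)) : Subgroup G) := Nat.card_pos
    refine Nat.le_of_mul_le_mul_right (h1.trans ?_) hpos
    rw [mul_comm (Nat.card (Y ⊓ centralizer (X : Set G) : Subgroup G)) (Nat.card X)]
    exact Nat.mul_le_mul_left _ h2
  exact le_antisymm (key h) (key h.symm)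

/-- **EXACTNESS.** `N C_X(M) = N C_X(Y)` -/
theorem sup_eq : N ⊔ (X ⊓ centralizer (M : Set G)) = N ⊔ (X ⊓ centralizer (Y : Set G)) := by
  refine (Subgroup.eq_of_le_of_card_ge h.NK_le ?_).symm
  have h1 := h.chain
  rw [h.card_eq, mul_comm (Nat.card X)] at h1
  refine Nat.le_of_mul_le_mul_left h1 ?_
  exact Nat.mul_pos Nat.card_pos Nat.card_pos

/-- **The dichotomy.** `X = N C_X(Y)`, or some `m ∈ C_M(N)` moves `X`. -/
theorem dich : X ≤ N ⊔ (X ⊓ centralizer (Y : Set G)) ∨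
    ∃ m ∈ M ⊓ centralizer (N : Set G), m ∉ centralizer (X : Set G) := by
  by_cases hX : X ≤ N ⊔ (X ⊓ centralizer (Y : Set G))
  · exact Or.inl hX
  right
  -- `C_Y(N)` does not centralise `X`
  have hF : ¬ Y ⊓ centralizer (N : Set G) ≤ centralizer (X : Set G) := by
    intro hF
    apply hX
    have hL : Y ⊓ centralizer (X : Set G) = Y ⊓ centralizer (N : Set G) :=
      le_antisymm (inf_le_inf_left _ (centralizer_le h.NX)) (le_inf inf_le_left hF)
    -- `|Y| |N ∩ C(Y)| ≤ |L| |N|`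
    have h1 := h.noN
    rw [← hL] at h1
    have h3 := Cr.card_sup h.Xc h.NX (inf_le_left : X ⊓ centralizer (Y : Set G) ≤ X)
    have e : N ⊓ (X ⊓ centralizer (Y : Set G)) = N ⊓ centralizer (Y : Set G) := by
      rw [← inf_assoc, inf_eq_left.2 h.NX]
    rw [e] at h3
    have h4 := h.card_eq
    have hposn : 0 < Nat.card (N ⊓ centralizer (Y : Set G) : Subgroup G) := Nat.card_pos
    have hposl : 0 < Nat.card (Y ⊓ centralizer (X : Set G) : Subgroup G) := Nat.card_pos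
    have h5 : N ⊔ (X ⊓ centralizer (Y : Set G)) = X := by
      refine Subgroup.eq_of_le_of_card_ge (sup_le h.NX inf_le_left) ?_
      refine Nat.le_of_mul_le_mul_right ?_ (Nat.mul_pos hposl hposn)
      calc Nat.card X * (Nat.card (Y ⊓ centralizer (X : Set G) : Subgroup G) *
            Nat.card (N ⊓ centralizer (Y : Set G) : Subgroup G))
          = (Nat.card Y * Nat.card (N ⊓ centralizer (Y : Set G) : Subgroup G)) *
            Nat.card (X ⊓ centralizer (Y : Set G) : Subgroup G) := by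
            rw [← mul_assoc, ← h4]; ring
        _ ≤ (Nat.card (Y ⊓ centralizer (X : Set G) : Subgroup G) * Nat.card N) *
            Nat.card (X ⊓ centralizer (Y : Set G) : Subgroup G) := Nat.mul_le_mul_right _ h1
        _ = Nat.card (Y ⊓ centralizer (X : Set G) : Subgroup G) *
            (Nat.card N * Nat.card (X ⊓ centralizer (Y : Set G) : Subgroup G)) := by ring
        _ = _ := by rw [h3]; ring
    exact h5.ge
  obtain ⟨f, hf, hfX⟩ := SetLike.not_le_iff_exists.1 hF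
  -- `f = m l`
  have h1 : f ∈ M ⊔ (Y ⊓ centralizer (X : Set G)) := by
    rw [← h.symm.sup_eq]
    exact le_sup_right (a := M) hf
  have hYn : (Y ⊓ centralizer (X : Set G) : Subgroup G) ≤ normalizer (M : Set G) := by
    refine le_trans (b := centralizer (M : Set G)) ?_ (centralizer_le_normalizer _)
    intro k hk
    rw [mem_centralizer_iff]
    intro n hn
    exact h.Yc _ (h.MY hn) _ hk.1
  rw [sup_comm, ← SetLike.mem_coe, Subgroup.coe_mul_of_left_le_normalizer_right _ _ hYn] at h1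
  obtain ⟨l, hl, m, hm, hlm⟩ := h1
  simp only at hlm
  have hm' : m = l⁻¹ * f := by rw [← hlm]; group
  have hmN : m ∈ centralizer (N : Set G) := by
    rw [hm']
    exact mul_mem (inv_mem (centralizer_le h.NX hl.2)) hf.2
  have hmX : m ∉ centralizer (X : Set G) := by
    intro hmX
    apply hfX
    rw [← hlm]
    exact mul_mem hl.2 hmX
  exact ⟨m, ⟨hm, hmN⟩, hmX⟩

/-- **THE REDUCTION** (TEXT R5 #19750 (3)): with THEOREM G for `X` (a group centralising `X / N` centralises `N`) and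
`[X, Y] ≠ 1`. -/
theorem red (hne : ¬ Y ≤ centralizer (X : Set G))
    (hG : (∀ x ∈ X, ∀ y ∈ Y, ⁅x, y⁆ ∈ N) → Y ≤ centralizer (N : Set G)) :
    ∃ m ∈ M ⊓ centralizer (N : Set G), m ∉ centralizer (X : Set G) := by
  rcases h.dich with h1 | h1
  · exfalso
    have hXn : (X ⊓ centralizer (Y : Set G) : Subgroup G) ≤ normalizer (N : Set G) := by
      refine le_trans (b := centralizer (N : Set G)) ?_ (centralizer_le_normalizer _)
      intro k hk
      rw [mem_centralizer_iff]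
      intro n hn
      exact h.Xc _ (h.NX hn) _ hk.1
    have h2 : ∀ x ∈ X, ∃ k ∈ X ⊓ centralizer (Y : Set G), ∃ n ∈ N, x = k * n := by
      intro x hx
      have h3 := h1 hx
      rw [sup_comm, ← SetLike.mem_coe, Subgroup.coe_mul_of_left_le_normalizer_right _ _ hXn] at h3
      obtain ⟨k, hk, n, hn, hkn⟩ := h3
      exact ⟨k, hk, n, hn, hkn.symm⟩
    have h3 : Y ≤ centralizer (N : Set G) := by
      refine hG fun x hx y hy => ?_
      obtain ⟨k, hk, n, hn, rfl⟩ := h2 x hx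
      have h4 : y * k = k * y := mem_centralizer_iff.1 hk.2 y hy
      have h5 : y * n * y⁻¹ ∈ N := (mem_normalizer_iff.1 (h.YnN hy) n).1 hn
      have h6 : k * (y * n⁻¹ * y⁻¹) = (y * n⁻¹ * y⁻¹) * k := by
        refine h.Xc _ hk.1 _ (h.NX ?_)
        exact (mem_normalizer_iff.1 (h.YnN hy) _).1 (inv_mem hn)
      have e : ⁅k * n, y⁆ = n * (y * n⁻¹ * y⁻¹) := by
        rw [commutatorElement_def]
        have hkn : k * n = n * k := h.Xc _ hk.1 _ (h.NX hn)
        have h7 : k * y * k⁻¹ = y := by rw [← h4]; group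
        calc k * n * y * (k * n)⁻¹ * y⁻¹ = n * (k * y * k⁻¹) * n⁻¹ * y⁻¹ := by rw [hkn]; group
          _ = n * (y * n⁻¹ * y⁻¹) := by rw [h7]; group
      rw [e]
      exact mul_mem hn ((mem_normalizer_iff.1 (h.YnN hy) _).1 (inv_mem hn))
    apply hne
    intro y hy
    rw [mem_centralizer_iff]
    intro x hx
    obtain ⟨k, hk, n, hn, rfl⟩ := h2 x hx
    have h4 : y * k = k * y := mem_centralizer_iff.1 hk.2 y hy
    have h5 : n * y = y * n := mem_centralizer_iff.1 (h3 hy) n hn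
    rw [mul_assoc, h5, ← mul_assoc, ← h4, mul_assoc]
  · exact h1

end CrQ

/-! ### Critical pairs of the frame -/

section frame

variable {Z U : Fin 2 → Subgroup G} {X : Subgroup G → Subgroup G} {d : ℕ} {a b : Subgroup G}

theorem disj {Z : Fin 2 → Subgroup G} (hti : TIp Z) {a b : Subgroup G} (ha : IsPt Z a) (hb : IsPt Z b)
    (hne : a ≠ b) : a ⊓ b = ⊥ := hti a b ha hb hne

variable [Finite G]

/-- A critical pair is a `CrQ`. -/
theorem crQ (P : PP Z U) (F : XF Z X) (hN : NobX Z X) (hti : TIp Z) (hNO : NoP Z) (h : CX Z X d a b) :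
    CrQ a b (NN Z a) (NN Z b) (X a) (X b) := by
  obtain ⟨a', b', ha', hb', hXa, hXb⟩ := h.ends P F
  have hap : IsPt Z a := PP.pth_pt h.pth
  have hbp : IsPt Z b := P.pth_pt' h.pth
  have card : ∀ {N B : Subgroup G}, (centralizer (N : Set G)).relIndex B ≤ (centralizer (B : Set G)).relIndex N →
      Nat.card B * Nat.card (N ⊓ centralizer (B : Set G) : Subgroup G) ≤
        Nat.card (B ⊓ centralizer (N : Set G) : Subgroup G) * Nat.card N := by
    intro N B h1
    have h2 : Nat.card (B ⊓ centralizer (N : Set G) : Subgroup G) * (centralizer (N : Set G)).relIndex B =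
        Nat.card B := by
      rw [← Subgroup.inf_relIndex_left]
      exact card_mul_relIndex' inf_le_left
    have h3 : Nat.card (N ⊓ centralizer (B : Set G) : Subgroup G) * (centralizer (B : Set G)).relIndex N =
        Nat.card N := by
      rw [← Subgroup.inf_relIndex_left]
      exact card_mul_relIndex' inf_le_left
    calc Nat.card B * Nat.card (N ⊓ centralizer (B : Set G) : Subgroup G)
        = (Nat.card (B ⊓ centralizer (N : Set G) : Subgroup G) *
          Nat.card (N ⊓ centralizer (B : Set G) : Subgroup G)) * (centralizer (N : Set G)).relIndex B := by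
          rw [← h2]; ring
      _ ≤ (Nat.card (B ⊓ centralizer (N : Set G) : Subgroup G) *
          Nat.card (N ⊓ centralizer (B : Set G) : Subgroup G)) * (centralizer (B : Set G)).relIndex N :=
          Nat.mul_le_mul_left _ h1
      _ = Nat.card (B ⊓ centralizer (N : Set G) : Subgroup G) *
          (Nat.card (N ⊓ centralizer (B : Set G) : Subgroup G) * (centralizer (B : Set G)).relIndex N) := by ring
      _ = _ := by rw [h3]
  have hQ : ∀ {a b a' : Subgroup G}, Adj Z a' a → X b ≤ QQ a' → X b ⊓ centralizer (NN Z a : Set G) ≤ QQ a := by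
    intro a b a' ha' hXb
    exact P.f3 (P.adj_symm ha') (inf_le_left.trans hXb) inf_le_right
  have hcc : ∀ {a b a' : Subgroup G}, IsPt Z a → Adj Z a' a → X b ≤ QQ a' →
      ⁅X a, X b ⊓ centralizer (NN Z a : Set G)⁆ ≤ a := by
    intro a b a' ha ha' hXb
    rw [commutator_le]
    intro x hx y hy
    exact F.com a ha x hx y (hQ ha' hXb hy)
  exact
  { NX := F.NX a hap
    MY := F.NX b hbp
    Xc := fun x hx y hy => (mem_centralizer_iff.1 ((eab_iff.1 (F.eab a hap)).1 hy) x hx)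
    Yc := fun x hx y hy => (mem_centralizer_iff.1 ((eab_iff.1 (F.eab b hbp)).1 hy) x hx)
    XnY := (hXa.trans (P.QQ_le_HH (P.adj_symm hb'))).trans (CX.nor_X F hbp)
    YnX := (hXb.trans (P.QQ_le_HH (P.adj_symm ha'))).trans (CX.nor_X F hap)
    XnM := (hXa.trans (P.QQ_le_HH (P.adj_symm hb'))).trans (PP.HH_le_NN b)
    YnN := (hXb.trans (P.QQ_le_HH (P.adj_symm ha'))).trans (PP.HH_le_NN a)
    ca := hcc hap ha' hXb
    cb := hcc hbp hb' hXa
    pX := hN a hap _ (eab_mono (F.eab b hbp) inf_le_left) (hQ ha' hXb)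
    pY := hN b hbp _ (eab_mono (F.eab a hap) inf_le_left) (hQ hb' hXa)
    ab := by
      refine hti a b hap hbp ?_
      rintro rfl
      exact h.ne (eab_iff.1 (F.eab a hap)).1
    noN := card (hNO a' a ha' (X b) (F.eab b hbp) hXb)
    noM := card (hNO b' b hb' (X a) (F.eab a hap) hXa) }

/-- THEOREM C / `(1a)` of THEOREM R: a critical pair has `X_a ≰ N_a C(X_b)` -/
def TA (Z : Fin 2 → Subgroup G) (X : Subgroup G → Subgroup G) : Prop :=
  ∀ d a b, CX Z X d a b → ¬ X a ≤ NN Z a ⊔ (X a ⊓ centralizer (X b : Set G))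

/-- `TA` from `(1a)`: a critical pair has `[X_a, X_b] ≰ N_a`. -/
theorem ta_of_comm (P : PP Z U) (F : XF Z X)
    (h1 : ∀ d a b, CX Z X d a b → ¬ ∀ x ∈ X a, ∀ y ∈ X b, x * y * x⁻¹ * y⁻¹ ∈ NN Z a) : TA Z X := by
  intro d a b h hle
  refine h1 d a b h fun x hx y hy => ?_
  obtain ⟨a', b', ha', hb', hXa, hXb⟩ := h.ends P F
  have hXX := (eab_iff.1 (F.eab a (PP.pth_pt h.pth))).1
  have hYN : y ∈ normalizer (NN Z a : Set G) := PP.HH_le_NN a (P.QQ_le_HH (P.adj_symm ha') (hXb hy))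
  obtain ⟨n, hn, c, hc, rfl⟩ := exists_mul_of_comm (V := NN Z a) (D := X a ⊓ centralizer (X b : Set G))
    ((F.NX a (PP.pth_pt h.pth)).trans (hXX.trans (centralizer_le inf_le_left))) (hle hx)
  have e1 : y * c = c * y := mem_centralizer_iff.1 hc.2 y hy
  have e2 : n * c * y * (n * c)⁻¹ * y⁻¹ = n * (y * n⁻¹ * y⁻¹) := by
    calc n * c * y * (n * c)⁻¹ * y⁻¹ = n * (c * y) * c⁻¹ * n⁻¹ * y⁻¹ := by group
      _ = n * (y * c) * c⁻¹ * n⁻¹ * y⁻¹ := by rw [e1]
      _ = _ := by group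
  rw [e2]
  exact mul_mem hn ((mem_normalizer_iff.1 hYN _).1 (inv_mem hn))

/-- THEOREM C for 2-subgroups gives `TA` -/
theorem ta_of (P : PP Z U) (F : XF Z X) (hN : NobX Z X) (hti : TIp Z) (hNO : NoP Z) (hG : ThmC2 Z X) : TA Z X := by
  intro d a b h hle
  obtain ⟨a', b', ha', hb', hXa, hXb⟩ := h.ends P F
  have hc := crQ P F hN hti hNO h
  have hYN := hc.YnN
  have h1 : ∀ x ∈ X a, ∀ y ∈ X b, x * y * x⁻¹ * y⁻¹ ∈ NN Z a := by
    intro x hx y hy
    obtain ⟨n, hn, c, hc', rfl⟩ := exists_mul_of_comm (V := NN Z a) (D := X a ⊓ centralizer (X b : Set G))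
      ((F.NX a (PP.pth_pt h.pth)).trans ((eab_iff.1 (F.eab a (PP.pth_pt h.pth))).1.trans
        (centralizer_le inf_le_left))) (hle hx)
    have e1 : y * c = c * y := mem_centralizer_iff.1 hc'.2 y hy
    have e2 : n * c * y * (n * c)⁻¹ * y⁻¹ = n * (y * n⁻¹ * y⁻¹) := by
      calc n * c * y * (n * c)⁻¹ * y⁻¹ = n * (c * y) * c⁻¹ * n⁻¹ * y⁻¹ := by group
        _ = n * (y * c) * c⁻¹ * n⁻¹ * y⁻¹ := by rw [e1]
        _ = _ := by group
    rw [e2]
    exact mul_mem hn ((mem_normalizer_iff.1 (hYN hy) _).1 (inv_mem hn))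
  have h3 : X b ≤ centralizer (NN Z a : Set G) :=
    hG a (PP.pth_pt h.pth) (X b) (MinSimple.VModule.o2_isPGroup _ |>.to_le hXb)
      (hXb.trans ((P.QQ_le_cent ha'.pt).trans (centralizer_le ha'.le_NN))) h1
  apply h.ne
  refine fun x hx => ?_
  obtain ⟨n, hn, c, hc', rfl⟩ := exists_mul_of_comm (V := NN Z a) (D := X a ⊓ centralizer (X b : Set G))
    ((F.NX a (PP.pth_pt h.pth)).trans ((eab_iff.1 (F.eab a (PP.pth_pt h.pth))).1.trans
      (centralizer_le inf_le_left))) (hle hx)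
  exact mul_mem (comm_symm h3 hn) hc'.2

/-- **THE REDUCTION**: some `m ∈ C_{N_b}(N_a)`, in `Q_a`, moves `X_a`. -/
theorem redX (P : PP Z U) (F : XF Z X) (hN : NobX Z X) (hti : TIp Z) (hNO : NoP Z) (hG : TA Z X)
    (h : CX Z X d a b) : ∃ m ∈ NN Z b ⊓ centralizer (NN Z a : Set G), m ∈ QQ a ∧ m ∉ centralizer (X a : Set G) ∧
      X a ≤ normalizer (NN Z b : Set G) := by
  obtain ⟨a', b', ha', hb', hXa, hXb⟩ := h.ends P F
  have hc := crQ P F hN hti hNO h
  obtain ⟨m, hm, hmX⟩ := hc.dich.resolve_left (hG d a b h)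
  have hQ : X b ⊓ centralizer (NN Z a : Set G) ≤ QQ a :=
    P.f3 (P.adj_symm ha') (inf_le_left.trans hXb) inf_le_right
  exact ⟨m, hm, hQ ⟨F.NX b (P.pth_pt' h.pth) hm.1, hm.2⟩, hmX, hc.XnM⟩

/-- `[U 0, y] = Z 0` for `y ∈ Q(Z 0)` which moves `U 0` -/
def Sur (Z U : Fin 2 → Subgroup G) : Prop :=
  ∀ y ∈ QQ (Z 0), y ∉ centralizer (U 0 : Set G) → ∀ z ∈ Z 0, ∃ x ∈ U 0, x * y * x⁻¹ * y⁻¹ = z

omit [Finite G] in
theorem Sur.ln {a l : Subgroup G} (hS : Sur Z U) (h : LnOn Z U a l) {y : G} (hy : y ∈ QQ a)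
    (hyl : y ∉ centralizer (l : Set G)) {z : G} (hz : z ∈ a) : ∃ x ∈ l, x * y * x⁻¹ * y⁻¹ = z := by
  obtain ⟨k, rfl, rfl⟩ := h
  rw [QQ_conj] at hy
  obtain ⟨y0, hy0, rfl⟩ := hy
  obtain ⟨z0, hz0, rfl⟩ := hz
  have h1 : y0 ∉ centralizer (U 0 : Set G) := fun h1 => hyl ((mem_cent_conj (g := k)).2 h1)
  obtain ⟨x0, hx0, e⟩ := hS y0 hy0 h1 z0 hz0
  refine ⟨k * x0 * k⁻¹, ⟨x0, hx0, rfl⟩, ?_⟩
  change k * x0 * k⁻¹ * (k * y0 * k⁻¹) * (k * x0 * k⁻¹)⁻¹ * (k * y0 * k⁻¹)⁻¹ = k * z0 * k⁻¹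
  rw [← e]
  group

/-- `Sur` from the root group structure on `U 0` -/
theorem sur_of (P : PP Z U)
    (hfree : ∀ y ∈ QQ (Z 0), ∀ v ∈ U 0, v ∉ Z 0 → y * v = v * y → y ∈ centralizer (U 0 : Set G))
    (hcard : Nat.card (U 0) = Nat.card (Z 0) * Nat.card (Z 0)) : Sur Z U := by
  intro y hy hyU
  have hcom : ∀ x : U 0, (x : G) * y * (x : G)⁻¹ * y⁻¹ ∈ Z 0 := fun x => P.UQ x x.2 y hy
  set K := (centralizer ({y} : Set G)).subgroupOf (U 0) with hK
  have hKZ : U 0 ⊓ centralizer ({y} : Set G) ≤ Z 0 := by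
    rintro v ⟨hv, hvy⟩
    by_contra hvZ
    exact hyU (hfree y hy v hv hvZ (mem_centralizer_singleton_iff.1 hvy).symm)
  let f : U 0 ⧸ K → Z 0 := fun q => ⟨_, hcom q.out⟩
  have hf : Function.Injective f := by
    intro p q hpq
    have e : (p.out : G) * y * (p.out : G)⁻¹ * y⁻¹ = (q.out : G) * y * (q.out : G)⁻¹ * y⁻¹ :=
      congrArg Subtype.val hpq
    have e0 : (p.out : G) * y * (p.out : G)⁻¹ = (q.out : G) * y * (q.out : G)⁻¹ := mul_right_cancel e
    have e1 : (p.out : G)⁻¹ * (q.out : G) * y = y * ((p.out : G)⁻¹ * (q.out : G)) := by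
      calc (p.out : G)⁻¹ * (q.out : G) * y =
          (p.out : G)⁻¹ * ((q.out : G) * y * (q.out : G)⁻¹) * (q.out : G) := by group
        _ = (p.out : G)⁻¹ * ((p.out : G) * y * (p.out : G)⁻¹) * (q.out : G) := by rw [e0]
        _ = _ := by group
    rw [← QuotientGroup.out_eq' p, ← QuotientGroup.out_eq' q]
    refine QuotientGroup.eq.2 ?_
    refine mem_subgroupOf.2 ?_
    exact mem_centralizer_singleton_iff.2 e1
  have h3 : Nat.card (U 0 ⊓ centralizer ({y} : Set G) : Subgroup G) * Nat.card (U 0 ⧸ K) =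
      Nat.card (U 0) := by
    have h4 := card_mul_relIndex' (H := U 0 ⊓ centralizer ({y} : Set G)) (K := U 0) inf_le_left
    rw [inf_relIndex_left] at h4
    exact h4
  have h4 : Nat.card (U 0 ⊓ centralizer ({y} : Set G) : Subgroup G) ≤ Nat.card (Z 0) := card_le_of_le hKZ
  have h5 : Nat.card (Z 0) ≤ Nat.card (U 0 ⧸ K) := by
    have h6 : Nat.card (Z 0) * Nat.card (Z 0) ≤ Nat.card (Z 0) * Nat.card (U 0 ⧸ K) := by
      rw [← hcard, ← h3]
      exact Nat.mul_le_mul_right _ h4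
    exact Nat.le_of_mul_le_mul_left h6 Nat.card_pos
  intro z hz
  obtain ⟨q, hq⟩ := (hf.bijective_of_nat_card_le h5).2 ⟨z, hz⟩
  exact ⟨q.out, q.out.2, congrArg Subtype.val hq⟩

/-- **THE REDUCTION** (TEXT Q4 #20474 (2)). -/
theorem redQ (P : PP Z U) (F : XF Z (XW Z U)) (hN : NobX Z (XW Z U)) (hti : TIp Z) (hNO : NoP Z)
    (hG : TA Z (XW Z U)) (hS : Sur Z U) (h : CX Z (XW Z U) d a b) :
    a ≤ NN Z b ∧ ∃ m ∈ NN Z b ⊓ centralizer (NN Z a : Set G), ∃ l, LnOn Z U a l ∧ m ∉ centralizer (l : Set G) := by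
  obtain ⟨m, hm, hmQ, hmX, hn⟩ := redX P F hN hti hNO hG h
  obtain ⟨l, hl, hml⟩ : ∃ l, LnOn Z U a l ∧ m ∉ centralizer (l : Set G) := by
    by_contra hcon
    push Not at hcon
    apply hmX
    have h1 : XW Z U a ≤ centralizer ({m} : Set G) := by
      refine sup_le (fun n hn => ?_) (iSup_le fun l n hn => ?_)
      · exact mem_centralizer_singleton_iff.2 (mem_centralizer_iff.1 hm.2 n hn)
      · exact mem_centralizer_singleton_iff.2 (mem_centralizer_iff.1 (hcon l l.2) n hn)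
    exact mem_centralizer_iff.2 fun x hx => mem_centralizer_singleton_iff.1 (h1 hx)
  refine ⟨fun z hz => ?_, m, hm, l, hl, hml⟩
  obtain ⟨x, hx, e⟩ := hS.ln hl hmQ hml hz
  rw [← e]
  exact mul_mem ((mem_normalizer_iff.1 (hn (ln_le_XW hl hx)) m).1 hm.1) (inv_mem hm.1)

theorem redQ' (P : PP Z U) (F : XF Z (XW Z U)) (hN : NobX Z (XW Z U)) (hti : TIp Z) (hNO : NoP Z)
    (hG : TA Z (XW Z U)) (hS : Sur Z U) (h : CX Z (XW Z U) d a b) : a ≤ NN Z b ∧ b ≤ NN Z a :=
  ⟨(redQ P F hN hti hNO hG hS h).1, (redQ P F hN hti hNO hG hS (h.symm P)).1⟩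

omit [Finite G] in
theorem pt_ne (P : PP Z U) {a : Subgroup G} (ha : IsPt Z a) : a ≠ ⊥ := by
  obtain ⟨k, rfl⟩ := ha
  intro e
  apply P.ne
  have h4 : MulAut.conj k • Z 0 ≤ MulAut.conj k • (⊥ : Subgroup G) := by rw [e]; exact bot_le
  exact le_bot_iff.1 (conj_le_iff.1 h4)

/-- `X`-distance `2` is impossible if the only points in `N_u ∩ N_b`, `u ~ b`, are `u` and `b`. -/
theorem false_of_twoQ (P : PP Z U) (F : XF Z (XW Z U)) (hN : NobX Z (XW Z U)) (hti : TIp Z) (hNO : NoP Z)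
    (hG : TA Z (XW Z U)) (hS : Sur Z U)
    (hdis : ∀ a u b : Subgroup G, Adj Z u b → IsPt Z a → a ≤ NN Z u → a ≤ NN Z b → a = u ∨ a = b)
    (h : CX Z (XW Z U) 1 a b) : False := by
  have h1 := (redQ P F hN hti hNO hG hS h).1
  have h2 := h.pth
  have hap : IsPt Z a := PP.pth_pt h2
  cases h2 with
  | @succ _ _ u _ h3 h4 =>
    cases h3 with
    | @succ _ _ v _ h5 h6 =>
      cases h5 with
      | zero h7 =>
        rcases hdis a u b h4 hap (P.adj_symm h6).le_NN h1 with h8 | h8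
        · subst h8
          exact h.ne (h.com 1 le_rfl _ _ (PP.pth_one h4))
        · subst h8
          exact h.ne (eab_iff.1 (F.eab a hap)).1

/-- a critical pair of distance `1` -/
theorem zero_one (h : CX Z (XW Z U) 0 a b) : CX Z (XW Z U) 0 (Z 0) (Z 1) := by
  obtain ⟨hp, hne, hcom⟩ := h
  cases hp with
  | @succ _ _ u _ h1 h2 =>
    cases h1 with
    | zero h3 =>
      obtain ⟨k, rfl, rfl⟩ := h2
      refine ⟨PP.pth_one ⟨1, by rw [map_one, one_smul], by rw [map_one, one_smul]⟩, fun h4 => hne ?_, hcom⟩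
      rw [XW_conj, XW_conj]
      exact Cfsg.Agent.Omega.NoFF.Basic.conj_le_centralizer h4

/-- **The least `X`-distance is `1` or `2`** (`CX .. d a b` is a pair at distance `d + 1`). -/
theorem exists_cx (P : PP Z U) (hab : IsElementaryAbelian 2 (XW Z U (Z 0)))
    (hle : XW Z U (Z 0) ≤ QQ (Z 0)) (hN : NobX Z (XW Z U)) (hti : TIp Z) (hNO : NoP Z) (hB : TB Z (XW Z U))
    (hfx : FixN Z) : CX Z (XW Z U) 0 (Z 0) (Z 1) ∨ ∃ a b, CX Z (XW Z U) 1 a b := by
  obtain ⟨d, a, b, hd, hp, hne, hcom⟩ := farQ P hab hle hN hNO hB hti hfx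
  have h : CX Z (XW Z U) d a b := ⟨hp, hne, hcom⟩
  have hd' : d = 0 ∨ d = 1 := by omega
  rcases hd' with rfl | rfl
  · exact Or.inl (zero_one h)
  · exact Or.inr ⟨a, b, h⟩

/-- **(E), `N_a ∩ N_b`, `a ~ b`, contains no point `≠ a, b`: `[X_1, X_2] ≠ 1`.** -/
theorem dist_oneQ (P : PP Z U) (hab : IsElementaryAbelian 2 (XW Z U (Z 0)))
    (hle : XW Z U (Z 0) ≤ QQ (Z 0)) (hN : NobX Z (XW Z U)) (hti : TIp Z) (hNO : NoP Z) (hG : TA Z (XW Z U))
    (hB : TB Z (XW Z U)) (hfx : FixN Z) (hS : Sur Z U)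
    (hdis : ∀ a u b : Subgroup G, Adj Z u b → IsPt Z a → a ≤ NN Z u → a ≤ NN Z b → a = u ∨ a = b) :
    CX Z (XW Z U) 0 (Z 0) (Z 1) := by
  rcases exists_cx P hab hle hN hti hNO hB hfx with h | ⟨a, b, h⟩
  · exact h
  · exact (false_of_twoQ P (xf P hab hle) hN hti hNO hG hS hdis h).elim

end frame

end Cfsg.Agent.Omega.OM.PG.ExactQ
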