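import Cfsg.Agent.Omega.OM.PG.NoRad

/-!
# Distance at least 2, radical case (helper609, TEXT R2 (3), TEXT R3 (3))

`Rd Z` : `a ≤ N_a` for every point `a`, and every point of `N_a` is `a` or a neighbour of `a`.

* `PP.false_of_rad` : `b ≤ [N_a, N_b]` (all types with `q ≥ 4`, `L₃(2)` on `1\3`) is impossible at distance `≥ 2`;
* `PP.false_of_two` : two different neighbours of `b` in `[N_a, N_b]` (`G₂(q)`) are impossible;
* `RO Z U` : the outcome of (PST) for `O_{2n+1}(2)`, `n ≥ 2`; `RO.false_of_far` : no noncommuting pair at least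
  distance `≥ 2`.
-/

set_option autoImplicit false
set_option linter.unusedSectionVars false

namespace Cfsg.Agent.Omega.OM.PG

open Subgroup Cfsg Cfsg.Agent.ZN Cfsg.Agent.Omega.MinPar
open Cfsg.Agent.Omega.NoFF.Basic (conj_conj mem_conj conj_le_iff conj_le_centralizer comm_symm comm_mono)
open Cfsg.Agent.Omega.NOThreeL.Pair (conj_eq_of_mem)
open Cfsg.Agent.MinSimple.VModule (le_normalizer_o2 le_o2 o2_le o2_isPGroup)
open scoped Pointwise

universe u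

variable {G : Type u} [Group G]

/-- The radical case: `a ≤ N_a`, and the points of `N_a` are `a` and its neighbours. -/
structure Rd (Z : Fin 2 → Subgroup G) : Prop where
  rad : ∀ a, IsPt Z a → a ≤ NN Z a
  adj : ∀ a c, IsPt Z a → IsPt Z c → c ≤ NN Z a → c = a ∨ Adj Z a c

/-- The data of a noncommuting pair at least distance. -/
def Pair (Z : Fin 2 → Subgroup G) (a b r r₂ : Subgroup G) : Prop :=
  Adj Z r b ∧ Adj Z r₂ a ∧ NN Z a ≤ QQ r ∧ NN Z b ≤ QQ r₂ ∧ ¬ Com Z a b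

theorem Pair.symm {Z : Fin 2 → Subgroup G} {a b r r₂ : Subgroup G} (h : Pair Z a b r r₂) : Pair Z b a r₂ r :=
  ⟨h.2.1, h.1, h.2.2.2.1, h.2.2.1, fun h1 => h.2.2.2.2 h1.symm⟩

namespace PP

variable {Z U : Fin 2 → Subgroup G} (P : PP Z U)

include P

theorem pair_nor {a b r r₂ : Subgroup G} (h : Pair Z a b r r₂) :
    NN Z a ≤ normalizer (NN Z b : Set G) ∧ NN Z b ≤ normalizer (NN Z a : Set G) := by
  obtain ⟨h1, h2, h3, h4, -⟩ := h
  exact ⟨(h3.trans (P.QQ_le_HH (P.adj_symm h1))).trans (HH_le_NN b),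
    (h4.trans (P.QQ_le_HH (P.adj_symm h2))).trans (HH_le_NN a)⟩

omit P in
theorem commutator_le_of_nor {A B : Subgroup G} (h : A ≤ normalizer (B : Set G)) : ⁅A, B⁆ ≤ B := by
  rw [commutator_le]
  intro x hx y hy
  have h1 := (mem_normalizer_iff.1 (h hx) y).1 hy
  exact mul_mem h1 (inv_mem hy)

theorem comm_le_left {a b r r₂ : Subgroup G} (h : Pair Z a b r r₂) : ⁅NN Z a, NN Z b⁆ ≤ NN Z a := by
  rw [commutator_comm]
  exact commutator_le_of_nor (P.pair_nor h).2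

theorem comm_le_right {a b r r₂ : Subgroup G} (h : Pair Z a b r r₂) : ⁅NN Z a, NN Z b⁆ ≤ NN Z b :=
  commutator_le_of_nor (P.pair_nor h).1

/-- A noncommuting pair at least distance `≥ 1` with its path. -/
theorem exists_pair {d : ℕ} (hcom : ∀ m ≤ d, ∀ a b, Pth Z m a b → Com Z a b) {a b : Subgroup G}
    (hp : Pth Z (d + 1) a b) (hne : ¬ Com Z a b) : ∃ r r₂, Pair Z a b r r₂ := by
  obtain ⟨a', b', h1, h2, h3, h4⟩ := P.exists_ends hcom hp
  exact ⟨b', a', h2, h1, h3, h4, hne⟩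

theorem adj_ne {d : ℕ} (hcom : ∀ m ≤ d + 1, ∀ a b, Pth Z m a b → Com Z a b) {a b : Subgroup G}
    (hne : ¬ Com Z a b) : ¬ Adj Z a b ∧ a ≠ b ∨ ¬ IsPt Z a := by
  by_cases ha : IsPt Z a
  · left
    refine ⟨fun h => hne (hcom 1 (by omega) _ _ (PP.pth_one h)), ?_⟩
    rintro rfl
    exact hne (P.NN_comm ha)
  · exact Or.inr ha

/-- `b` is not contained in `N_a`. -/
theorem not_le_of_far (R : Rd Z) {d : ℕ} (hcom : ∀ m ≤ d + 1, ∀ a b, Pth Z m a b → Com Z a b) {a b : Subgroup G}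
    (ha : IsPt Z a) (hb : IsPt Z b) (hne : ¬ Com Z a b) : ¬ b ≤ NN Z a := by
  intro h
  rcases P.adj_ne hcom hne with ⟨h1, h2⟩ | h1
  · rcases R.adj a b ha hb h with h3 | h3
    · exact h2 h3.symm
    · exact h1 h3
  · exact h1 ha

/-- **`b ≤ [N_a, N_b]` is impossible at distance `≥ 2`** (`q ≥ 4`; `L₃(2)` on `1\3`). -/
theorem false_of_rad (R : Rd Z) (hrb : ∀ a b r r₂ : Subgroup G, Pair Z a b r r₂ → b ≤ ⁅NN Z a, NN Z b⁆)
    {d : ℕ} (hcom : ∀ m ≤ d + 1, ∀ a b, Pth Z m a b → Com Z a b) {a b : Subgroup G} (hp : Pth Z (d + 2) a b)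
    (hne : ¬ Com Z a b) : False := by
  obtain ⟨r, r₂, h⟩ := P.exists_pair hcom hp hne
  exact P.not_le_of_far R hcom (PP.pth_pt hp) (P.pth_pt' hp) hne ((hrb a b r r₂ h).trans (P.comm_le_left h))

/-- a point of `[N_a, N_b]` different from `b` is a common neighbour -/
theorem adj_of_le (R : Rd Z) {d : ℕ} (hcom : ∀ m ≤ d + 1, ∀ a b, Pth Z m a b → Com Z a b)
    {a b r r₂ p : Subgroup G} (ha : IsPt Z a) (hb : IsPt Z b) (h : Pair Z a b r r₂) (hpt : IsPt Z p)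
    (hp : p ≤ ⁅NN Z a, NN Z b⁆) : Adj Z p a ∧ Adj Z p b := by
  have hne := h.2.2.2.2
  constructor
  · rcases R.adj a p ha hpt (hp.trans (P.comm_le_left h)) with h1 | h1
    · rw [h1] at hp
      exact absurd (hp.trans (P.comm_le_right h)) (P.not_le_of_far R hcom hb ha fun h2 => hne h2.symm)
    · exact P.adj_symm h1
  · rcases R.adj b p hb hpt (hp.trans (P.comm_le_right h)) with h1 | h1
    · rw [h1] at hp
      exact absurd (hp.trans (P.comm_le_left h)) (P.not_le_of_far R hcom ha hb hne)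
    · exact P.adj_symm h1

/-- **Two points in `[N_a, N_b]` are impossible at distance `≥ 2`** (`G₂(q)`). -/
theorem false_of_two (R : Rd Z) (hunq : Unq Z)
    (htwo : ∀ a b r r₂ : Subgroup G, Pair Z a b r r₂ → ∃ p p', IsPt Z p ∧ IsPt Z p' ∧ p ≠ p' ∧
      p ≤ ⁅NN Z a, NN Z b⁆ ∧ p' ≤ ⁅NN Z a, NN Z b⁆)
    {d : ℕ} (hcom : ∀ m ≤ d + 1, ∀ a b, Pth Z m a b → Com Z a b) {a b : Subgroup G} (hp : Pth Z (d + 2) a b)
    (hne : ¬ Com Z a b) : False := by
  obtain ⟨r, r₂, h⟩ := P.exists_pair hcom hp hne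
  obtain ⟨p, p', hpp, hpp', hne', hle, hle'⟩ := htwo a b r r₂ h
  have ha := PP.pth_pt hp
  have hb := P.pth_pt' hp
  have hl : ∀ x c, Adj Z x c → NN Z x ≤ QQ c := fun x c h => P.lemP hcom 1 (by omega) x c (PP.pth_one h)
  obtain ⟨h1, h2⟩ := P.adj_of_le R hcom ha hb h hpp hle
  obtain ⟨h3, h4⟩ := P.adj_of_le R hcom ha hb h hpp' hle'
  exact hne' (hunq a b p p' p h2 h4 h1 (hl _ _ (P.adj_symm h1)) (hl _ _ (P.adj_symm h3)) (hl _ _ (P.adj_symm h2)) hne)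

end PP

/-- **The outcome of (PST) for `O_{2n+1}(2)`, `n ≥ 2`** (points are groups of order 2; `N_b` has radical `b`). -/
structure RO (Z U : Fin 2 → Subgroup G) : Prop extends Rd Z where
  /-- points have order 2 -/
  q2 : ∀ a x y, IsPt Z a → x ∈ a → y ∈ a → x ≠ 1 → y ≠ 1 → x = y
  /-- the offender contains the transvection with centre `b r` -/
  tv : ∀ a b r r₂, Pair Z a b r r₂ → ∃ x ∈ b, ∃ y ∈ r, x ≠ 1 ∧ y ≠ 1 ∧ x * y ∈ ⁅NN Z a, NN Z b⁆
  /-- without singular vectors `[N_a, N_b]` has order 2 -/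
  ord : ∀ a b r r₂, Pair Z a b r r₂ → (∀ p, IsPt Z p → p ≤ ⁅NN Z a, NN Z b⁆ → False) →
    ∀ x ∈ ⁅NN Z a, NN Z b⁆, ∀ y ∈ ⁅NN Z a, NN Z b⁆, x ≠ 1 → y ≠ 1 → x = y
  /-- a line on `a'` in `N_a`, a point `c` of it, and a line `m` of `N_a` on `c` not in `a'^⊥` -/
  ex : ∀ a a', Adj Z a' a → ∃ l c, LnIn Z U a l ∧ a' ≤ l ∧ IsPt Z c ∧ c ≤ l ∧ ∃ m, LnOn Z U c m ∧ m ≤ NN Z a ∧
    ∀ b r r₂, Pair Z a b r r₂ → a' = r₂ → ∀ x ∈ NN Z b, x ∉ centralizer (NN Z a : Set G) →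
      (∀ p, IsPt Z p → p ≤ ⁅NN Z a, NN Z b⁆ → False) → x ∉ centralizer (m : Set G)
  /-- every line on `a` has two more points -/
  three : ∀ a l, LnOn Z U a l → ∃ y y', IsPt Z y ∧ IsPt Z y' ∧ y ≤ l ∧ y' ≤ l ∧ y ≠ a ∧ y' ≠ a ∧ y ≠ y'
  /-- `O₂(C(y)) ∩ O₂(C(y'))` acts on `N_c` as a group of order 2 with commutator `l` -/
  gl : ∀ c l y y' a, LnIn Z U c l → IsPt Z y → IsPt Z y' → y ≤ l → y' ≤ l → y ≠ y' → IsPt Z a → a ≤ l →
    ∀ x ∈ QQ y ⊓ QQ y', x ∉ centralizer (NN Z c : Set G) →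
      (∀ x' ∈ QQ y ⊓ QQ y', x' ∉ centralizer (NN Z c : Set G) → x * x'⁻¹ ∈ centralizer (NN Z c : Set G)) ∧
      ∃ n ∈ NN Z c, n * x * n⁻¹ * x⁻¹ ∈ a ∧ n * x * n⁻¹ * x⁻¹ ≠ 1

namespace RO

variable {Z U : Fin 2 → Subgroup G} (R : RO Z U) (P : PP Z U)

include R P

theorem pt_le {a : Subgroup G} {x : G} {A : Subgroup G} (ha : IsPt Z a) (hx : x ∈ a) (hx1 : x ≠ 1) (hA : x ∈ A) :
    a ≤ A := by
  intro y hy
  by_cases hy1 : y = 1
  · rw [hy1]; exact one_mem _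
  rw [R.q2 a y x ha hy hx hy1 hx1]
  exact hA

/-- **(3)**: no noncommuting pair at least distance `≥ 2`. -/
theorem false_of_far {d : ℕ} (hcom : ∀ m ≤ d + 1, ∀ a b, Pth Z m a b → Com Z a b) {a b : Subgroup G}
    (hp : Pth Z (d + 2) a b) (hne : ¬ Com Z a b) : False := by
  have ha := PP.pth_pt hp
  have hb := P.pth_pt' hp
  have hRd : Rd Z := R.toRd
  have hl : ∀ x c, Adj Z x c → NN Z x ≤ QQ c := fun x c h => P.lemP hcom 1 (by omega) x c (PP.pth_one h)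
  have hsq : ∀ a, IsPt Z a → ∀ x ∈ a, x * x = 1 := fun a ha x hx => by
    have := P.ZsqConj ha x hx
    rwa [pow_two] at this
  -- no common neighbour
  have hno : ∀ a b r r₂, IsPt Z a → IsPt Z b → Pair Z a b r r₂ → ∀ p, IsPt Z p → p ≤ ⁅NN Z a, NN Z b⁆ → False := by
    intro a b r r₂ ha hb h p hpt hple
    obtain ⟨h1, h2⟩ := P.adj_of_le hRd hcom ha hb h hpt hple
    have hpa := hl _ _ (P.adj_symm h1)
    have hpb := hl _ _ (P.adj_symm h2)
    have hne := h.2.2.2.2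
    have h3 : Pair Z a b p p := ⟨h2, h1, hpa, hpb, hne⟩
    obtain ⟨x, hx, u, hu, hx1, hu1, hxu⟩ := R.tv a b p p h3
    obtain ⟨y, hy, u', hu', hy1, hu1', hyu⟩ := R.tv b a p p h3.symm
    rw [commutator_comm] at hyu
    have e1 : u = u' := R.q2 p u u' hpt hu hu' hu1 hu1'
    subst e1
    -- `b ∈ N_a`
    have h4 : x * u * (y * u)⁻¹ ∈ NN Z a := mul_mem (P.comm_le_left h3 hxu) (inv_mem (P.comm_le_left h3 hyu))
    have h5 : x = x * u * (y * u)⁻¹ * y := by group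
    have h6 : x ∈ NN Z a := by
      rw [h5]
      exact mul_mem h4 (hRd.rad a ha hy)
    exact P.not_le_of_far hRd hcom ha hb hne (R.pt_le P hb hx hx1 h6)
  -- the path
  obtain ⟨a', b', hda, hdb, hab', hba', hpab⟩ : ∃ a' b', Adj Z a' a ∧ Adj Z b' b ∧ Pth Z (d + 1) a b' ∧
      Pth Z (d + 1) b a' ∧ Pth Z d a' b' := by
    cases hp with
    | @succ _ _ b' _ h1 h2 =>
      have h1' := P.pth_symm h1
      cases h1' with
      | @succ _ _ a' _ h3 h4 =>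
        exact ⟨a', b', h4, h2, h1, P.pth_symm (Pth.succ (P.pth_symm h3) h2), P.pth_symm h3⟩
  have hQa : NN Z a ≤ QQ b' := P.lemP hcom _ le_rfl _ _ hab'
  have hQb : NN Z b ≤ QQ a' := P.lemP hcom _ le_rfl _ _ hba'
  have hpair : Pair Z a b b' a' := ⟨hdb, hda, hQa, hQb, hne⟩
  have hno1 := hno a b b' a' ha hb hpair
  obtain ⟨l, c, hal, ha'l, hc, hcl, m, hcm, hmN, hm⟩ := R.ex a a' hda
  obtain ⟨l', hal', hl'⟩ := P.exists_partner hal
  have hal'' : a ≤ l' := by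
    obtain ⟨k, h1, h2⟩ := hal'
    rw [h1, h2]
    exact conj_le_iff.2 P.ZU
  obtain ⟨-, -, hal3⟩ := hl' a ha hal''
  obtain ⟨hcl', -, -⟩ := hal3 c hc hcl
  obtain ⟨y, y', hy, hy', hyl, hyl', hya, hya', hyy'⟩ := R.three a l' hal'
  -- `N_b` commutes with `N_y`
  have hcy : ∀ y, IsPt Z y → y ≤ l' → y ≠ a → NN Z b ≤ QQ y := by
    intro y hy hyl hya
    have hya' : Adj Z y a' := ((hl' y hy hyl).2.2 a' hda.pt ha'l).2.2
    have h1 : Com Z y b := by
      by_contra hcon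
      have h2 : Pth Z (d + 1) y b' := PP.pth_cons hya' hpab
      have h3 : Pair Z y b b' a' := ⟨hdb, P.adj_symm hya', P.lemP hcom _ le_rfl _ _ h2, hQb, hcon⟩
      have hno2 := hno y b b' a' hy hb h3
      obtain ⟨x₁, hx₁, u₁, hu₁, hx₁1, hu₁1, h11⟩ := R.tv a b b' a' hpair
      obtain ⟨x₂, hx₂, u₂, hu₂, hx₂1, hu₂1, h22⟩ := R.tv b a a' b' hpair.symm
      obtain ⟨x₃, hx₃, u₃, hu₃, hx₃1, hu₃1, h33⟩ := R.tv y b b' a' h3
      obtain ⟨x₄, hx₄, u₄, hu₄, hx₄1, hu₄1, h44⟩ := R.tv b y a' b' h3.symm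
      rw [commutator_comm] at h22 h44
      have e3 : x₁ = x₃ := R.q2 b _ _ hb hx₁ hx₃ hx₁1 hx₃1
      have e4 : u₁ = u₃ := R.q2 b' _ _ hdb.pt hu₁ hu₃ hu₁1 hu₃1
      have e5 : u₂ = u₄ := R.q2 a' _ _ hda.pt hu₂ hu₄ hu₂1 hu₄1
      subst e3 e4 e5
      -- all products are nontrivial
      have hnt : ∀ {p q : Subgroup G} {s t : G}, IsPt Z p → IsPt Z q → s ∈ p → t ∈ q → s ≠ 1 → t ≠ 1 → p ≠ q →
          s * t ≠ 1 := by
        intro p q s t hp hq hs ht hs1 ht1 hpq h0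
        apply hpq
        have e : s = t := by
          have h1 : s = t⁻¹ := eq_inv_of_mul_eq_one_left h0
          rw [h1]
          exact inv_eq_of_mul_eq_one_left (hsq q hq t ht)
        apply le_antisymm
        · exact R.pt_le P hp hs hs1 (e ▸ ht)
        · exact R.pt_le P hq ht ht1 (e ▸ hs)
      have hadj : ∀ {p q : Subgroup G}, Adj Z p q → p ≠ q := by
        rintro p q h rfl
        obtain ⟨k, h1, h2⟩ := h
        -- `Z 0 = Z 1`
        have h3 : Z 0 = Z 1 := by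
          have := congrArg (fun X => MulAut.conj k⁻¹ • X) (h1.symm.trans h2)
          simpa only [inv_conj_conj] using this
        have h5 : ∀ {p q : Subgroup G}, Adj Z p q → p = q := by
          rintro p q ⟨k, rfl, rfl⟩
          rw [h3]
        have h6 : ∀ {n : ℕ} {p q : Subgroup G}, Pth Z n p q → p = q := by
          intro n p q h
          induction h with
          | zero _ => rfl
          | succ _ h7 ih => exact ih.trans (h5 h7)
        have h8 : a = b := h6 hp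
        exact hne (h8 ▸ P.NN_comm ha)
      have n1 := hnt hb hdb.pt hx₁ hu₁ hx₁1 hu₁1 (fun h => hadj hdb h.symm)
      have n2 := hnt ha hda.pt hx₂ hu₂ hx₂1 hu₂1 (fun h => hadj hda h.symm)
      have n4 := hnt hy hda.pt hx₄ hu₂ hx₄1 hu₂1 (hadj hya')
      have e6 : x₁ * u₁ = x₂ * u₂ := R.ord a b b' a' hpair hno1 _ h11 _ h22 n1 n2
      have e7 : x₁ * u₁ = x₄ * u₂ := R.ord y b b' a' h3 hno2 _ h33 _ h44 n1 n4
      have e8 : x₄ = x₂ := mul_right_cancel (e7.symm.trans e6)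
      apply hya
      apply le_antisymm
      · exact R.pt_le P hy hx₄ hx₄1 (e8 ▸ hx₂)
      · exact R.pt_le P ha hx₂ hx₂1 (e8 ▸ hx₄)
    exact P.f3 hya' hQb h1.symm
  have hbQ : NN Z b ≤ QQ y ⊓ QQ y' := le_inf (hcy y hy hyl hya) (hcy y' hy' hyl' hya')
  have hyc : Adj Z y c := ((hl' y hy hyl).2.2 c hc hcl).2.2
  -- elements of `N_b` not centralising `N_a` do not centralise `N_c`
  have hK : ∀ x ∈ NN Z b, x ∈ centralizer (NN Z c : Set G) → x ∈ centralizer (NN Z a : Set G) := by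
    intro x hx hxc
    by_contra hxa
    have h1 : x ∉ centralizer (m : Set G) := hm b b' a' hpair rfl x hx hxa hno1
    have h2 : zpowers x ≤ QQ c :=
      P.f3 (P.adj_symm hyc) (zpowers_le.2 (hbQ hx).1) (zpowers_le.2 hxc)
    have h3 : ∃ e ∈ m, e * x ≠ x * e := by
      by_contra hcon
      push Not at hcon
      exact h1 (mem_centralizer_iff.2 hcon)
    obtain ⟨e, he, hex⟩ := h3
    have h4 : e * x * e⁻¹ * x⁻¹ ∈ c := P.comm_mem hcm he (zpowers_le.1 h2)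
    have h5 : e * x * e⁻¹ * x⁻¹ ≠ 1 := by
      intro h
      apply hex
      calc e * x = e * x * e⁻¹ * x⁻¹ * (x * e) := by group
        _ = x * e := by rw [h, one_mul]
    have h6 : e * x * e⁻¹ * x⁻¹ ∈ ⁅NN Z a, NN Z b⁆ := commutator_mem_commutator (hmN he) hx
    exact hno1 c hc (R.pt_le P hc h4 h5 h6)
  -- an element of `N_b` not centralising `N_a`
  obtain ⟨x₀, hx₀, hx₀a⟩ : ∃ x ∈ NN Z b, x ∉ centralizer (NN Z a : Set G) := by
    by_contra hcon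
    push Not at hcon
    exact hne (comm_symm hcon)
  have hx₀c : x₀ ∉ centralizer (NN Z c : Set G) := fun h => hx₀a (hK x₀ hx₀ h)
  -- `b` centralises `N_c`
  have hbc : b ≤ centralizer (NN Z c : Set G) := by
    intro x hx
    by_contra hxc
    have hxN : x ∈ NN Z b := hRd.rad b hb hx
    have h1 := (R.gl c l' y y' a hcl' hy hy' hyl hyl' hyy' ha hal'' x₀ (hbQ hx₀) hx₀c).1 x (hbQ hxN) hxc
    have h2 : x₀ * x⁻¹ ∈ centralizer (NN Z a : Set G) := hK _ (mul_mem hx₀ (inv_mem hxN)) h1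
    have h3 : x ∈ centralizer (NN Z a : Set G) := by
      have h4 : NN Z a ≤ centralizer (b : Set G) := hQa.trans (P.QQ_le_cent_of_adj (P.adj_symm hdb))
      exact comm_symm h4 hx
    apply hx₀a
    have e : x₀ = x₀ * x⁻¹ * x := by group
    rw [e]
    exact mul_mem h2 h3
  -- so `N_c` normalises `N_b`
  obtain ⟨n, hn, hna, hn1⟩ := (R.gl c l' y y' a hcl' hy hy' hyl hyl' hyy' ha hal'' x₀ (hbQ hx₀) hx₀c).2
  have h1 : n ∈ normalizer (NN Z b : Set G) := by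
    apply PP.HH_le_NN b
    exact PP.cent_le_HH b (comm_symm hbc hn)
  have h2 : n * x₀ * n⁻¹ * x₀⁻¹ ∈ NN Z b := mul_mem ((mem_normalizer_iff.1 h1 x₀).1 hx₀) (inv_mem hx₀)
  exact P.not_le_of_far hRd hcom hb ha (fun h => hne h.symm) (R.pt_le P ha hna hn1 h2)

end RO

end Cfsg.Agent.Omega.OM.PG
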