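import Cfsg.Agent.Omega.OM.PG.SymD1Base

/-!
# Distance 1, no radical (helper609, TEXT R4 #19278 (5)), the module part: (c), (d), (e)

* `DatQ` : `Dat`, and the module `Q` (= `Q₁ / C_{Q₁}(W₁)`) with the vector `ν` (= the image of `N₂`), on which the
  elements of `X` act as `1` or with `[Q, x] ≤ ⟨ν⟩`, and a functional `y` (= the image of `V₁`) fixed by `L`;
* `DatQ.kap_eq` : (d) `κ(g • ν) = φ₀(g • e)`;
* `DatQ.y_eq_zero` : **(e)** `y (h • ν) = 0` for all `h`.
-/

set_option autoImplicit false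
set_option linter.unusedSectionVars false

namespace Cfsg.Agent.Omega.OM.PG.SymD1

open Module

variable {H N : Type*} [Group H] [AddCommGroup N] [Module (ZMod 2) N] [DistribMulAction H N]

namespace Dat

variable [Finite N] {T L X : Subgroup H} {e e' : N} (D : Dat H N T L X e e')
include D

/-! ### (c) -/

theorem X_ee {x : H} (hx : x ∈ X) : x • e = e := by
  rcases D.X_e x hx e with h | h
  · exact h
  · rw [n_add_self, smul_eq_zero_iff_eq] at h
    exact absurd h D.e_ne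

/-- every element of `X` is a transvection -/
theorem exists_fun {x : H} (hx : x ∈ X) : ∃ φ : Dual (ZMod 2) N, ∀ n : N, x • n = n + φ n • e := by
  classical
  have hf : ∀ n : N, ∃ c : ZMod 2, x • n = n + c • e := by
    intro n
    rcases D.X_e x hx n with h | h
    · exact ⟨0, by rw [zero_smul, add_zero, h]⟩
    · exact ⟨1, by rw [one_smul, h]⟩
  choose f hf using hf
  have hadd : ∀ a b : N, f (a + b) = f a + f b := by
    intro a b
    have h1 : a + b + f (a + b) • e = (a + f a • e) + (b + f b • e) := by rw [← hf, ← hf, ← hf, smul_add]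
    have h2 : (f (a + b) - (f a + f b)) • e = 0 := by
      rw [sub_smul, add_smul]
      have h3 : a + b + f (a + b) • e = a + b + (f a • e + f b • e) := by rw [h1]; abel
      rw [add_left_cancel h3, sub_self]
    have h3 := c_eq_zero D.e_ne h2
    rwa [sub_eq_zero] at h3
  have h0 : f 0 = 0 := by
    have h1 := hadd 0 0
    rw [add_zero] at h1
    exact add_eq_left.1 h1.symm
  exact ⟨(({ toFun := f, map_zero' := h0, map_add' := hadd } : N →+ ZMod 2)).toZModLinearMap 2, hf⟩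

theorem exists_phi : ∃ (x : H) (φ : Dual (ZMod 2) N), x ∈ X ∧ (∀ n : N, x • n = n + φ n • e) ∧ φ ≠ 0 ∧ Tr H e φ := by
  obtain ⟨x, hx, n, hn⟩ := D.X_ne
  obtain ⟨φ, hφ⟩ := D.exists_fun hx
  refine ⟨x, φ, hx, hφ, fun h => hn (by rw [hφ, h]; simp), ?_, x, hφ⟩
  have h1 := hφ e
  rw [D.X_ee hx] at h1
  exact c_eq_zero D.e_ne (add_eq_left.1 h1.symm)

end Dat

section

variable [Finite N] {T L X : Subgroup H} {e e' : N} (D : Dat H N T L X e e') {x : H} {φ : Dual (ZMod 2) N}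
  (hx : x ∈ X) (hφ : ∀ n : N, x • n = n + φ n • e) (hφ0 : φ ≠ 0)
include D hx hφ hφ0

theorem phi_e : φ e = 0 := by
  have h1 := hφ e
  rw [D.X_ee hx] at h1
  exact c_eq_zero D.e_ne (add_eq_left.1 h1.symm)

theorem phi_tr : Tr H e φ := ⟨phi_e D hx hφ hφ0, x, hφ⟩

theorem phi_e' : φ e' = 0 := D.perp (phi_tr D hx hφ hφ0)

/-- the functionals of `g • e` -/
theorem phi_smul {g : H} {ψ : Dual (ZMod 2) N} (hψ : Tr H (g • e) ψ) : ψ = 0 ∨ ∀ n, ψ n = φ (g⁻¹ • n) := by
  by_cases h0 : ψ = 0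
  · exact Or.inl h0
  · right
    have h1 := hψ.smul g⁻¹
    rw [inv_smul_smul, inv_inv] at h1
    have h2 := D.uniq h1 (phi_tr D hx hφ hφ0) (fun h => h0 (by
      ext n
      have := LinearMap.congr_fun h (g⁻¹ • n)
      rwa [LinearMap.comp_apply, lm_apply, smul_inv_smul] at this)) hφ0
    intro n
    rw [← h2, LinearMap.comp_apply, lm_apply, smul_inv_smul]

theorem np_iff {g k : H} : NP H (g • e) (k • e) ↔ φ (g⁻¹ • k • e) = 1 := by
  constructor
  · rintro ⟨ψ, hψ, h1⟩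
    rcases phi_smul D hx hφ hφ0 hψ with h | h
    · rw [h] at h1
      exact absurd h1 zero_ne_one
    · rw [← h]; exact h1
  · intro h
    refine ⟨φ.comp (lm g⁻¹), (phi_tr D hx hφ hφ0).smul g, ?_⟩
    rw [LinearMap.comp_apply, lm_apply]
    exact h

/-- **(c)** -/
theorem phi_symm (g k : H) : φ (g⁻¹ • k • e) = φ (k⁻¹ • g • e) := by
  have key : ∀ g k : H, φ (g⁻¹ • k • e) = 1 → φ (k⁻¹ • g • e) = 1 := fun g k h =>
    (np_iff D hx hφ hφ0).1 (D.symm ((np_iff D hx hφ hφ0).2 h))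
  rcases two_cases (φ (g⁻¹ • k • e)) with h | h
  · rcases two_cases (φ (k⁻¹ • g • e)) with h' | h'
    · rw [h, h']
    · rw [key k g h', h']
  · rw [h, key g k h]

theorem exists_one : ∃ g : H, φ (g • e) = 1 := D.exists_pt hφ0

/-- `φ` is invariant under the stabiliser of `e` -/
theorem phi_stab {d : H} (hd : d • e = e) (n : N) : φ (d • n) = φ n := by
  have h1 : Tr H (d⁻¹ • e) φ := by
    have : d⁻¹ • e = e := by nth_rewrite 1 [← hd]; rw [inv_smul_smul]
    rw [this]; exact phi_tr D hx hφ hφ0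
  rcases phi_smul D hx hφ hφ0 h1 with h | h
  · exact absurd h hφ0
  · rw [h n, inv_inv]

/-- the radical of the form is 0 -/
theorem rad {n : N} (h : ∀ g : H, φ (g⁻¹ • n) = 0) : n = 0 := by
  let M : AddSubgroup N :=
    { carrier := {n | ∀ g : H, φ (g⁻¹ • n) = 0}
      zero_mem' := fun g => by rw [smul_zero, map_zero]
      add_mem' := fun {a b} ha hb g => by rw [smul_add, map_add, ha, hb, add_zero]
      neg_mem' := fun {a} ha g => by rw [smul_neg, map_neg, ha, neg_zero] }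
  have hM : M = ⊥ := by
    by_contra hne
    have h1 : e ∈ M := D.mem_of_inv M (fun t _ n hn g => by
      rw [← mul_smul]
      have h2 := hn (t⁻¹ * g)
      rwa [mul_inv_rev, inv_inv] at h2) hne
    obtain ⟨g, hg⟩ := exists_one D hx hφ hφ0
    have h2 := h1 g⁻¹
    rw [inv_inv, hg] at h2
    exact one_ne_zero h2
  have h1 : n ∈ M := h
  rw [hM] at h1
  exact AddSubgroup.mem_bot.1 h1

/-- the form is nondegenerate -/
theorem exists_vec (ψ : Dual (ZMod 2) N) : ∃ n : N, ∀ g : H, ψ (g • e) = φ (g⁻¹ • n) := by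
  let W : Submodule (ZMod 2) (Dual (ZMod 2) N) :=
    { carrier := {ψ | ∃ n : N, ∀ g : H, ψ (g • e) = φ (g⁻¹ • n)}
      zero_mem' := ⟨0, fun g => by rw [smul_zero, map_zero]; rfl⟩
      add_mem' := by
        rintro a b ⟨n, hn⟩ ⟨m, hm⟩
        exact ⟨n + m, fun g => by rw [LinearMap.add_apply, hn, hm, smul_add, map_add]⟩
      smul_mem' := by
        rintro c a ⟨n, hn⟩
        exact ⟨c • n, fun g => by rw [LinearMap.smul_apply, hn, smul_c, φ.map_smul]⟩ }
  have h1 : W.dualCoannihilator = ⊥ := by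
    rw [eq_bot_iff]
    intro n hn
    rw [Submodule.mem_dualCoannihilator] at hn
    rw [Submodule.mem_bot]
    refine rad D hx hφ hφ0 fun g => ?_
    have h2 := hn (φ.comp (lm g⁻¹)) ⟨g • e, fun k => by
      rw [LinearMap.comp_apply, lm_apply]
      exact phi_symm D hx hφ hφ0 g k⟩
    rwa [LinearMap.comp_apply, lm_apply] at h2
  have h2 : W = ⊤ := by
    rw [← Subspace.dualCoannihilator_dualAnnihilator_eq (W := W), h1, Submodule.dualAnnihilator_bot]
  have h3 : ψ ∈ W := by rw [h2]; exact Submodule.mem_top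
  exact h3

/-- a functional fixed by `L` is 0 -/
theorem fix_zero {ψ : Dual (ZMod 2) N} (h : ∀ l ∈ L, ∀ g : H, ψ (l • g • e) = ψ (g • e)) : ψ = 0 := by
  obtain ⟨n, hn⟩ := exists_vec D hx hφ hφ0 ψ
  have h1 : ∀ l ∈ L, l • n = n := by
    intro l hl
    refine eq_of_add (rad D hx hφ hφ0 fun g => ?_)
    have h2 := hn (l⁻¹ * g)
    rw [mul_smul, h l⁻¹ (L.inv_mem hl), hn, mul_inv_rev, inv_inv, mul_smul] at h2
    rw [smul_add, map_add, h2, c_add_self]
  rcases D.fix n (fun t ht => h1 t (D.TL ht)) with h2 | h2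
  · refine D.ext_pts fun g => ?_
    rw [hn, h2, smul_zero, map_zero]; rfl
  · obtain ⟨l, hl, hle⟩ := D.mv
    have h3 := h1 l hl
    rw [h2, hle] at h3
    exact absurd h3 D.ne

end

/-! ### (d) -/

/-- **The hypotheses** on `Q` -/
structure DatQ (H N Q : Type*) [Group H] [AddCommGroup N] [Module (ZMod 2) N] [DistribMulAction H N]
    [AddCommGroup Q] [Module (ZMod 2) Q] [DistribMulAction H Q]
    (T L X : Subgroup H) (e e' : N) (ν : Q) (y : Dual (ZMod 2) Q) : Prop extends Dat H N T L X e e' where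
  ν_ne : ν ≠ 0
  st : ∀ h : H, h • e = e → h • ν = ν
  XQ : ∀ x ∈ X, ∀ q : Q, x • q = q ∨ x • q = q + ν
  XQ1 : ∀ x ∈ X, (∀ n : N, x • n = n) → ∀ q : Q, x • q = q
  yL : ∀ l ∈ L, ∀ q : Q, y (l • q) = y q
  yν : y ν = 0
  syl : ¬ 2 ∣ T.index

namespace DatQ

variable {Q : Type*} [AddCommGroup Q] [Module (ZMod 2) Q] [DistribMulAction H Q]
variable [Finite N] {T L X : Subgroup H} {e e' : N} {ν : Q} {y : Dual (ZMod 2) Q} (D : DatQ H N Q T L X e e' ν y)
include D

/-- the functional `κ` of `x` on `Q` -/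
theorem exists_kap {x : H} (hx : x ∈ X) : ∃ κ : Dual (ZMod 2) Q, ∀ q : Q, x • q = q + κ q • ν := by
  have hf : ∀ q : Q, ∃ c : ZMod 2, x • q = q + c • ν := by
    intro q
    rcases D.XQ x hx q with h | h
    · exact ⟨0, by rw [zero_smul, add_zero, h]⟩
    · exact ⟨1, by rw [one_smul, h]⟩
  choose f hf using hf
  have hadd : ∀ a b : Q, f (a + b) = f a + f b := by
    intro a b
    have h1 : a + b + f (a + b) • ν = (a + f a • ν) + (b + f b • ν) := by rw [← hf, ← hf, ← hf, smul_add]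
    have h2 : (f (a + b) - (f a + f b)) • ν = 0 := by
      rw [sub_smul, add_smul]
      have h3 : a + b + f (a + b) • ν = a + b + (f a • ν + f b • ν) := by rw [h1]; abel
      rw [add_left_cancel h3, sub_self]
    have h3 := c_eq_zero D.ν_ne h2
    rwa [sub_eq_zero] at h3
  have h0 : f 0 = 0 := by
    have h1 := hadd 0 0
    rw [add_zero] at h1
    exact add_eq_left.1 h1.symm
  exact ⟨(({ toFun := f, map_zero' := h0, map_add' := hadd } : Q →+ ZMod 2)).toZModLinearMap 2, hf⟩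

theorem nu_eq {g k : H} (h : g • e = k • e) : g • ν = k • ν := by
  have h1 : (k⁻¹ * g) • e = e := by rw [mul_smul, h, inv_smul_smul]
  have h2 := D.st _ h1
  rwa [mul_smul, inv_smul_eq_iff] at h2

variable {x : H} {φ : Dual (ZMod 2) N} {κ : Dual (ZMod 2) Q} (hx : x ∈ X) (hφ : ∀ n : N, x • n = n + φ n • e)
  (hφ0 : φ ≠ 0) (hκ : ∀ q : Q, x • q = q + κ q • ν)
include hx hφ hφ0 hκ

theorem kap_stab {d : H} (hd : d • e = e) (q : Q) : κ (d • q) = κ q := by
  have h1 : d⁻¹ * x * d ∈ X := by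
    have := D.X_norm d⁻¹ (by nth_rewrite 1 [← hd]; rw [inv_smul_smul]) x hx
    rwa [inv_inv] at this
  have hd' : d⁻¹ • e = e := by nth_rewrite 1 [← hd]; rw [inv_smul_smul]
  have h2 : ∀ n : N, (x * (d⁻¹ * x * d)) • n = n := by
    intro n
    have h3 : (d⁻¹ * x * d) • n = n + φ n • e := by
      rw [mul_smul, mul_smul, hφ, smul_add, inv_smul_smul, smul_c, hd', phi_stab D.toDat hx hφ hφ0 hd]
    rw [mul_smul, h3, smul_add, hφ, smul_c, D.X_ee hx, add_add_self']
  have h3 := D.XQ1 _ (X.mul_mem hx h1) h2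
  have h4 : x • q = (d⁻¹ * x * d) • q := by
    have h5 : (x * x) • q = q := by
      refine D.XQ1 _ (X.mul_mem hx hx) (fun n => ?_) q
      rw [mul_smul, hφ n, smul_add, hφ, smul_c, D.X_ee hx, add_add_self']
    have h6 := h3 q
    rw [mul_smul] at h5 h6
    exact smul_left_cancel x (h5.trans h6.symm)
  rw [hκ, mul_smul, mul_smul, hκ, smul_add, inv_smul_smul, smul_c] at h4
  have h5 : d⁻¹ • ν = ν := D.st _ hd'
  rw [h5] at h4
  have h6 : (κ q - κ (d • q)) • ν = 0 := by rw [sub_smul, add_left_cancel h4, sub_self]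
  have h7 := c_eq_zero D.ν_ne h6
  exact (sub_eq_zero.1 h7).symm

theorem kap_zero {g : H} (h : φ (g • e) = 0) : κ (g • ν) = 0 := by
  have h1 : (x * g) • e = g • e := by rw [mul_smul, hφ, h, zero_smul, add_zero]
  have h2 := D.nu_eq h1
  rw [mul_smul, hκ] at h2
  exact c_eq_zero D.ν_ne (add_eq_left.1 h2)

theorem kap_nu : κ ν = 0 := by
  have := D.kap_zero hx hφ hφ0 hκ (g := 1) (by rw [one_smul]; exact phi_e D.toDat hx hφ hφ0)
  rwa [one_smul] at this

/-- the action of `x^(g⁻¹)` -/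
theorem act_conj (g : H) (q : Q) : (g * x * g⁻¹) • q = q + κ (g⁻¹ • q) • g • ν := by
  rw [mul_smul, mul_smul, hκ, smul_add, smul_inv_smul, smul_c]

theorem act_conjN (g : H) (n : N) : (g * x * g⁻¹) • n = n + φ (g⁻¹ • n) • g • e := by
  rw [mul_smul, mul_smul, hφ, smul_add, smul_inv_smul, smul_c]

/-- the dichotomy for `h • e`, `k • e` not perpendicular -/
theorem dich {h k : H} (hn : φ (h⁻¹ • k • e) = 1) : (κ (h⁻¹ • k • ν) = 1 ∧ κ (k⁻¹ • h • ν) = 1) ∨
    (κ (h⁻¹ • k • ν) = 0 ∧ κ (k⁻¹ • h • ν) = 0 ∧ h • ν = k • ν) := by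
  have hn' : φ (k⁻¹ • h • e) = 1 := by rw [← phi_symm D.toDat hx hφ hφ0]; exact hn
  have h1 : ((h * x * h⁻¹) * k) • e = ((k * x * k⁻¹) * h) • e := by
    rw [mul_smul (h * x * h⁻¹), mul_smul (k * x * k⁻¹), D.act_conjN hx hφ hφ0 hκ, D.act_conjN hx hφ hφ0 hκ, hn, hn',
      one_smul, one_smul, add_comm]
  have h2 := D.nu_eq h1
  rw [mul_smul (h * x * h⁻¹), mul_smul (k * x * k⁻¹), D.act_conj hx hφ hφ0 hκ, D.act_conj hx hφ hφ0 hκ] at h2
  have hh : h • ν ≠ 0 := fun e => D.ν_ne ((smul_eq_zero_iff_eq h).1 e)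
  have hk : k • ν ≠ 0 := fun e => D.ν_ne ((smul_eq_zero_iff_eq k).1 e)
  rcases two_cases (κ (h⁻¹ • k • ν)) with h3 | h3 <;> rcases two_cases (κ (k⁻¹ • h • ν)) with h4 | h4 <;>
    rw [h3, h4] at h2 <;> simp only [zero_smul, one_smul, add_zero] at h2
  · exact Or.inr ⟨h3, h4, h2.symm⟩
  · exfalso
    rw [add_comm] at h2
    exact hh (add_eq_left.1 h2.symm)
  · exfalso
    rw [add_comm] at h2
    exact hk (add_eq_left.1 h2)
  · exact Or.inl ⟨h3, h4⟩

/-- points on a line have different `ν` -/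
theorem nu_ne (hne : ∃ h : H, y (h • ν) ≠ 0) {h l : H} (hl : l ∈ L) (hle : l • e ≠ e) : (h * l) • ν ≠ h • ν := by
  intro h1
  rw [mul_smul] at h1
  have h2 : l • ν = ν := smul_left_cancel h h1
  -- `e'`
  obtain ⟨l1, hl1, hle1⟩ := D.mv
  obtain ⟨l2, hl2, hle2⟩ := D.mv'
  -- an element of `L` (the stabiliser of `e` in `L`) interchanging `e'` and `e''`
  obtain ⟨t, ht, hte⟩ : ∃ t ∈ T, t • e' = e + e' := by
    by_contra hcon
    push Not at hcon
    have h3 : ∀ t ∈ T, t • e' = e' := by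
      intro t ht
      rcases D.L_e' t (D.TL ht) with h4 | h4 | h4
      · exfalso
        rw [← D.T_e t ht] at h4
        exact D.ne (smul_left_cancel t h4)
      · exact h4
      · exact absurd h4 (hcon t ht)
    rcases D.fix e' h3 with h4 | h4
    · exact D.e'_ne h4
    · exact D.ne h4
  have hte2 : t • (e + e') = e' := by
    rw [smul_add, D.T_e t ht, hte, add_self_add]
  have htν : t • ν = ν := D.st t (D.T_e t ht)
  have h3 : l1 • ν = ν ∧ l2 • ν = ν := by
    rcases D.L_e l hl with h4 | h4 | h4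
    · exact absurd h4 hle
    · have h5 : l1 • ν = ν := (D.nu_eq (hle1.trans h4.symm)).trans h2
      refine ⟨h5, ?_⟩
      have h6 : l2 • e = (t * l1) • e := by rw [hle2, mul_smul, hle1, hte]
      rw [D.nu_eq h6, mul_smul, h5, htν]
    · have h5 : l2 • ν = ν := (D.nu_eq (hle2.trans h4.symm)).trans h2
      refine ⟨?_, h5⟩
      have h6 : l1 • e = (t * l2) • e := by rw [hle1, mul_smul, hle2, hte2]
      rw [D.nu_eq h6, mul_smul, h5, htν]
  -- all `g • ν` are equal
  have h4 : ∀ g : H, ∀ k : H, k • e = g • e → k • ν = ν := by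
    refine D.conn (fun p => ∀ k : H, k • e = p → k • ν = ν) (fun k hk => D.st k hk) fun h hh => ?_
    refine ⟨fun k hk => ?_, fun k hk => ?_⟩
    · have h5 : k • e = (h * l1) • e := by rw [hk, mul_smul, hle1]
      rw [D.nu_eq h5, mul_smul, h3.1]
      exact hh h rfl
    · have h5 : k • e = (h * l2) • e := by rw [hk, mul_smul, hle2]
      rw [D.nu_eq h5, mul_smul, h3.2]
      exact hh h rfl
  obtain ⟨g, hg⟩ := hne
  rw [h4 g g rfl, D.yν] at hg
  exact hg rfl

/-- **(d)** -/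
theorem kap_eq (hne : ∃ h : H, y (h • ν) ≠ 0) (g : H) : κ (g • ν) = φ (g • e) := by
  have key : ∀ h k : H, φ (h⁻¹ • k • e) = 1 → κ (h⁻¹ • k • ν) = 1 := by
    intro h k hn
    rcases D.dich hx hφ hφ0 hκ hn with h1 | ⟨h1, h2, h3⟩
    · exact h1.1
    · exfalso
      have hn' : φ (k⁻¹ • h • e) = 1 := by rw [← phi_symm D.toDat hx hφ hφ0]; exact hn
      -- `κ_u = κ_w`
      have h4 : ∀ q : Q, κ (h⁻¹ • q) = κ (k⁻¹ • q) := by
        intro q
        have a1 : (h * x * h⁻¹) • k • e = k • e + h • e := by rw [D.act_conjN hx hφ hφ0 hκ, hn, one_smul]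
        have a2 : (k * x * k⁻¹) • k • e = k • e := by
          rw [D.act_conjN hx hφ hφ0 hκ, inv_smul_smul, phi_e D.toDat hx hφ hφ0, zero_smul, add_zero]
        have a3 : (k * x * k⁻¹) • h • e = h • e + k • e := by rw [D.act_conjN hx hφ hφ0 hκ, hn', one_smul]
        have h5 : (h⁻¹ * (k * x * k⁻¹) * (h * x * h⁻¹) * k) • e = e := by
          rw [mul_smul, mul_smul, mul_smul, a1, smul_add, a2, a3, add_comm (k • e), add_add_self', inv_smul_smul]
        have b2 : (h * x * h⁻¹) • q = q + κ (h⁻¹ • q) • k • ν := by rw [D.act_conj hx hφ hφ0 hκ, h3]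
        have b3 : (k * x * k⁻¹) • k • ν = k • ν := by
          rw [D.act_conj hx hφ hφ0 hκ, inv_smul_smul, D.kap_nu hx hφ hφ0 hκ, zero_smul, add_zero]
        have b4 : (k * x * k⁻¹) • q = q + κ (k⁻¹ • q) • k • ν := D.act_conj hx hφ hφ0 hκ k q
        have b1 : (h⁻¹ * (k * x * k⁻¹) * (h * x * h⁻¹) * k) • k⁻¹ • q =
            h⁻¹ • q + κ (k⁻¹ • q) • h⁻¹ • k • ν + κ (h⁻¹ • q) • h⁻¹ • k • ν := by
          rw [mul_smul, mul_smul, mul_smul, smul_inv_smul, b2, smul_add, smul_c, b3, b4, smul_add, smul_add, smul_c,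
            smul_c]
        have h6 := D.kap_stab hx hφ hφ0 hκ h5 (k⁻¹ • q)
        rw [b1, map_add, map_add, κ.map_smul, κ.map_smul, h1, smul_zero, smul_zero, add_zero, add_zero] at h6
        exact h6
      -- the point `p₂` of the line which is not perpendicular to `w = k • e`
      have two : ∀ l ∈ L, l • e ≠ e → φ (l • e) = 0 → φ (k⁻¹ • (h * l) • e) = 1 → False := by
        intro l hl hle h5 h6
        rcases D.dich hx hφ hφ0 hκ h6 with h7 | ⟨-, -, h7⟩
        · have h8 := h4 ((h * l) • ν)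
          rw [h7.1, mul_smul, inv_smul_smul, D.kap_zero hx hφ hφ0 hκ h5] at h8
          exact zero_ne_one h8
        · exact D.nu_ne hx hφ hφ0 hκ hne hl hle (h7.symm.trans h3.symm)
      obtain ⟨l1, hl1, hle1⟩ := D.mv
      obtain ⟨l2, hl2, hle2⟩ := D.mv'
      have he' := phi_e' D.toDat hx hφ hφ0
      have hee := phi_e D.toDat hx hφ hφ0
      rcases two_cases (φ (k⁻¹ • h • e')) with h5 | h5
      · refine two l2 hl2 (fun h6 => ?_) (by rw [hle2, map_add, hee, he', add_zero]) ?_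
        · rw [hle2] at h6
          exact D.e'_ne (add_eq_left.1 h6)
        · rw [mul_smul, hle2, smul_add, smul_add, map_add, hn', h5, add_zero]
      · refine two l1 hl1 (fun h6 => ?_) (by rw [hle1, he']) ?_
        · rw [hle1] at h6
          exact D.ne h6
        · rw [mul_smul, hle1, h5]
  rcases two_cases (φ (g • e)) with h | h
  · rw [h, D.kap_zero hx hφ hφ0 hκ h]
  · have := key 1 g (by rw [inv_one, one_smul]; exact h)
    rw [inv_one, one_smul] at this
    rw [this, h]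

end DatQ

/-! ### (e) -/

/-- the Sylow index of `T ∩ K`, `K` normal -/
theorem relIndex_dvd {H : Type*} [Group H] [Finite H] (T K : Subgroup H) [K.Normal] : T.relIndex K ∣ T.index := by
  have h1 := Subgroup.relIndex_mul_relIndex (T ⊓ K) T (T ⊔ K) inf_le_left le_sup_left
  have h2 := Subgroup.relIndex_mul_relIndex (T ⊓ K) K (T ⊔ K) inf_le_right le_sup_right
  rw [Subgroup.inf_relIndex_left] at h1
  rw [Subgroup.inf_relIndex_right, Subgroup.relIndex_sup_right] at h2
  have h3 : K.relIndex T ≠ 0 := Subgroup.index_ne_zero_of_finite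
  have h4 : T.relIndex (T ⊔ K) = T.relIndex K := by
    have h5 : K.relIndex T * T.relIndex (T ⊔ K) = K.relIndex T * T.relIndex K := by
      rw [h1, ← h2, mul_comm]
    exact Nat.eq_of_mul_eq_mul_left (Nat.pos_of_ne_zero h3) h5
  rw [← h4]
  exact Subgroup.relIndex_dvd_index_of_le le_sup_left

namespace DatQ

variable {Q : Type*} [AddCommGroup Q] [Module (ZMod 2) Q] [DistribMulAction H Q]
variable [Finite H] [Finite N] {T L X : Subgroup H} {e e' : N} {ν : Q} {y : Dual (ZMod 2) Q}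
  (D : DatQ H N Q T L X e e' ν y)
include D

/-- the elements of `⟨X^H⟩` change `h ↦ y (h • ν)` by a functional -/
theorem exists_diff (hne : ∃ h : H, y (h • ν) ≠ 0) {g : H} (hg : g ∈ Subgroup.normalClosure (X : Set H)) :
    ∃ ψ : Dual (ZMod 2) N, ∀ h : H, y ((g * h) • ν) = y (h • ν) + ψ (h • e) := by
  let K : Subgroup H :=
    { carrier := {g | ∃ ψ : Dual (ZMod 2) N, ∀ h : H, y ((g * h) • ν) = y (h • ν) + ψ (h • e)}
      one_mem' := ⟨0, fun h => by rw [one_mul]; simp⟩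
      mul_mem' := by
        rintro a b ⟨ψ, hψ⟩ ⟨χ, hχ⟩
        refine ⟨χ + ψ.comp (lm b), fun h => ?_⟩
        rw [mul_assoc, hψ, hχ, LinearMap.add_apply, LinearMap.comp_apply, lm_apply, mul_smul]
        abel
      inv_mem' := by
        rintro a ⟨ψ, hψ⟩
        refine ⟨ψ.comp (lm a⁻¹), fun h => ?_⟩
        have h1 := hψ (a⁻¹ * h)
        rw [mul_inv_cancel_left, mul_smul a⁻¹ h e] at h1
        rw [h1, LinearMap.comp_apply, lm_apply, add_assoc, c_add_self, add_zero] }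
  have hK : Subgroup.normalClosure (X : Set H) ≤ K := by
    refine (Subgroup.closure_le _).2 fun g hg => ?_
    obtain ⟨x, hx, hxg⟩ := Group.mem_conjugatesOfSet_iff.1 hg
    obtain ⟨k, rfl⟩ := isConj_iff.1 hxg
    have hx' : x ∈ X := hx
    obtain ⟨φ, hφ⟩ := D.exists_fun hx'
    by_cases hφ0 : φ = 0
    · refine ⟨0, fun h => ?_⟩
      have h1 := D.XQ1 x hx' (fun n => by rw [hφ, hφ0]; simp)
      rw [mul_smul, mul_smul, mul_smul, h1, smul_inv_smul]
      simp
    · obtain ⟨κ, hκ⟩ := D.exists_kap hx'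
      refine ⟨y (k • ν) • φ.comp (lm k⁻¹), fun h => ?_⟩
      rw [mul_smul (k * x * k⁻¹), D.act_conj hx' hφ hφ0 hκ, y.map_add, y.map_smul, ← mul_smul k⁻¹ h ν,
        D.kap_eq hx' hφ hφ0 hκ hne, LinearMap.smul_apply, LinearMap.comp_apply, lm_apply, mul_smul, smul_eq_mul,
        smul_eq_mul, mul_comm]
  exact hK hg

/-- **(e)** -/
theorem y_eq_zero (h : H) : y (h • ν) = 0 := by
  classical
  by_contra hcon
  have hne : ∃ h : H, y (h • ν) ≠ 0 := ⟨h, hcon⟩
  obtain ⟨x, φ, hx, hφ, hφ0, -⟩ := D.exists_phi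
  obtain ⟨κ, hκ⟩ := D.exists_kap hx
  let K : Subgroup H := Subgroup.normalClosure (X : Set H)
  let T0 : Subgroup K := T.subgroupOf K
  let _ : Fintype (K ⧸ T0) := Fintype.ofFinite _
  have hT : ∀ t ∈ T, ∀ q : Q, y (t • q) = y q := fun t ht q => D.yL t (D.TL ht) q
  -- the sum over the orbit
  let Fq : H → K ⧸ T0 → ZMod 2 := fun h c => Quotient.liftOn' c (fun k : K => y (((k : H)⁻¹ * h) • ν)) (by
    intro a b hab
    have h1 : a⁻¹ * b ∈ T0 := QuotientGroup.leftRel_apply.1 hab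
    have h2 : ((a⁻¹ * b : K) : H) ∈ T := h1
    show y (((a : H)⁻¹ * h) • ν) = y (((b : H)⁻¹ * h) • ν)
    have h3 : (a : H)⁻¹ * h = ((a⁻¹ * b : K) : H) * ((b : H)⁻¹ * h) := by
      show (a : H)⁻¹ * h = (a : H)⁻¹ * (b : H) * ((b : H)⁻¹ * h)
      group
    rw [h3, mul_smul _ _ ν, hT _ h2])
  have hFq : ∀ (h : H) (k : K), Fq h (k : K ⧸ T0) = y (((k : H)⁻¹ * h) • ν) := fun _ _ => rfl
  let s : H → ZMod 2 := fun h => ∑ c : K ⧸ T0, Fq h c
  have hs1 : ∀ (g : K) (h : H), s ((g : H) * h) = s h := by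
    intro g h
    have h1 : ∀ c : K ⧸ T0, Fq ((g : H) * h) c = Fq h (MulAction.toPerm g⁻¹ c) := by
      intro c
      induction c using QuotientGroup.induction_on with
      | H k =>
        have h2 : (MulAction.toPerm g⁻¹ (k : K ⧸ T0) : K ⧸ T0) = ((g⁻¹ * k : K) : K ⧸ T0) := rfl
        rw [h2, hFq, hFq]
        congr 2
        show (k : H)⁻¹ * ((g : H) * h) = ((g : H)⁻¹ * (k : H))⁻¹ * h
        group
    show ∑ c, Fq ((g : H) * h) c = ∑ c, Fq h c
    rw [Finset.sum_congr rfl fun c _ => h1 c]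
    exact Equiv.sum_comp (MulAction.toPerm g⁻¹) (Fq h)
  have h1 : ∀ c : K ⧸ T0, ∃ ψ : Dual (ZMod 2) N, ∀ h : H, Fq h c = y (h • ν) + ψ (h • e) := by
    intro c
    induction c using QuotientGroup.induction_on with
    | H k => exact D.exists_diff hne (K.inv_mem k.2)
  choose ψ hψ using h1
  have hodd : ((Fintype.card (K ⧸ T0) : ℕ) : ZMod 2) = 1 := by
    have h2 : ¬ 2 ∣ Fintype.card (K ⧸ T0) := by
      intro h3
      have h4 : Fintype.card (K ⧸ T0) = T.relIndex K := (Nat.card_eq_fintype_card).symm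
      rw [h4] at h3
      exact D.syl (h3.trans (relIndex_dvd T K))
    have h3 : Fintype.card (K ⧸ T0) % 2 = 1 := by omega
    rw [← ZMod.natCast_mod, h3, Nat.cast_one]
  let χ : Dual (ZMod 2) N := ∑ c : K ⧸ T0, ψ c
  have hs2 : ∀ h : H, s h = y (h • ν) + χ (h • e) := by
    intro h
    show ∑ c, Fq h c = _
    rw [Finset.sum_congr rfl fun c _ => hψ c h, Finset.sum_add_distrib, Finset.sum_const, Finset.card_univ,
      nsmul_eq_mul, hodd, one_mul, LinearMap.sum_apply]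
  have hs3 : ∀ k : H, s k = 0 := by
    intro k
    obtain ⟨g, hg⟩ := D.exists_pt hφ0
    have hxk : k * x * k⁻¹ ∈ K := Subgroup.normalClosure_normal.conj_mem x (Subgroup.subset_normalClosure hx) k
    have h2 := hs1 ⟨k * x * k⁻¹, hxk⟩ (k * g)
    have h2' : s (k * x * k⁻¹ * (k * g)) = s (k * g) := h2
    rw [hs2, hs2, mul_smul (k * x * k⁻¹), mul_smul (k * x * k⁻¹), D.act_conj hx hφ hφ0 hκ,
      D.act_conjN hx hφ hφ0 hκ, ← mul_smul k⁻¹ (k * g) ν, ← mul_smul k⁻¹ (k * g) e, inv_mul_cancel_left,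
      D.kap_eq hx hφ hφ0 hκ hne, hg, one_smul, one_smul, y.map_add, χ.map_add] at h2'
    rw [hs2]
    have h3 : y ((k * g) • ν) + y (k • ν) + (χ ((k * g) • e) + χ (k • e)) =
        y ((k * g) • ν) + χ ((k * g) • e) + (y (k • ν) + χ (k • e)) := by abel
    rw [h3] at h2'
    exact add_eq_left.1 h2'
  have hF : ∀ h : H, y (h • ν) = χ (h • e) := by
    intro h
    have h2 := hs2 h
    rw [hs3] at h2
    have h3 : y (h • ν) + χ (h • e) + χ (h • e) = 0 + χ (h • e) := by rw [h2]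
    rwa [add_assoc, c_add_self, add_zero, zero_add] at h3
  have h2 : χ = 0 := fix_zero D.toDat hx hφ hφ0 fun l hl g => by
    rw [← hF g, ← mul_smul l g e, ← hF, mul_smul l g ν, D.yL l hl]
  apply hcon
  rw [hF, h2]
  rfl

end DatQ

end Cfsg.Agent.Omega.OM.PG.SymD1
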