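import Mathlib

/-!
# Distance 1, no radical (helper609, TEXT R4 #19278 (5)), the module part: (a), (b), (c)

`H` acts on the elementary abelian 2-group `N` generated by the points `h • e`; `V = {0, e, e', e + e'}` is the line of
`L`; `X` is a group of transvections with centre `e`, trivial on `V`; `T ≤ L` is a 2-group and `e` is the only vector
`≠ 0` fixed by `T`.

* `Tr H u φ` : `H` induces `x ↦ x + φ(x) u`; `Tr.key`, `nperp_symm` : (a);
* `Dat` : the hypotheses; `Dat.conn` : connectedness of the points by lines;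
* `Dat.perp` : (a) `φ(e') = 0` for `Tr H e φ`;
* `Dat.uniq` : (b) there is at most one `φ ≠ 0` with `Tr H e φ`.
-/

set_option autoImplicit false
set_option linter.unusedSectionVars false

namespace Cfsg.Agent.Omega.OM.PG.SymD1

open Module

section Base

variable {H N : Type*} [Group H] [AddCommGroup N] [Module (ZMod 2) N] [DistribMulAction H N]

/-- the linear map of `h` -/
def lm (h : H) : N →ₗ[ZMod 2] N := (DistribSMul.toAddMonoidHom N h).toZModLinearMap 2

theorem lm_apply (h : H) (n : N) : lm h n = h • n := rfl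

theorem smul_c (h : H) (c : ZMod 2) (n : N) : h • (c • n) = c • (h • n) := (lm h).map_smul c n

theorem two_cases (c : ZMod 2) : c = 0 ∨ c = 1 := by
  revert c; decide

theorem c_add_self (c : ZMod 2) : c + c = 0 := by
  revert c; decide

theorem n_add_self (n : N) : n + n = 0 := ZModModule.add_self n

theorem eq_of_add {a b : N} (h : a + b = 0) : a = b := by
  have h1 : a + b + b = 0 + b := by rw [h]
  rwa [add_assoc, n_add_self, add_zero, zero_add] at h1

theorem add_add_self' (a b : N) : a + b + b = a := by rw [add_assoc, n_add_self, add_zero]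

theorem add_self_add (a b : N) : a + (a + b) = b := by rw [← add_assoc, n_add_self, zero_add]

theorem c_eq_zero {c : ZMod 2} {n : N} (hn : n ≠ 0) (h : c • n = 0) : c = 0 := by
  rcases two_cases c with e | e
  · exact e
  · rw [e, one_smul] at h
    exact absurd h hn

/-- `H` induces the transvection `x ↦ x + φ(x) u` -/
def Tr (H : Type*) {N : Type*} [Group H] [AddCommGroup N] [Module (ZMod 2) N] [DistribMulAction H N] (u : N)
    (φ : Dual (ZMod 2) N) : Prop := φ u = 0 ∧ ∃ h : H, ∀ x : N, h • x = x + φ x • u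

/-- `w` is not perpendicular to `u` -/
def NP (H : Type*) {N : Type*} [Group H] [AddCommGroup N] [Module (ZMod 2) N] [DistribMulAction H N] (u w : N) :
    Prop := ∃ φ : Dual (ZMod 2) N, Tr H u φ ∧ φ w = 1

namespace Tr

theorem zero (u : N) : Tr H u 0 := ⟨rfl, 1, fun x => by simp⟩

theorem add {u : N} {φ ψ : Dual (ZMod 2) N} (h1 : Tr H u φ) (h2 : Tr H u ψ) : Tr H u (φ + ψ) := by
  obtain ⟨h1', h, hh⟩ := h1
  obtain ⟨h2', k, hk⟩ := h2
  refine ⟨by rw [LinearMap.add_apply, h1', h2', add_zero], h * k, fun x => ?_⟩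
  rw [mul_smul, hk, smul_add, hh, smul_c, hh, h1', zero_smul, add_zero, LinearMap.add_apply, add_smul]
  abel

/-- the same functional at two points -/
theorem add_pt {u w : N} {φ : Dual (ZMod 2) N} (h1 : Tr H u φ) (h2 : Tr H w φ) : Tr H (u + w) φ := by
  obtain ⟨h1', h, hh⟩ := h1
  obtain ⟨h2', k, hk⟩ := h2
  refine ⟨by rw [map_add, h1', h2', add_zero], h * k, fun x => ?_⟩
  rw [mul_smul, hk, smul_add, hh, smul_c, hh, h2', zero_smul, add_zero, smul_add]
  abel

theorem smul {u : N} {φ : Dual (ZMod 2) N} (h1 : Tr H u φ) (g : H) : Tr H (g • u) (φ.comp (lm g⁻¹)) := by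
  obtain ⟨h1', h, hh⟩ := h1
  refine ⟨?_, g * h * g⁻¹, fun x => ?_⟩
  · rw [LinearMap.comp_apply, lm_apply, inv_smul_smul, h1']
  · rw [mul_smul, mul_smul, hh, smul_add, smul_inv_smul, smul_c, LinearMap.comp_apply, lm_apply]

/-- `φ(w) = 1`, `ψ(u) = 0` : the transvection with centre `w` and functional `ψ` gives one with centre `u` -/
theorem key {u w : N} {φ ψ : Dual (ZMod 2) N} (h1 : Tr H u φ) (hw : φ w = 1) (h2 : Tr H w ψ) (hu : ψ u = 0) :
    Tr H u ψ := by
  obtain ⟨h1', h, hh⟩ := h1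
  have h3 : h • w = w + u := by rw [hh, hw, one_smul]
  have h4 : Tr H (h • w) (ψ.comp (lm h⁻¹)) := h2.smul h
  have h5 : ψ.comp (lm h⁻¹) = ψ := by
    ext x
    rw [LinearMap.comp_apply, lm_apply]
    obtain ⟨y, rfl⟩ : ∃ y, x = h • y := ⟨h⁻¹ • x, (smul_inv_smul h x).symm⟩
    rw [inv_smul_smul, hh, map_add, map_smul, hu, smul_zero, add_zero]
  rw [h5, h3] at h4
  have h6 := h2.add_pt h4
  rwa [add_self_add] at h6

end Tr

variable [Finite N]

instance finite_dual : Finite (Dual (ZMod 2) N) := DFunLike.finite _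

theorem ncard_le (u : N) (g : H) : {φ | Tr H u φ}.ncard ≤ {φ | Tr H (g • u) φ}.ncard := by
  refine Set.ncard_le_ncard_of_injOn (fun φ => φ.comp (lm g⁻¹)) (fun φ hφ => Tr.smul hφ g) ?_ (Set.toFinite _)
  intro φ _ ψ _ h
  ext x
  have h1 := LinearMap.congr_fun h (g • x)
  simpa [LinearMap.comp_apply, lm_apply] using h1

/-- **(a)** symmetry -/
theorem nperp_symm {u : N} {g : H} (h : NP H u (g • u)) : NP H (g • u) u := by
  obtain ⟨φ, hφ, h1⟩ := h
  by_contra hcon
  have h2 : ∀ ψ, Tr H (g • u) ψ → ψ u = 0 := by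
    intro ψ hψ
    rcases two_cases (ψ u) with e | e
    · exact e
    · exact absurd ⟨ψ, hψ, e⟩ hcon
  have h3 : {ψ | Tr H (g • u) ψ} ⊂ {ψ | Tr H u ψ} := by
    refine ⟨fun ψ hψ => hφ.key h1 hψ (h2 ψ hψ), fun h4 => ?_⟩
    have h5 : Tr H (g • u) φ := h4 hφ
    rw [h5.1] at h1
    exact zero_ne_one h1
  have h4 := Set.ncard_lt_ncard h3 (Set.toFinite _)
  have h5 := ncard_le (H := H) u g
  omega

end Base

/-! ### The hypotheses -/

variable {H N : Type*} [Group H] [AddCommGroup N] [Module (ZMod 2) N] [DistribMulAction H N]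

/-- **The hypotheses** on `N` -/
structure Dat (H N : Type*) [Group H] [AddCommGroup N] [Module (ZMod 2) N] [DistribMulAction H N]
    (T L X : Subgroup H) (e e' : N) : Prop where
  e_ne : e ≠ 0
  ne : e' ≠ e
  L_e : ∀ l ∈ L, l • e = e ∨ l • e = e' ∨ l • e = e + e'
  L_e' : ∀ l ∈ L, l • e' = e ∨ l • e' = e' ∨ l • e' = e + e'
  mv : ∃ l ∈ L, l • e = e'
  TL : T ≤ L
  T_e : ∀ t ∈ T, t • e = e
  T_two : IsPGroup 2 T
  fix : ∀ n : N, (∀ t ∈ T, t • n = n) → n = 0 ∨ n = e
  gen : ∀ K : Subgroup H, (∀ h : H, h • e = e → h ∈ K) → L ≤ K → K = ⊤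
  span : ∀ M : AddSubgroup N, (∀ h : H, h • e ∈ M) → M = ⊤
  X_e : ∀ x ∈ X, ∀ n : N, x • n = n ∨ x • n = n + e
  X_e' : ∀ x ∈ X, x • e' = e'
  X_ne : ∃ x ∈ X, ∃ n : N, x • n ≠ n
  X_norm : ∀ h : H, h • e = e → ∀ x ∈ X, h * x * h⁻¹ ∈ X

namespace Dat

variable [Finite N] {T L X : Subgroup H} {e e' : N} (D : Dat H N T L X e e')
include D

theorem e'_ne : e' ≠ 0 := by
  obtain ⟨l, hl, h⟩ := D.mv
  intro h1
  rw [h1, smul_eq_zero_iff_eq] at h
  exact D.e_ne h

theorem e''_ne : e + e' ≠ 0 := fun h => D.ne (eq_of_add h).symm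

/-- some element of `L` maps `e` to `e + e'` -/
theorem mv' : ∃ l ∈ L, l • e = e + e' := by
  obtain ⟨l, hl, h⟩ := D.mv
  have h1 : ∃ t ∈ T, t • e' ≠ e' := by
    by_contra hcon
    push Not at hcon
    rcases D.fix e' hcon with h2 | h2
    · exact D.e'_ne h2
    · exact D.ne h2
  obtain ⟨t, ht, hte⟩ := h1
  refine ⟨t * l, L.mul_mem (D.TL ht) hl, ?_⟩
  rw [mul_smul, h]
  rcases D.L_e' t (D.TL ht) with h2 | h2 | h2
  · exfalso
    rw [← D.T_e t ht] at h2
    exact D.ne (smul_left_cancel t h2)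
  · exact absurd h2 hte
  · exact h2

/-- the points are connected by lines -/
theorem conn (Pr : N → Prop) (h0 : Pr e) (hs : ∀ h : H, Pr (h • e) → Pr (h • e') ∧ Pr (h • (e + e'))) :
    ∀ h : H, Pr (h • e) := by
  have hs' : ∀ h : H, Pr (h • e) → ∀ l ∈ L, Pr (h • l • e) := by
    intro h hh l hl
    rcases D.L_e l hl with h1 | h1 | h1
    · rwa [h1]
    · rw [h1]; exact (hs h hh).1
    · rw [h1]; exact (hs h hh).2
  let K : Subgroup H :=
    { carrier := {k | ∀ h : H, Pr (h • e) ↔ Pr ((h * k) • e)}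
      one_mem' := fun h => by rw [mul_one]
      mul_mem' := fun {a b} ha hb h => by rw [ha h, hb (h * a), mul_assoc]
      inv_mem' := fun {a} ha h => by
        have := ha (h * a⁻¹)
        rw [inv_mul_cancel_right] at this
        exact this.symm }
  have hK : K = ⊤ := by
    refine D.gen K (fun k hk h => ?_) (fun l hl h => ⟨fun hh => ?_, fun hh => ?_⟩)
    · rw [mul_smul, hk]
    · rw [mul_smul]; exact hs' h hh l hl
    · have := hs' (h * l) hh l⁻¹ (L.inv_mem hl)
      rwa [mul_smul, smul_inv_smul] at this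
  intro h
  have h1 : h ∈ K := by rw [hK]; exact Subgroup.mem_top h
  have h2 := (h1 1).1 (by rwa [one_smul])
  rwa [one_mul] at h2

/-- two functionals which agree on the points -/
theorem ext_pts {φ ψ : Dual (ZMod 2) N} (h : ∀ g : H, φ (g • e) = ψ (g • e)) : φ = ψ := by
  have h1 := D.span ((LinearMap.ker (φ - ψ)).toAddSubgroup) (fun g => by
    show g • e ∈ LinearMap.ker (φ - ψ)
    rw [LinearMap.mem_ker, LinearMap.sub_apply, h, sub_self])
  ext x
  have h2 : x ∈ (LinearMap.ker (φ - ψ)).toAddSubgroup := by rw [h1]; exact AddSubgroup.mem_top x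
  have h3 : (φ - ψ) x = 0 := LinearMap.mem_ker.1 h2
  rwa [LinearMap.sub_apply, sub_eq_zero] at h3

theorem exists_pt {φ : Dual (ZMod 2) N} (h : φ ≠ 0) : ∃ g : H, φ (g • e) = 1 := by
  by_contra hcon
  push Not at hcon
  refine h (D.ext_pts fun g => ?_)
  rcases two_cases (φ (g • e)) with h1 | h1
  · exact h1
  · exact absurd h1 (hcon g)

theorem symm {g k : H} (h : NP H (g • e) (k • e)) : NP H (k • e) (g • e) := by
  have e1 : k • e = (k * g⁻¹) • (g • e) := by rw [← mul_smul, inv_mul_cancel_right]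
  rw [e1] at h ⊢
  exact nperp_symm h

/-- a `T`-invariant subgroup `≠ 0` contains `e` -/
theorem mem_of_inv (M : AddSubgroup N) (hT : ∀ t ∈ T, ∀ n ∈ M, t • n ∈ M) (hne : M ≠ ⊥) : e ∈ M := by
  have : Fact (Nat.Prime 2) := ⟨Nat.prime_two⟩
  let _ : MulAction T M :=
    { smul := fun t n => ⟨(t : H) • (n : N), hT t t.2 n n.2⟩
      one_smul := fun n => Subtype.ext (one_smul H (n : N))
      mul_smul := fun s t n => Subtype.ext (mul_smul (s : H) (t : H) (n : N)) }
  obtain ⟨n, hn, hn0⟩ := (AddSubgroup.ne_bot_iff_exists_ne_zero.1 hne : ∃ a : M, a ≠ 0)|>.elim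
    (fun a ha => (⟨a, a.2, fun h => ha (Subtype.ext h)⟩ : ∃ n, n ∈ M ∧ n ≠ 0))
  have h2 : 2 ∣ Nat.card M := by
    have h3 : addOrderOf (⟨n, hn⟩ : M) ∣ Nat.card M := addOrderOf_dvd_natCard _
    have h4 : addOrderOf (⟨n, hn⟩ : M) = 2 := by
      refine addOrderOf_eq_prime (by rw [two_nsmul]; exact Subtype.ext (n_add_self n)) (fun h => hn0 ?_)
      exact congrArg Subtype.val h
    rwa [h4] at h3
  obtain ⟨d, hd, hd1⟩ := D.T_two.exists_fixed_point_of_prime_dvd_card_of_fixed_point M h2 (a := 0) (by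
    intro t
    apply Subtype.ext
    show (t : H) • (0 : N) = 0
    exact smul_zero _)
  rcases D.fix d (fun t ht => congrArg Subtype.val (hd ⟨t, ht⟩ : (⟨t, ht⟩ : T) • d = d)) with h5 | h5
  · exact absurd (Subtype.ext h5).symm hd1
  · rw [← h5]; exact d.2

/-! ### (a) lines are totally perpendicular -/

/-- for `NP e e'` the annihilator of the functionals of `e` is `{0, e}` -/
theorem ann_of_np (h0 : NP H e e') {n : N} (hn : ∀ φ, Tr H e φ → φ n = 0) : n = 0 ∨ n = e := by
  obtain ⟨l, hl, hle⟩ := D.mv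
  -- the subgroup `C⁰`
  let C0 : AddSubgroup N :=
    { carrier := {n | ∀ l ∈ L, ∀ φ, Tr H (l • e) φ → φ n = 0}
      zero_mem' := fun l _ φ _ => map_zero φ
      add_mem' := fun {a b} ha hb l hl φ hφ => by rw [map_add, ha l hl φ hφ, hb l hl φ hφ, add_zero]
      neg_mem' := fun {a} ha l hl φ hφ => by rw [map_neg, ha l hl φ hφ, neg_zero] }
  have hC0 : C0 = ⊥ := by
    by_contra hne
    have h1 : e ∈ C0 := by
      refine D.mem_of_inv C0 (fun t ht n hn l hl φ hφ => ?_) hne
      have h2 := hφ.smul t⁻¹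
      rw [← mul_smul] at h2
      have h3 := hn (t⁻¹ * l) (L.mul_mem (L.inv_mem (D.TL ht)) hl) _ h2
      rwa [LinearMap.comp_apply, lm_apply, inv_inv] at h3
    have h2 : NP H e (l • e) := by rw [hle]; exact h0
    obtain ⟨ψ, hψ, hψ1⟩ := nperp_symm h2
    rw [h1 l hl ψ hψ] at hψ1
    exact zero_ne_one hψ1
  have h0' : NP H e (l • e) := by rw [hle]; exact h0
  have h0s : NP H e' e := by
    have := nperp_symm h0'
    rwa [hle] at this
  obtain ⟨φ0, hφ0, hφ01⟩ := h0
  obtain ⟨ψ0, hψ0, hψ01⟩ := h0s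
  -- functionals of `e'` which kill `e` are functionals of `e`
  have hk : ∀ ψ, Tr H e' ψ → ψ e = 0 → Tr H e ψ := fun ψ hψ h1 => hφ0.key hφ01 hψ h1
  -- an element killed by the functionals of `e` and `e'`
  have key : ∀ n : N, (∀ φ, Tr H e φ → φ n = 0) → (∀ φ, Tr H e' φ → φ n = 0) → n = 0 := by
    intro n h1 h2
    have h3 : n ∈ C0 := by
      intro l hl φ hφ
      rcases D.L_e l hl with h | h | h
      · rw [h] at hφ; exact h1 φ hφ
      · rw [h] at hφ; exact h2 φ hφ
      · rw [h] at hφ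
        -- `e + e' = t • e` for the transvection `t` with centre `e'`
        obtain ⟨h4, g, hg⟩ := hψ0
        have h5 : g • e = e + e' := by rw [hg, hψ01, one_smul]
        rw [← h5] at hφ
        have h6 := hφ.smul g⁻¹
        rw [inv_smul_smul, inv_inv] at h6
        have h7 := h1 _ h6
        rw [LinearMap.comp_apply, lm_apply, hg, map_add, map_smul, h2 ψ0 ⟨h4, g, hg⟩, zero_smul, add_zero] at h7
        exact h7
    rw [hC0] at h3
    exact AddSubgroup.mem_bot.1 h3
  by_cases h1 : ∀ ψ, Tr H e' ψ → ψ n = 0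
  · exact Or.inl (key n hn h1)
  · right
    push Not at h1
    obtain ⟨ψ1, hψ1, hψ1n⟩ := h1
    have hψ1n' : ψ1 n = 1 := (two_cases _).resolve_left hψ1n
    have hψ1e : ψ1 e = 1 := by
      rcases two_cases (ψ1 e) with h | h
      · exact absurd (hn ψ1 (hk ψ1 hψ1 h)) hψ1n
      · exact h
    refine eq_of_add (key (n + e) (fun φ hφ => ?_) fun ψ hψ => ?_)
    · rw [map_add, hn φ hφ, hφ.1, add_zero]
    · rcases two_cases (ψ e) with h | h
      · rw [map_add, h, hn ψ (hk ψ hψ h), add_zero]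
      · have h2 : (ψ + ψ1) e = 0 := by rw [LinearMap.add_apply, h, hψ1e, c_add_self]
        have h3 := hn _ (hk _ (hψ.add hψ1) h2)
        rw [LinearMap.add_apply, hψ1n'] at h3
        rw [map_add, h]
        exact h3

/-- for `NP e e'` every functional which kills `e` is one of `e` -/
theorem tr_of_np (h0 : NP H e e') {φ : Dual (ZMod 2) N} (hφ : φ e = 0) : Tr H e φ := by
  let W : Submodule (ZMod 2) (Dual (ZMod 2) N) :=
    { carrier := {φ | Tr H e φ}
      zero_mem' := Tr.zero e
      add_mem' := fun {a b} ha hb => Tr.add ha hb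
      smul_mem' := fun c a ha => by
        rcases two_cases c with h | h
        · rw [h, zero_smul]; exact Tr.zero e
        · rw [h, one_smul]; exact ha }
  have h1 : W.dualCoannihilator ≤ LinearMap.ker φ := by
    intro n hn
    rw [Submodule.mem_dualCoannihilator] at hn
    rcases D.ann_of_np h0 (n := n) (fun ψ hψ => hn ψ hψ) with h | h
    · rw [h]; exact Submodule.zero_mem _
    · rw [h]; exact hφ
  have h2 : φ ∈ W.dualCoannihilator.dualAnnihilator := by
    rw [Submodule.mem_dualAnnihilator]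
    exact fun n hn => h1 hn
  rwa [Subspace.dualCoannihilator_dualAnnihilator_eq] at h2

/-- separation -/
theorem sep {p q x : N} (h1 : x ≠ 0) (h2 : x ≠ p) (h3 : x ≠ q) (h4 : x ≠ p + q) :
    ∃ φ : Dual (ZMod 2) N, φ p = 0 ∧ φ q = 0 ∧ φ x = 1 := by
  have h5 : x ∉ Submodule.span (ZMod 2) {p, q} := by
    rw [Submodule.mem_span_pair]
    rintro ⟨a, b, h⟩
    rcases two_cases a with ha | ha <;> rcases two_cases b with hb | hb <;> rw [ha, hb] at h <;>
      simp only [zero_smul, one_smul, add_zero, zero_add] at h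
    · exact h1 h.symm
    · exact h3 h.symm
    · exact h2 h.symm
    · exact h4 h.symm
  obtain ⟨f, hf, hf'⟩ := Submodule.exists_dual_map_eq_bot_of_notMem h5 inferInstance
  have h6 : ∀ y ∈ Submodule.span (ZMod 2) {p, q}, f y = 0 := by
    intro y hy
    have : f y ∈ Submodule.map f (Submodule.span (ZMod 2) {p, q}) := Submodule.mem_map_of_mem hy
    rwa [hf', Submodule.mem_bot] at this
  exact ⟨f, h6 p (Submodule.subset_span (by simp)), h6 q (Submodule.subset_span (by simp)),
    (two_cases _).resolve_left hf⟩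

/-- **(a)** lines are totally perpendicular -/
theorem perp {φ : Dual (ZMod 2) N} (hφ : Tr H e φ) : φ e' = 0 := by
  by_contra hcon
  have h0 : NP H e e' := ⟨φ, hφ, (two_cases _).resolve_left hcon⟩
  have hall : ∀ (g : H) (ψ : Dual (ZMod 2) N), ψ (g • e) = 0 → Tr H (g • e) ψ := by
    intro g ψ hψ
    have h1 : Tr H e (ψ.comp (lm g)) := D.tr_of_np h0 (by rw [LinearMap.comp_apply, lm_apply, hψ])
    have h2 := h1.smul g
    have h3 : (ψ.comp (lm g)).comp (lm g⁻¹) = ψ := by
      ext x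
      rw [LinearMap.comp_apply, LinearMap.comp_apply, lm_apply, lm_apply, smul_inv_smul]
    rwa [h3] at h2
  -- all vectors `≠ 0` are points
  have hpt : ∀ n : N, n = 0 ∨ ∃ g : H, n = g • e := by
    let M : AddSubgroup N :=
      { carrier := {n | n = 0 ∨ ∃ g : H, n = g • e}
        zero_mem' := Or.inl rfl
        add_mem' := by
          rintro a b (rfl | ⟨g, rfl⟩) (rfl | ⟨k, rfl⟩)
          · left; rw [add_zero]
          · right; exact ⟨k, by rw [zero_add]⟩
          · right; exact ⟨g, by rw [add_zero]⟩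
          · by_cases h1 : g • e = k • e
            · left; rw [h1, n_add_self]
            · right
              have hg0 : g • e ≠ 0 := fun h => D.e_ne ((smul_eq_zero_iff_eq g).1 h)
              have hk0 : k • e ≠ 0 := fun h => D.e_ne ((smul_eq_zero_iff_eq k).1 h)
              obtain ⟨ψ, hψ1, -, hψ2⟩ := D.sep (p := g • e) (q := g • e) (x := k • e) hk0 (fun h => h1 h.symm)
                (fun h => h1 h.symm) (by rw [n_add_self]; exact hk0)
              obtain ⟨-, h, hh⟩ := hall g ψ hψ1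
              exact ⟨h * k, by rw [mul_smul, hh, hψ2, one_smul, add_comm]⟩
        neg_mem' := by
          intro a ha
          have h1 : -a = a := ZModModule.neg_eq_self a
          rw [h1]
          exact ha }
    intro n
    have h1 : M = ⊤ := D.span M fun h => Or.inr ⟨h, rfl⟩
    have h2 : n ∈ M := by rw [h1]; exact AddSubgroup.mem_top n
    exact h2
  -- `X` centralises everything
  obtain ⟨x, hx, n, hn⟩ := D.X_ne
  apply hn
  have hxe : ∀ x ∈ X, x • e = e := by
    intro x hx
    rcases D.X_e x hx e with h | h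
    · exact h
    · rw [n_add_self, smul_eq_zero_iff_eq] at h
      exact absurd h D.e_ne
  -- `n` is `0`, in the line or an image of `e'` under the stabiliser of `e`
  by_cases hn0 : n = 0
  · rw [hn0, smul_zero]
  by_cases hne : n = e
  · rw [hne, hxe x hx]
  by_cases hne' : n = e'
  · rw [hne', D.X_e' x hx]
  by_cases hne'' : n = e + e'
  · rw [hne'', smul_add, hxe x hx, D.X_e' x hx]
  have hp : n + e' ≠ 0 := fun h => hne' (eq_of_add h)
  obtain ⟨g, hg⟩ := (hpt (n + e')).resolve_left hp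
  obtain ⟨ψ, hψ1, hψ2, hψ3⟩ := D.sep (p := n + e') (q := e) (x := e') D.e'_ne
    (fun h => hn0 (by
      have : n + e' + e' = e' + e' := by rw [← h]
      rwa [add_add_self', n_add_self] at this)) D.ne
    (fun h => hne (by
      have h1 : e' + e' = n + e' + e + e' := by rw [← h]
      have h2 : n + e' + e + e' = n + e := by
        rw [add_assoc, add_assoc, add_comm e e', ← add_assoc e' e' e, n_add_self, zero_add]
      rw [n_add_self, h2] at h1
      exact eq_of_add h1.symm))
  rw [hg] at hψ1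
  obtain ⟨-, h, hh⟩ := hall g ψ hψ1
  have h1 : h • e = e := by rw [hh, hψ2, zero_smul, add_zero]
  have h2 : h • e' = n := by
    rw [hh, hψ3, one_smul, ← hg, add_comm, add_add_self']
  have h3 : h⁻¹ * x * h ∈ X := by
    have := D.X_norm h⁻¹ (by nth_rewrite 1 [← h1]; rw [inv_smul_smul]) x hx
    rwa [inv_inv] at this
  have h4 := D.X_e' _ h3
  rw [mul_smul, mul_smul, inv_smul_eq_iff, h2] at h4
  exact h4

/-! ### (b) there is only one functional -/

/-- the functionals of `g • e` are trivial on the line `g • V` -/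
theorem perp_smul {g : H} {φ : Dual (ZMod 2) N} (hφ : Tr H (g • e) φ) : φ (g • e') = 0 := by
  have h1 := hφ.smul g⁻¹
  rw [inv_smul_smul, inv_inv] at h1
  have h2 := D.perp h1
  rwa [LinearMap.comp_apply, lm_apply] at h2

/-- **(b)** -/
theorem uniq {φ ψ : Dual (ZMod 2) N} (hφ : Tr H e φ) (hψ : Tr H e ψ) (hφ0 : φ ≠ 0) (hψ0 : ψ ≠ 0) : φ = ψ := by
  by_contra hne
  apply hφ0
  have key : ∀ g : H, Tr H (g • e) φ := by
    refine D.conn (fun p => Tr H p φ) hφ fun h hh => ?_
    -- another functional of `p = h • e`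
    obtain ⟨ψ1, hψ1, hψ10, hψ1φ⟩ : ∃ ψ1, Tr H (h • e) ψ1 ∧ ψ1 ≠ 0 ∧ ψ1 ≠ φ := by
      have hc : ∀ χ : Dual (ZMod 2) N, χ ≠ 0 → χ.comp (lm h⁻¹) ≠ 0 := by
        intro χ hχ h1
        apply hχ
        ext x
        have h2 := LinearMap.congr_fun h1 (h • x)
        rwa [LinearMap.comp_apply, lm_apply, inv_smul_smul] at h2
      by_cases h1 : φ.comp (lm h⁻¹) = φ
      · refine ⟨ψ.comp (lm h⁻¹), hψ.smul h, hc ψ hψ0, fun h2 => hne ?_⟩
        ext x
        have h3 := LinearMap.congr_fun (h1.trans h2.symm) (h • x)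
        rwa [LinearMap.comp_apply, LinearMap.comp_apply, lm_apply, inv_smul_smul] at h3
      · exact ⟨φ.comp (lm h⁻¹), hφ.smul h, hc φ hφ0, h1⟩
    -- a point `p'` which is not perpendicular to `p` with `φ (p') = 0`
    obtain ⟨k, hk, hkφ⟩ : ∃ k : H, NP H (h • e) (k • e) ∧ φ (k • e) = 0 := by
      by_contra hcon
      push Not at hcon
      have h1 : ∀ k : H, φ (k • e) = 0 → ψ1 (k • e) = 0 := by
        intro k hk
        rcases two_cases (ψ1 (k • e)) with h2 | h2
        · exact h2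
        · exact absurd hk (hcon k ⟨ψ1, hψ1, h2⟩)
      obtain ⟨g2, hg2⟩ := D.exists_pt hψ10
      have hg2' : φ (g2 • e) = 1 := by
        rcases two_cases (φ (g2 • e)) with h2 | h2
        · rw [h1 g2 h2] at hg2
          exact absurd hg2 zero_ne_one
        · exact h2
      obtain ⟨g1, hg1⟩ := D.exists_pt (φ := φ + ψ1) (fun h2 => hψ1φ (by
        have h3 : φ + ψ1 + ψ1 = 0 + ψ1 := by rw [h2]
        have h4 : ψ1 + ψ1 = 0 := by
          ext x
          rw [LinearMap.add_apply, c_add_self]; rfl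
        rw [add_assoc, h4, add_zero, zero_add] at h3
        exact h3.symm))
      rw [LinearMap.add_apply] at hg1
      have hg1' : φ (g1 • e) = 1 ∧ ψ1 (g1 • e) = 0 := by
        rcases two_cases (φ (g1 • e)) with h2 | h2
        · rw [h2, h1 g1 h2, add_zero] at hg1
          exact absurd hg1 zero_ne_one
        · refine ⟨h2, ?_⟩
          rw [h2] at hg1
          exact add_eq_left.1 hg1
      obtain ⟨φ', hφ', hφ'1⟩ := D.symm (g := h) (k := g1) ⟨φ, hh, hg1'.1⟩
      have h2 : Tr H (g1 • e) ψ1 := hφ'.key hφ'1 hψ1 hg1'.2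
      obtain ⟨-, t, ht⟩ := h2
      have h3 : (t * g2) • e = g2 • e + g1 • e := by rw [mul_smul, ht, hg2, one_smul]
      have h4 := h1 (t * g2) (by rw [h3, map_add, hg2', hg1'.1, c_add_self])
      rw [h3, map_add, hg2, hg1'.2, add_zero] at h4
      exact one_ne_zero h4
    -- `p' ∈ P0`
    obtain ⟨φ', hφ', hφ'1⟩ := D.symm hk
    have hkP : Tr H (k • e) φ := hφ'.key hφ'1 hh hkφ
    obtain ⟨l, hl, hle⟩ := D.mv
    obtain ⟨l', hl', hle'⟩ := D.mv'
    -- the two other points of the line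
    have two : ∀ g : H, φ (g • e) = 0 → φ' (g • e) = 1 → Tr H (g • e) φ := by
      intro g h1 h2
      obtain ⟨χ, hχ, hχ1⟩ := D.symm (g := k) (k := g) ⟨φ', hφ', h2⟩
      exact hχ.key hχ1 hkP h1
    have h1 : φ (h • e') = 0 := D.perp_smul hh
    have h2 : φ (h • (e + e')) = 0 := by rw [smul_add, map_add, hh.1, h1, add_zero]
    have e1 : h • e' = (h * l) • e := by rw [mul_smul, hle]
    have e2 : h • (e + e') = (h * l') • e := by rw [mul_smul, hle']
    rcases two_cases (φ' (h • e')) with h3 | h3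
    · have h4 : φ' (h • (e + e')) = 1 := by rw [smul_add, map_add, h3, add_zero, hφ'1]
      have h5 : Tr H (h • (e + e')) φ := by
        rw [e2] at h2 h4 ⊢
        exact two _ h2 h4
      refine ⟨?_, h5⟩
      have h6 := hh.add_pt h5
      rwa [smul_add, add_self_add] at h6
    · have h5 : Tr H (h • e') φ := by
        rw [e1] at h1 h3 ⊢
        exact two _ h1 h3
      refine ⟨h5, ?_⟩
      have h6 := hh.add_pt h5
      rwa [← smul_add] at h6
  refine D.ext_pts fun g => ?_
  rw [(key g).1]; rfl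

end Dat

end Cfsg.Agent.Omega.OM.PG.SymD1
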